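import Mathlib
import Cfsg.Agent.BlockLib.Omega
import Cfsg.Agent.CharLib.Complete
import Cfsg.Agent.CharLib.L.Linear

/-!
# A `p`-group of operators: orbit congruences in the local ring, conjugation actions,
the Brauer congruence for convolution
-/

set_option autoImplicit false

namespace Cfsg.Agent.Lib.Helper2

open Cfsg Cfsg.Agent.CharLib Cfsg.Agent.BlockLib Finset
open scoped ComplexConjugate

section orbit

open Classical in
/-- Weighted fixed point congruence for a `p`-group action, with values in the local ring. -/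
theorem memLocalIdeal_sum_sub_sum_fixed {P X : Type*} [Group P] [Finite P] [MulAction P X]
    [Fintype X] {p : ℕ} {M : Ideal AlgInt} (hM : IsPModular p M) (hP : IsPGroup p P) (f : X → ℂ)
    (hf : ∀ (g : P) (x : X), f (g • x) = f x) (hR : ∀ x, MemLocalRing M (f x)) :
    MemLocalIdeal M (∑ x, f x - ∑ x ∈ Finset.univ.filter (fun x => ∀ g : P, g • x = x), f x) := by
  haveI := isPrime_of_isPModular hM
  haveI : Fact p.Prime := ⟨hM.1⟩
  have key : ∀ v : ℂ, ((univ.filter (fun x => f x = v)).card : ℤ) ≡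
      (((univ.filter (fun x => ∀ g : P, g • x = x)).filter (fun x => f x = v)).card : ℤ) [ZMOD p] := by
    intro v
    letI : MulAction P {x // f x = v} :=
      { smul := fun g x => ⟨g • x.1, (hf g x.1).trans x.2⟩
        one_smul := fun x => Subtype.ext (one_smul P x.1)
        mul_smul := fun g h x => Subtype.ext (mul_smul g h x.1) }
    have h1 := hP.card_modEq_card_fixedPoints {x // f x = v}
    have h2 : Nat.card {x // f x = v} = (univ.filter (fun x => f x = v)).card := by
      rw [Nat.card_eq_fintype_card, Fintype.card_subtype]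
    have h3 : Nat.card (MulAction.fixedPoints P {x // f x = v}) =
        ((univ.filter (fun x => ∀ g : P, g • x = x)).filter (fun x => f x = v)).card := by
      rw [Finset.filter_filter, ← Fintype.card_subtype, ← Nat.card_eq_fintype_card]
      apply Nat.card_congr
      refine ⟨fun x => ⟨x.1.1, fun g => congrArg Subtype.val (x.2 g), x.1.2⟩,
        fun x => ⟨⟨x.1, x.2.2⟩, fun g => Subtype.ext (x.2.1 g)⟩, fun x => rfl, fun x => rfl⟩
    rw [h2, h3] at h1
    exact (Int.natCast_modEq_iff).2 h1
  rw [Finset.sum_comp (fun b : ℂ => b) f, Finset.sum_comp (fun b : ℂ => b) f]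
  have hsub : (univ.filter (fun x => ∀ g : P, g • x = x)).image f ⊆ univ.image f :=
    Finset.image_subset_image (Finset.filter_subset _ _)
  have e2 : ∑ b ∈ (univ.filter (fun x => ∀ g : P, g • x = x)).image f,
      ((univ.filter (fun x => ∀ g : P, g • x = x)).filter (fun x => f x = b)).card • (b : ℂ) =
      ∑ b ∈ univ.image f,
        ((univ.filter (fun x => ∀ g : P, g • x = x)).filter (fun x => f x = b)).card • (b : ℂ) := by
    apply Finset.sum_subset hsub
    intro v _ hv
    have : ((univ.filter (fun x => ∀ g : P, g • x = x)).filter (fun x => f x = v)) = ∅ := by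
      rw [Finset.filter_eq_empty_iff]
      intro x hx hfx
      exact hv (Finset.mem_image.2 ⟨x, hx, hfx⟩)
    rw [this]; simp
  rw [e2, ← Finset.sum_sub_distrib]
  refine memLocalIdeal_sum _ _ fun v hv => ?_
  obtain ⟨x, _, rfl⟩ := Finset.mem_image.1 hv
  obtain ⟨k, hk⟩ := (key (f x)).symm.dvd
  simp only [nsmul_eq_mul]
  rw [← sub_mul]
  refine memLocalIdeal_mul_right ?_ (hR x)
  have h5 : (((univ.filter (fun y => f y = f x)).card : ℂ) -
      (((univ.filter (fun x => ∀ g : P, g • x = x)).filter (fun y => f y = f x)).card : ℂ))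
      = (p : ℂ) * (k : ℂ) := by
    exact_mod_cast congrArg (fun z : ℤ => (z : ℂ)) hk
  rw [h5]
  exact memLocalIdeal_mul_right (memLocalIdeal_p hM) (memLocalRing_intCast (ne_top_of_isPModular hM) k)

end orbit

section act

variable {Γ : Type*} [Group Γ]

/-- `f` is invariant under conjugation by the elements of `S`. -/
def SInv (G S : Subgroup Γ) (f : G → ℂ) : Prop :=
  ∀ s ∈ S, ∀ g g' : G, (g' : Γ) = s * g * s⁻¹ → f g' = f g

/-- `S` normalises `G` (elementwise form). -/
def Nrm (G S : Subgroup Γ) : Prop := ∀ s ∈ S, ∀ g ∈ G, s * g * s⁻¹ ∈ G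

variable {G S : Subgroup Γ}

/-- conjugation by `s ∈ S` as an automorphism of `G`. -/
def cjEquiv (h : Nrm G S) (s : S) : G ≃* G where
  toFun g := ⟨(s : Γ) * g * (s : Γ)⁻¹, h s s.2 g g.2⟩
  invFun g := ⟨(s : Γ)⁻¹ * g * s, by simpa using h (s : Γ)⁻¹ (S.inv_mem s.2) g g.2⟩
  left_inv g := Subtype.ext (by simp [mul_assoc])
  right_inv g := Subtype.ext (by simp [mul_assoc])
  map_mul' a b := Subtype.ext (by simp [mul_assoc])

@[simp] theorem cjEquiv_coe (h : Nrm G S) (s : S) (g : G) :
    ((cjEquiv h s g : G) : Γ) = (s : Γ) * g * (s : Γ)⁻¹ := rfl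

@[simp] theorem cjEquiv_symm_coe (h : Nrm G S) (s : S) (g : G) :
    (((cjEquiv h s).symm g : G) : Γ) = (s : Γ)⁻¹ * g * s := rfl

/-- the conjugation action of `S` on `G`. -/
@[reducible] def conjAct (h : Nrm G S) : MulAction S G where
  smul s g := cjEquiv h s g
  one_smul g := Subtype.ext (by show ((1 : S) : Γ) * g * ((1 : S) : Γ)⁻¹ = g; simp)
  mul_smul s t g := Subtype.ext (by
    show ((s * t : S) : Γ) * g * ((s * t : S) : Γ)⁻¹ = s * (t * g * (t : Γ)⁻¹) * (s : Γ)⁻¹
    simp [mul_assoc])

/-- the conjugate character `χ^s (g) = χ (s⁻¹ g s)`. -/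
def irrConj (h : Nrm G S) (s : S) (χ : IrrCharacter G) : IrrCharacter G :=
  ⟨fun g => (χ : G → ℂ) ((cjEquiv h s).symm g),
    isIrrCharacter_comp_of_surjective χ.2 (cjEquiv h s).symm.toMonoidHom (cjEquiv h s).symm.surjective⟩

theorem irrConj_apply (h : Nrm G S) (s : S) (χ : IrrCharacter G) (g : G) :
    (irrConj h s χ : G → ℂ) g = (χ : G → ℂ) ((cjEquiv h s).symm g) := rfl

/-- the action of `S` on the irreducible characters of `G`. -/
@[reducible] def irrAct (h : Nrm G S) : MulAction S (IrrCharacter G) where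
  smul s χ := irrConj h s χ
  one_smul χ := Subtype.ext (funext fun g => by
    show (χ : G → ℂ) ((cjEquiv h 1).symm g) = (χ : G → ℂ) g
    refine congrArg (χ : G → ℂ) (Subtype.ext ?_)
    rw [cjEquiv_symm_coe]
    simp)
  mul_smul s t χ := Subtype.ext (funext fun g => by
    show (χ : G → ℂ) ((cjEquiv h (s * t)).symm g)
      = (χ : G → ℂ) ((cjEquiv h t).symm ((cjEquiv h s).symm g))
    refine congrArg (χ : G → ℂ) (Subtype.ext ?_)
    simp only [cjEquiv_symm_coe]
    simp [mul_assoc])

theorem SInv.apply_cjEquiv {f : G → ℂ} (hf : SInv G S f) (h : Nrm G S) (s : S) (g : G) :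
    f (cjEquiv h s g) = f g := hf s s.2 g _ rfl

theorem SInv.apply_cjEquiv_symm {f : G → ℂ} (hf : SInv G S f) (h : Nrm G S) (s : S) (g : G) :
    f ((cjEquiv h s).symm g) = f g := by
  conv_rhs => rw [← (cjEquiv h s).apply_symm_apply g]
  exact (hf.apply_cjEquiv h s _).symm

theorem sInv_iff_irrConj (h : Nrm G S) (χ : IrrCharacter G) :
    SInv G S (χ : G → ℂ) ↔ ∀ s : S, irrConj h s χ = χ := by
  constructor
  · intro hf s
    exact Subtype.ext (funext fun g => hf.apply_cjEquiv_symm h s g)
  · intro hf s hs g g' hg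
    have h1 := congrArg (fun ψ : IrrCharacter G => (ψ : G → ℂ) g') (hf ⟨s, hs⟩)
    simp only [irrConj_apply] at h1
    rw [← h1]
    refine congrArg (χ : G → ℂ) (Subtype.ext ?_)
    rw [cjEquiv_symm_coe, hg]
    simp [mul_assoc]

theorem mem_fixed_iff (h : Nrm G S) (g : G) :
    (∀ s : S, cjEquiv h s g = g) ↔ (g : Γ) ∈ G ⊓ Subgroup.centralizer (S : Set Γ) := by
  constructor
  · intro hg
    refine Subgroup.mem_inf.mpr ⟨g.2, Subgroup.mem_centralizer_iff.mpr fun s hs => ?_⟩
    have h1 := congrArg Subtype.val (hg ⟨s, hs⟩)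
    simp only [cjEquiv_coe] at h1
    calc s * g = s * g * s⁻¹ * s := by group
      _ = g * s := by rw [h1]
  · intro hg s
    have h1 := Subgroup.mem_centralizer_iff.mp (Subgroup.mem_inf.mp hg).2 s s.2
    exact Subtype.ext (by rw [cjEquiv_coe, h1]; group)

end act

end Cfsg.Agent.Lib.Helper2
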