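import Mathlib
import Cfsg.Agent.Lib.Helper2.GlauAct
import Cfsg.Agent.Lib.Helper23.DefectZero

/-!
# The Glauberman correspondence for a `p`-group of operators
-/

set_option autoImplicit false

namespace Cfsg.Agent.Lib.Helper2

open Cfsg Cfsg.Agent.CharLib Cfsg.Agent.BlockLib Finset
open scoped ComplexConjugate

section general

variable {G : Type*} [Group G] [Fintype G] {M : Ideal AlgInt}

theorem memLocalIdeal_omega [M.IsPrime] {χ f : G → ℂ} (hχ : IsIrrCharacter G χ)
    (hf : IsClassFunction G f) (hfR : ∀ g, MemLocalIdeal M (f g)) : MemLocalIdeal M (omega χ f) := by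
  classical
  rw [omega_eq_sum_classes (isClassFunction_of_irr hχ) hf]
  refine memLocalIdeal_sum _ _ fun C _ => memLocalIdeal_mul_right (hfR _) ?_
  exact memLocalRing_of_isIntegral (Ideal.IsPrime.ne_top ‹_›) (isIntegral_centralChar_irr hχ _)

theorem conv_idem_idem (χ ψ : IrrCharacter G) [Decidable (χ = ψ)] :
    conv (idem (χ : G → ℂ)) (idem (ψ : G → ℂ)) = if χ = ψ then idem (χ : G → ℂ) else 0 := by
  classical
  have hc : ∀ φ : IrrCharacter G, IsClassFunction G (idem (φ : G → ℂ)) := fun φ =>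
    isClassFunction_idem (isClassFunction_of_irr φ.2)
  apply eq_of_omega_eq (isClassFunction_conv (hc χ) (hc ψ))
  · split_ifs
    · exact hc χ
    · intro g h; rfl
  · intro φ
    rw [omega_conv φ.2 (hc χ) (hc ψ), omega_idem χ.2 φ.2, omega_idem ψ.2 φ.2]
    by_cases h : χ = ψ
    · subst h
      rw [if_pos rfl, omega_idem χ.2 φ.2]
      split_ifs <;> simp
    · rw [if_neg h, omega_zero]
      by_cases h1 : (φ : G → ℂ) = χ
      · have h2 : (φ : G → ℂ) ≠ ψ := fun h2 => h (Subtype.ext (h1.symm.trans h2))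
        rw [if_neg h2, mul_zero]
      · rw [if_neg h1, zero_mul]

theorem eq_sum_omega_idem {a : G → ℂ} (ha : IsClassFunction G a) :
    a = ∑ χ : IrrCharacter G, omega (χ : G → ℂ) a • idem (χ : G → ℂ) := by
  classical
  apply eq_of_omega_eq ha
  · exact isClassFunction_sum _ _ fun χ _ =>
      isClassFunction_smul _ (isClassFunction_idem (isClassFunction_of_irr χ.2))
  · intro φ
    rw [omega_sum]
    simp only [omega_smul]
    rw [Finset.sum_eq_single φ]
    · rw [omega_idem φ.2 φ.2, if_pos rfl, mul_one]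
    · intro χ _ hχ
      rw [omega_idem χ.2 φ.2, if_neg (fun h => hχ (Subtype.ext h.symm)), mul_zero]
    · intro h; exact absurd (Finset.mem_univ _) h

theorem isIntegral_irr (χ : IrrCharacter G) (g : G) : IsIntegral ℤ ((χ : G → ℂ) g) := by
  obtain ⟨n, ρ, _, h⟩ := χ.2
  rw [← h]
  exact isIntegral_character ρ g

theorem memLocalRing_idem {p : ℕ} (hM : IsPModular p M) (hp : ¬ p ∣ Nat.card G)
    (χ : IrrCharacter G) (g : G) : MemLocalRing M (idem (χ : G → ℂ) g) := by
  haveI := isPrime_of_isPModular hM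
  have hne := ne_top_of_isPModular hM
  rw [idem, ← isCharacter_inv (isCharacter_of_irr χ.2)]
  exact memLocalRing_mul (memLocalRing_natCast_inv hM hp)
    (memLocalRing_mul (memLocalRing_of_isIntegral hne (isIntegral_irr χ 1))
      (memLocalRing_of_isIntegral hne (isIntegral_irr χ _)))

end general

variable {Γ : Type*} [Group Γ] {G S C : Subgroup Γ} [Fintype G] [Fintype C] {p : ℕ}
  {M : Ideal AlgInt}

/-- restriction of a function on `G` to the subgroup `C ≤ G` of the ambient group. -/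
def resTo (hCG : C ≤ G) (F : G → ℂ) : C → ℂ := fun c => F ⟨c, hCG c.2⟩

omit [Fintype G] [Fintype C] in
theorem resTo_apply (hCG : C ≤ G) (F : G → ℂ) (c : C) : resTo hCG F c = F ⟨c, hCG c.2⟩ := rfl

omit [Fintype G] [Fintype C] in
theorem isClassFunction_resTo (hCG : C ≤ G) {F : G → ℂ} (hF : IsClassFunction G F) :
    IsClassFunction C (resTo hCG F) := fun g h => hF ⟨g, hCG g.2⟩ ⟨h, hCG h.2⟩

omit [Fintype G] [Fintype C] in
theorem isCharacter_resTo (hCG : C ≤ G) {F : G → ℂ} (hF : IsCharacter G F) :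
    IsCharacter C (resTo hCG F) := isCharacter_comp hF (Subgroup.inclusion hCG)

open Classical in
theorem sum_filter_mem_eq (hCG : C ≤ G) (F : G → ℂ) :
    ∑ x ∈ univ.filter (fun x : G => (x : Γ) ∈ C), F x = ∑ c : C, F ⟨c, hCG c.2⟩ := by
  symm
  refine Finset.sum_bij (fun c _ => (⟨c, hCG c.2⟩ : G)) ?_ ?_ ?_ ?_
  · intro c _
    exact Finset.mem_filter.mpr ⟨Finset.mem_univ _, c.2⟩
  · intro a _ b _ hab
    exact Subtype.ext (congrArg (fun x : G => (x : Γ)) hab)
  · intro b hb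
    exact ⟨⟨b, (Finset.mem_filter.mp hb).2⟩, Finset.mem_univ _, rfl⟩
  · intro c _; rfl

/-- the standing hypotheses -/
structure GP (G S C : Subgroup Γ) (p : ℕ) (M : Ideal AlgInt) : Prop where
  hnorm : Nrm G S
  hfin : Finite S
  hS : IsPGroup p S
  hM : IsPModular p M
  hpG : ¬ p ∣ Nat.card G
  hC : C = G ⊓ Subgroup.centralizer (S : Set Γ)

namespace GP

omit [Fintype G] [Fintype C] in
theorem le (h : GP G S C p M) : C ≤ G := h.hC ▸ inf_le_left

omit [Fintype G] [Fintype C] in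
theorem comm (h : GP G S C p M) {c s : Γ} (hc : c ∈ C) (hs : s ∈ S) : s * c = c * s := by
  rw [h.hC] at hc
  exact Subgroup.mem_centralizer_iff.mp (Subgroup.mem_inf.mp hc).2 s hs

/-- the sum over `G` of an `S`-invariant function is congruent to its sum over `C`. -/
theorem sum_congr (h : GP G S C p M) (F : G → ℂ) (hF : SInv G S F)
    (hR : ∀ g, MemLocalRing M (F g)) :
    MemLocalIdeal M (∑ x, F x - ∑ c : C, F ⟨c, h.le c.2⟩) := by
  classical
  haveI := h.hfin
  letI := conjAct h.hnorm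
  have h1 := memLocalIdeal_sum_sub_sum_fixed h.hM h.hS F
    (fun s x => hF.apply_cjEquiv h.hnorm s x) hR
  rw [← sum_filter_mem_eq h.le F]
  convert h1 using 3
  refine Finset.filter_congr fun x _ => ?_
  rw [h.hC]
  exact (mem_fixed_iff h.hnorm x).symm

theorem brauer_conv (h : GP G S C p M) {a b : G → ℂ} (ha : SInv G S a) (hb : SInv G S b)
    (haR : ∀ g, MemLocalRing M (a g)) (hbR : ∀ g, MemLocalRing M (b g)) (c : C) :
    MemLocalIdeal M (resTo h.le (conv a b) c - conv (resTo h.le a) (resTo h.le b) c) := by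
  haveI := isPrime_of_isPModular h.hM
  have h1 := h.sum_congr (fun x : G => a x * b (x⁻¹ * ⟨c, h.le c.2⟩)) ?_
    (fun g => memLocalRing_mul (haR _) (hbR _))
  · exact h1
  · intro s hs g g' hg
    show a g' * b _ = a g * b _
    rw [ha s hs g g' hg]
    congr 1
    refine hb s hs _ _ ?_
    have h2 := h.comm c.2 hs
    show (g' : Γ)⁻¹ * c = s * ((g : Γ)⁻¹ * c) * s⁻¹
    rw [hg]
    have h3 : (c : Γ) = s * c * s⁻¹ := by rw [h2]; group
    conv_lhs => rw [h3]
    group

end GP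

/-- `ω_β (Br e_χ)`. -/
noncomputable def aCoef (hCG : C ≤ G) (χ : IrrCharacter G) (β : IrrCharacter C) : ℂ :=
  omega (β : C → ℂ) (resTo hCG (idem (χ : G → ℂ)))

theorem aCoef_eq (hCG : C ≤ G) (χ : IrrCharacter G) (β : IrrCharacter C) :
    aCoef hCG χ β = ((Nat.card G : ℂ)⁻¹ * (χ : G → ℂ) 1 * (Nat.card C : ℂ) / (β : C → ℂ) 1) *
      conj (classInner (resTo hCG (χ : G → ℂ)) (β : C → ℂ)) := by
  have hC0 : (Nat.card C : ℂ) ≠ 0 := by exact_mod_cast Nat.card_pos.ne'
  rw [aCoef, omega, classInner, map_mul, map_inv₀, map_natCast, map_sum]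
  simp only [map_mul, Complex.conj_conj, resTo_apply, idem]
  rw [div_mul_eq_mul_div]
  congr 1
  rw [mul_assoc _ (Nat.card C : ℂ), mul_inv_cancel_left₀ hC0, Finset.mul_sum]
  refine Finset.sum_congr rfl fun c _ => ?_
  ring

omit [Fintype G] [Fintype C] in
theorem SInv.idem {χ : G → ℂ} (hχ : SInv G S χ) : SInv G S (idem χ) := by
  intro s hs g g' hg
  simp only [BlockLib.idem, hχ s hs g g' hg]

theorem omega_irrConj (hn : Nrm G S) {a : G → ℂ} (ha : SInv G S a) (s : S) (χ : IrrCharacter G) :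
    omega (irrConj hn s χ : G → ℂ) a = omega (χ : G → ℂ) a := by
  rw [omega, omega]
  congr 1
  · refine Fintype.sum_equiv (cjEquiv hn s).symm.toEquiv _ _ fun g => ?_
    rw [irrConj_apply]
    show a g * _ = a ((cjEquiv hn s).symm g) * _
    rw [ha.apply_cjEquiv_symm hn s g]
    rfl
  · rw [irrConj_apply, map_one]

namespace GP

theorem aCoef_irrConj (h : GP G S C p M) (s : S) (χ : IrrCharacter G) (β : IrrCharacter C) :
    aCoef h.le (irrConj h.hnorm s χ) β = aCoef h.le χ β := by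
  rw [aCoef, aCoef]
  congr 1
  funext c
  simp only [resTo_apply, idem, irrConj_apply, map_one]
  congr 3
  refine congrArg (χ : G → ℂ) (Subtype.ext ?_)
  rw [cjEquiv_symm_coe]
  show (s : Γ)⁻¹ * c * s = c
  rw [mul_assoc, ← h.comm c.2 s.2]
  group

theorem memLocalRing_aCoef (h : GP G S C p M) (χ : IrrCharacter G) (β : IrrCharacter C) :
    MemLocalRing M (aCoef h.le χ β) := by
  haveI := isPrime_of_isPModular h.hM
  exact memLocalRing_omega β.2
    (isClassFunction_resTo h.le (isClassFunction_idem (isClassFunction_of_irr χ.2)))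
    (fun c => memLocalRing_idem h.hM h.hpG χ _)

theorem aCoef_mul (h : GP G S C p M) {χ χ' : IrrCharacter G} (hχ : SInv G S (χ : G → ℂ))
    (hχ' : SInv G S (χ' : G → ℂ)) (β : IrrCharacter C) [Decidable (χ = χ')] :
    MemLocalIdeal M (aCoef h.le χ β * aCoef h.le χ' β - if χ = χ' then aCoef h.le χ β else 0) := by
  haveI := isPrime_of_isPModular h.hM
  have hc : ∀ φ : IrrCharacter G, IsClassFunction G (idem (φ : G → ℂ)) := fun φ =>
    isClassFunction_idem (isClassFunction_of_irr φ.2)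
  have h1 : MemLocalIdeal M (omega (β : C → ℂ)
      (resTo h.le (conv (idem (χ : G → ℂ)) (idem (χ' : G → ℂ)))
        - conv (resTo h.le (idem (χ : G → ℂ))) (resTo h.le (idem (χ' : G → ℂ))))) := by
    refine memLocalIdeal_omega β.2 ?_ fun c => ?_
    · exact isClassFunction_sub (isClassFunction_resTo h.le (isClassFunction_conv (hc χ) (hc χ')))
        (isClassFunction_conv (isClassFunction_resTo h.le (hc χ)) (isClassFunction_resTo h.le (hc χ')))
    · exact h.brauer_conv hχ.idem hχ'.idem (memLocalRing_idem h.hM h.hpG χ)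
        (memLocalRing_idem h.hM h.hpG χ') c
  rw [omega_sub, omega_conv β.2 (isClassFunction_resTo h.le (hc χ))
    (isClassFunction_resTo h.le (hc χ')), conv_idem_idem] at h1
  have h2 := memLocalIdeal_neg h1
  rw [neg_sub] at h2
  have h3 : (if χ = χ' then aCoef h.le χ β else 0)
      = omega (β : C → ℂ) (resTo h.le (if χ = χ' then idem (χ : G → ℂ) else 0)) := by
    split_ifs
    · rfl
    · exact (omega_zero _).symm
  rw [h3]
  exact h2

open Classical in
/-- the central character of `β` on a restricted invariant class function. -/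
theorem omega_resTo_congr (h : GP G S C p M) {a : G → ℂ} (ha : IsClassFunction G a)
    (hinv : SInv G S a) (haR : ∀ g, MemLocalRing M (a g)) (β : IrrCharacter C) :
    MemLocalIdeal M (omega (β : C → ℂ) (resTo h.le a) -
      ∑ χ ∈ univ.filter (fun χ : IrrCharacter G => SInv G S (χ : G → ℂ)),
        omega (χ : G → ℂ) a * aCoef h.le χ β) := by
  haveI := isPrime_of_isPModular h.hM
  haveI := h.hfin
  have h1 : resTo h.le a = ∑ χ : IrrCharacter G, omega (χ : G → ℂ) a • resTo h.le (idem (χ : G → ℂ)) := by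
    funext c
    rw [resTo_apply]
    conv_lhs => rw [eq_sum_omega_idem ha]
    simp only [Finset.sum_apply, Pi.smul_apply, resTo_apply]
  have h2 : omega (β : C → ℂ) (resTo h.le a)
      = ∑ χ : IrrCharacter G, omega (χ : G → ℂ) a * aCoef h.le χ β := by
    rw [h1, omega_sum]
    simp only [omega_smul, aCoef]
  rw [h2]
  letI := irrAct h.hnorm
  have h3 := memLocalIdeal_sum_sub_sum_fixed h.hM h.hS
    (fun χ : IrrCharacter G => omega (χ : G → ℂ) a * aCoef h.le χ β)
    (fun s χ => by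
      show omega (irrConj h.hnorm s χ : G → ℂ) a * aCoef h.le (irrConj h.hnorm s χ) β = _
      rw [omega_irrConj h.hnorm hinv, h.aCoef_irrConj])
    (fun χ => memLocalRing_mul (memLocalRing_omega χ.2 ha haR) (h.memLocalRing_aCoef χ β))
  convert h3 using 3
  refine Finset.filter_congr fun χ _ => ?_
  exact sInv_iff_irrConj h.hnorm χ

theorem aCoef_zero_or_one (h : GP G S C p M) {χ : IrrCharacter G} (hχ : SInv G S (χ : G → ℂ))
    (β : IrrCharacter C) :
    MemLocalIdeal M (aCoef h.le χ β) ∨ MemLocalIdeal M (aCoef h.le χ β - 1) := by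
  classical
  haveI := isPrime_of_isPModular h.hM
  have h1 := h.aCoef_mul hχ hχ β
  rw [if_pos rfl] at h1
  have h2 : aCoef h.le χ β * aCoef h.le χ β - aCoef h.le χ β
      = aCoef h.le χ β * (aCoef h.le χ β - 1) := by ring
  rw [h2] at h1
  exact memLocalIdeal_or_of_mul (h.memLocalRing_aCoef χ β)
    (memLocalRing_sub (h.memLocalRing_aCoef χ β) (memLocalRing_one (ne_top_of_isPModular h.hM))) h1

theorem chi_unique (h : GP G S C p M) {χ χ' : IrrCharacter G} (hχ : SInv G S (χ : G → ℂ))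
    (hχ' : SInv G S (χ' : G → ℂ)) (β : IrrCharacter C) (hA : ¬ MemLocalIdeal M (aCoef h.le χ β))
    (hA' : ¬ MemLocalIdeal M (aCoef h.le χ' β)) : χ = χ' := by
  classical
  haveI := isPrime_of_isPModular h.hM
  by_contra hne
  have h1 := h.aCoef_mul hχ hχ' β
  rw [if_neg hne, sub_zero] at h1
  rcases memLocalIdeal_or_of_mul (h.memLocalRing_aCoef χ β) (h.memLocalRing_aCoef χ' β) h1 with h2 | h2
  · exact hA h2
  · exact hA' h2

omit [Fintype G] [Fintype C] in
theorem resTo_delta (hCG : C ≤ G) : resTo hCG (delta : G → ℂ) = (delta : C → ℂ) := by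
  classical
  funext c
  rw [resTo_apply, delta_apply, delta_apply]
  have : ((⟨c, hCG c.2⟩ : G) = 1) ↔ c = 1 := by
    constructor
    · intro h1
      exact Subtype.ext (congrArg (fun x : G => (x : Γ)) h1)
    · rintro rfl; rfl
  simp only [this]

omit [Fintype G] in
theorem sInv_delta : SInv G S (delta : G → ℂ) := by
  classical
  intro s hs g g' hg
  rw [delta_apply, delta_apply]
  have : g' = 1 ↔ g = 1 := by
    constructor
    · intro h1
      apply Subtype.ext
      have h2 : s * (g : Γ) * s⁻¹ = 1 := by rw [← hg, h1]; rfl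
      have h3 : (g : Γ) = s⁻¹ * (s * (g : Γ) * s⁻¹) * s := by group
      rw [h3, h2]; simp
    · rintro rfl
      apply Subtype.ext
      rw [hg]; simp
  simp only [this]

theorem exists_chi (h : GP G S C p M) (β : IrrCharacter C) :
    ∃ χ : IrrCharacter G, SInv G S (χ : G → ℂ) ∧ ¬ MemLocalIdeal M (aCoef h.le χ β) := by
  classical
  haveI := isPrime_of_isPModular h.hM
  have hne := ne_top_of_isPModular h.hM
  by_contra hcon
  push_neg at hcon
  have h1 := h.omega_resTo_congr isClassFunction_delta sInv_delta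
    (fun g => by
      rw [delta_apply]
      split_ifs
      · exact memLocalRing_one hne
      · exact memLocalRing_zero hne) β
  rw [resTo_delta, omega_delta (irr_apply_one_ne_zero β)] at h1
  have h2 : MemLocalIdeal M (∑ χ ∈ univ.filter (fun χ : IrrCharacter G => SInv G S (χ : G → ℂ)),
        omega (χ : G → ℂ) (delta : G → ℂ) * aCoef h.le χ β) := by
    refine memLocalIdeal_sum _ _ fun χ hχ => ?_
    rw [omega_delta (irr_apply_one_ne_zero χ), one_mul]
    exact hcon χ (Finset.mem_filter.mp hχ).2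
  have h3 := memLocalIdeal_add h1 h2
  rw [sub_add_cancel] at h3
  exact not_memLocalIdeal_one h3

theorem omega_congr (h : GP G S C p M) {χ : IrrCharacter G} (hχ : SInv G S (χ : G → ℂ))
    (β : IrrCharacter C) (hA : ¬ MemLocalIdeal M (aCoef h.le χ β)) {a : G → ℂ}
    (ha : IsClassFunction G a) (hinv : SInv G S a) (haR : ∀ g, MemLocalRing M (a g)) :
    MemLocalIdeal M (omega (β : C → ℂ) (resTo h.le a) - omega (χ : G → ℂ) a) := by
  classical
  haveI := isPrime_of_isPModular h.hM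
  have h1 := h.omega_resTo_congr ha hinv haR β
  have hmem : χ ∈ univ.filter (fun χ : IrrCharacter G => SInv G S (χ : G → ℂ)) :=
    Finset.mem_filter.mpr ⟨Finset.mem_univ _, hχ⟩
  rw [← Finset.add_sum_erase _ _ hmem] at h1
  have h2 : MemLocalIdeal M (∑ χ' ∈ (univ.filter
      (fun χ : IrrCharacter G => SInv G S (χ : G → ℂ))).erase χ,
        omega (χ' : G → ℂ) a * aCoef h.le χ' β) := by
    refine memLocalIdeal_sum _ _ fun χ' hχ' => ?_
    have h3 := Finset.mem_erase.mp hχ'
    refine memLocalIdeal_mul_left (memLocalRing_omega χ'.2 ha haR) ?_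
    by_contra h4
    exact h3.1 (h.chi_unique (Finset.mem_filter.mp h3.2).2 hχ β h4 hA)
  have h5 : MemLocalIdeal M (omega (χ : G → ℂ) a * (aCoef h.le χ β - 1)) := by
    refine memLocalIdeal_mul_left (memLocalRing_omega χ.2 ha haR) ?_
    exact (h.aCoef_zero_or_one hχ β).resolve_left hA
  have h6 := memLocalIdeal_add (memLocalIdeal_add h1 h2) h5
  convert h6 using 1
  ring

/-- `G`-conjugate elements of `C` are `C`-conjugate. -/
theorem fusion (h : GP G S C p M) {c c' g : Γ} (hc : c ∈ C) (hc' : c' ∈ C) (hg : g ∈ G)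
    (hconj : g * c * g⁻¹ = c') : ∃ z ∈ C, z * c * z⁻¹ = c' := by
  classical
  haveI := h.hfin
  haveI : Fact p.Prime := ⟨h.hM.1⟩
  let X := {x : G // (x : Γ) * c * (x : Γ)⁻¹ = c'}
  letI : MulAction S X :=
    { smul := fun s x => ⟨cjEquiv h.hnorm s x.1, by
        rw [cjEquiv_coe]
        have h1 := h.comm hc s.2
        have h2 := h.comm hc' s.2
        have h3 : (s : Γ)⁻¹ * c * s = c := by rw [mul_assoc, ← h1]; group
        calc (s : Γ) * x.1 * (s : Γ)⁻¹ * c * ((s : Γ) * x.1 * (s : Γ)⁻¹)⁻¹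
            = s * (x.1 * ((s : Γ)⁻¹ * c * s) * (x.1 : Γ)⁻¹) * (s : Γ)⁻¹ := by group
          _ = s * c' * (s : Γ)⁻¹ := by rw [h3, x.2]
          _ = c' := by rw [h2]; group⟩
      one_smul := fun x => Subtype.ext (Subtype.ext (by
        show ((1 : S) : Γ) * x.1 * ((1 : S) : Γ)⁻¹ = x.1
        simp))
      mul_smul := fun s t x => Subtype.ext (Subtype.ext (by
        show ((s * t : S) : Γ) * x.1 * ((s * t : S) : Γ)⁻¹ = s * (t * x.1 * (t : Γ)⁻¹) * (s : Γ)⁻¹
        simp [mul_assoc])) }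
  let Z : Subgroup G := (Subgroup.centralizer ({c} : Set Γ)).subgroupOf G
  have hcard : Nat.card X = Nat.card Z := by
    symm
    apply Nat.card_congr
    refine ⟨fun z => ⟨⟨g, hg⟩ * z.1, ?_⟩, fun x => ⟨⟨g, hg⟩⁻¹ * x.1, ?_⟩, ?_, ?_⟩
    · have h1 : (z.1 : Γ) ∈ Subgroup.centralizer ({c} : Set Γ) := Subgroup.mem_subgroupOf.mp z.2
      have h2 := Subgroup.mem_centralizer_singleton_iff.mp h1
      show g * (z.1 : Γ) * c * (g * (z.1 : Γ))⁻¹ = c'
      rw [← hconj, mul_assoc g, h2]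
      group
    · refine Subgroup.mem_subgroupOf.mpr (Subgroup.mem_centralizer_singleton_iff.mpr ?_)
      show g⁻¹ * (x.1 : Γ) * c = c * (g⁻¹ * (x.1 : Γ))
      obtain ⟨y, hy⟩ := x
      show g⁻¹ * (y : Γ) * c = c * (g⁻¹ * (y : Γ))
      have h1 : (y : Γ) * c = g * c * g⁻¹ * y := by rw [hconj, ← hy]; group
      rw [mul_assoc, h1]
      group
    · intro z
      exact Subtype.ext (by simp)
    · intro x
      exact Subtype.ext (by simp)
  have hnd : ¬ p ∣ Nat.card X := by
    rw [hcard]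
    exact fun hd => h.hpG (hd.trans (Subgroup.card_subgroup_dvd_card Z))
  obtain ⟨x, hx⟩ := h.hS.nonempty_fixed_point_of_prime_not_dvd_card X hnd
  refine ⟨x.1, ?_, x.2⟩
  rw [h.hC]
  refine (mem_fixed_iff h.hnorm x.1).mp fun s => ?_
  exact congrArg Subtype.val (hx s)

open Classical in
/-- every integral class function of `C` is the restriction of an integral `S`-invariant class
function of `G`. -/
theorem exists_ext (h : GP G S C p M) {f : C → ℂ} (hf : IsClassFunction C f)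
    (hfR : ∀ c, MemLocalRing M (f c)) :
    ∃ a : G → ℂ, IsClassFunction G a ∧ SInv G S a ∧ (∀ g, MemLocalRing M (a g)) ∧
      resTo h.le a = f := by
  let Rel : G → C → Prop := fun g c => ∃ x : G, (x : Γ) * c * (x : Γ)⁻¹ = g
  let a : G → ℂ := fun g => if hx : ∃ c : C, Rel g c then f hx.choose else 0
  have ha1 : ∀ g c, Rel g c → a g = f c := by
    intro g c hgc
    have hx : ∃ c : C, Rel g c := ⟨c, hgc⟩
    show (if hx : ∃ c : C, Rel g c then f hx.choose else 0) = f c
    rw [dif_pos hx]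
    obtain ⟨x₀, hx₀⟩ := hx.choose_spec
    obtain ⟨x, hx1⟩ := hgc
    obtain ⟨z, hz, hz1⟩ := h.fusion (c := (hx.choose : Γ)) (c' := (c : Γ)) (g := (x : Γ)⁻¹ * x₀)
      hx.choose.2 c.2 (G.mul_mem (G.inv_mem x.2) x₀.2) (by
        have : (x : Γ)⁻¹ * x₀ * hx.choose * ((x : Γ)⁻¹ * x₀)⁻¹
            = (x : Γ)⁻¹ * ((x₀ : Γ) * hx.choose * (x₀ : Γ)⁻¹) * x := by group
        rw [this, hx₀, ← hx1]
        group)
    have h2 : c = ⟨z, hz⟩ * hx.choose * ⟨z, hz⟩⁻¹ := Subtype.ext hz1.symm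
    rw [h2, hf]
  have ha2 : ∀ g g' : G, (∀ c, Rel g c ↔ Rel g' c) → a g = a g' := by
    intro g g' hgg
    by_cases hx : ∃ c : C, Rel g c
    · obtain ⟨c, hc⟩ := hx
      rw [ha1 g c hc, ha1 g' c ((hgg c).mp hc)]
    · have hx' : ¬ ∃ c : C, Rel g' c := fun ⟨c, hc⟩ => hx ⟨c, (hgg c).mpr hc⟩
      show (if hx : ∃ c : C, Rel g c then f hx.choose else 0)
        = (if hx : ∃ c : C, Rel g' c then f hx.choose else 0)
      rw [dif_neg hx, dif_neg hx']
  refine ⟨a, ?_, ?_, ?_, ?_⟩
  · intro g y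
    refine ha2 _ _ fun c => ⟨?_, ?_⟩
    · rintro ⟨x, hx⟩
      refine ⟨y⁻¹ * x, ?_⟩
      have h1 : (g : Γ) = (y : Γ)⁻¹ * ((y * g * y⁻¹ : G) : Γ) * y := by
        simp [mul_assoc]
      rw [h1, ← hx]
      simp [mul_assoc]
    · rintro ⟨x, hx⟩
      refine ⟨y * x, ?_⟩
      show ((y * x : G) : Γ) * c * ((y * x : G) : Γ)⁻¹ = (y : Γ) * g * (y : Γ)⁻¹
      rw [← hx]
      simp [mul_assoc]
  · intro s hs g g' hg
    refine ha2 _ _ fun c => ⟨?_, ?_⟩
    · rintro ⟨x, hx⟩
      refine ⟨(cjEquiv h.hnorm ⟨s, hs⟩).symm x, ?_⟩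
      rw [cjEquiv_symm_coe]
      have h1 : (g : Γ) = s⁻¹ * g' * s := by rw [hg]; group
      have h2 : s⁻¹ * (c : Γ) * s = c := by rw [mul_assoc, ← h.comm c.2 hs]; group
      rw [h1, ← hx]
      show s⁻¹ * (x : Γ) * s * c * (s⁻¹ * (x : Γ) * s)⁻¹ = _
      conv_lhs => rw [← h2]
      group
    · rintro ⟨x, hx⟩
      refine ⟨cjEquiv h.hnorm ⟨s, hs⟩ x, ?_⟩
      rw [cjEquiv_coe, hg, ← hx]
      have h2 : s * (c : Γ) * s⁻¹ = c := by rw [h.comm c.2 hs]; group
      show s * (x : Γ) * s⁻¹ * c * (s * (x : Γ) * s⁻¹)⁻¹ = _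
      conv_lhs => rw [← h2]
      group
  · intro g
    show MemLocalRing M (if hx : ∃ c : C, Rel g c then f hx.choose else 0)
    split_ifs
    · exact hfR _
    · exact memLocalRing_zero (ne_top_of_isPModular h.hM)
  · funext c
    rw [resTo_apply]
    exact ha1 _ c ⟨1, by simp⟩

omit [Fintype G] [Fintype C] in
theorem not_dvd_card_C [Finite G] (h : GP G S C p M) : ¬ p ∣ Nat.card C :=
  fun hd => h.hpG (hd.trans (Subgroup.card_dvd_of_le h.le))

theorem beta_unique (h : GP G S C p M) {χ : IrrCharacter G} (hχ : SInv G S (χ : G → ℂ))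
    {β₁ β₂ : IrrCharacter C} (h1 : ¬ MemLocalIdeal M (aCoef h.le χ β₁))
    (h2 : ¬ MemLocalIdeal M (aCoef h.le χ β₂)) : β₁ = β₂ := by
  classical
  haveI := isPrime_of_isPModular h.hM
  by_contra hne
  obtain ⟨a, ha, hinv, haR, hres⟩ := h.exists_ext
    (isClassFunction_idem (isClassFunction_of_irr β₁.2))
    (memLocalRing_idem h.hM h.not_dvd_card_C β₁)
  have e1 := h.omega_congr hχ β₁ h1 ha hinv haR
  have e2 := h.omega_congr hχ β₂ h2 ha hinv haR
  rw [hres, omega_idem β₁.2 β₁.2, if_pos rfl] at e1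
  rw [hres, omega_idem β₁.2 β₂.2, if_neg (fun hh => hne (Subtype.ext hh.symm))] at e2
  have e3 := memLocalIdeal_sub e1 e2
  have e4 : (1 - omega (χ : G → ℂ) a - (0 - omega (χ : G → ℂ) a)) = 1 := by ring
  rw [e4] at e3
  exact not_memLocalIdeal_one e3

theorem aCoef_mem_iff (h : GP G S C p M) (χ : IrrCharacter G) (β : IrrCharacter C) {m : ℕ}
    (hm : classInner (resTo h.le (χ : G → ℂ)) (β : C → ℂ) = m) :
    MemLocalIdeal M (aCoef h.le χ β) ↔ p ∣ m := by
  haveI := isPrime_of_isPModular h.hM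
  have hne := ne_top_of_isPModular h.hM
  obtain ⟨n, hn0, hn1, hn2⟩ := L.irr_degree_dvd χ
  obtain ⟨k, hk0, hk1, hk2⟩ := L.irr_degree_dvd β
  have hpn : ¬ p ∣ n := fun hd => h.hpG (hd.trans hn2)
  have hpk : ¬ p ∣ k := fun hd => h.not_dvd_card_C (hd.trans hk2)
  have hG0 : (Nat.card G : ℂ) ≠ 0 := by exact_mod_cast Nat.card_pos.ne'
  have hC0 : (Nat.card C : ℂ) ≠ 0 := by exact_mod_cast Nat.card_pos.ne'
  have hn0' : (n : ℂ) ≠ 0 := by exact_mod_cast hn0.ne'
  have hk0' : (k : ℂ) ≠ 0 := by exact_mod_cast hk0.ne'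
  have hA := aCoef_eq h.le χ β
  rw [hm, hn1, hk1, Complex.conj_natCast] at hA
  rw [← memLocalIdeal_natCast_iff h.hM m]
  constructor
  · intro h1
    have h2 : (m : ℂ) = aCoef h.le χ β *
        (((Nat.card G : ℂ) * (k : ℂ)) * ((n : ℂ)⁻¹ * (Nat.card C : ℂ)⁻¹)) := by
      rw [hA]; field_simp
    rw [h2]
    exact memLocalIdeal_mul_right h1 (memLocalRing_mul
      (memLocalRing_mul (memLocalRing_natCast hne _) (memLocalRing_natCast hne _))
      (memLocalRing_mul (memLocalRing_natCast_inv h.hM hpn)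
        (memLocalRing_natCast_inv h.hM h.not_dvd_card_C)))
  · intro h1
    rw [hA, div_eq_mul_inv]
    exact memLocalIdeal_mul_left (memLocalRing_mul (memLocalRing_mul (memLocalRing_mul
      (memLocalRing_natCast_inv h.hM h.hpG) (memLocalRing_natCast hne _))
      (memLocalRing_natCast hne _)) (memLocalRing_natCast_inv h.hM hpk)) h1

omit [Fintype G] in
theorem exists_mult [Finite G] (hCG : C ≤ G) (χ : IrrCharacter G) (β : IrrCharacter C) :
    ∃ m : ℕ, classInner (resTo hCG (χ : G → ℂ)) (β : C → ℂ) = m :=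
  classInner_char_nat (isCharacter_resTo hCG (isCharacter_of_irr χ.2)) (isCharacter_of_irr β.2)

omit [Fintype G] in
theorem apply_one_eq_sum (hCG : C ≤ G) (χ : IrrCharacter G) :
    (χ : G → ℂ) 1 = ∑ β : IrrCharacter C,
      classInner (resTo hCG (χ : G → ℂ)) (β : C → ℂ) * (β : C → ℂ) 1 := by
  have h1 := classFunction_eq_sum (isClassFunction_resTo hCG (isClassFunction_of_irr χ.2))
  have h2 := congrFun h1 1
  simp only [Finset.sum_apply, Pi.smul_apply, smul_eq_mul] at h2
  rw [← h2]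
  rfl

theorem exists_beta (h : GP G S C p M) (χ : IrrCharacter G) :
    ∃ β : IrrCharacter C, ¬ MemLocalIdeal M (aCoef h.le χ β) := by
  haveI := isPrime_of_isPModular h.hM
  have hne := ne_top_of_isPModular h.hM
  by_contra hcon
  push_neg at hcon
  obtain ⟨n, hn0, hn1, hn2⟩ := L.irr_degree_dvd χ
  have h1 : MemLocalIdeal M ((χ : G → ℂ) 1) := by
    rw [apply_one_eq_sum h.le χ]
    refine memLocalIdeal_sum _ _ fun β _ => ?_
    obtain ⟨m, hm⟩ := exists_mult h.le χ β
    rw [hm]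
    exact memLocalIdeal_mul_right ((memLocalIdeal_natCast_iff h.hM m).mpr
      ((h.aCoef_mem_iff χ β hm).mp (hcon β)))
      (memLocalRing_of_isIntegral hne (isIntegral_irr β 1))
  rw [hn1, memLocalIdeal_natCast_iff h.hM] at h1
  exact h.hpG (h1.trans hn2)

theorem card_congr (h : GP G S C p M) :
    MemLocalIdeal M ((Nat.card G : ℂ) - (Nat.card C : ℂ)) := by
  have h1 := h.sum_congr (fun _ => 1) (fun _ _ _ _ _ => rfl)
    (fun _ => memLocalRing_one (ne_top_of_isPModular h.hM))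
  simpa [Nat.card_eq_fintype_card] using h1

theorem mult_pm_one (h : GP G S C p M) {χ : IrrCharacter G} (hχ : SInv G S (χ : G → ℂ))
    (β : IrrCharacter C) {m : ℕ} (hm : classInner (resTo h.le (χ : G → ℂ)) (β : C → ℂ) = m)
    (hpm : ¬ p ∣ m) : (m : ℤ) ≡ 1 [ZMOD p] ∨ (m : ℤ) ≡ -1 [ZMOD p] := by
  classical
  haveI := isPrime_of_isPModular h.hM
  have hne := ne_top_of_isPModular h.hM
  obtain ⟨n, hn0, hn1, hn2⟩ := L.irr_degree_dvd χ
  obtain ⟨k, hk0, hk1, hk2⟩ := L.irr_degree_dvd β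
  have hpk : ¬ p ∣ k := fun hd => h.not_dvd_card_C (hd.trans hk2)
  have hG0 : (Nat.card G : ℂ) ≠ 0 := by exact_mod_cast Nat.card_pos.ne'
  have hk0' : (k : ℂ) ≠ 0 := by exact_mod_cast hk0.ne'
  have hA0 : ¬ MemLocalIdeal M (aCoef h.le χ β) := fun hh => hpm ((h.aCoef_mem_iff χ β hm).mp hh)
  have hA1 := (h.aCoef_zero_or_one hχ β).resolve_left hA0
  have hA := aCoef_eq h.le χ β
  rw [hm, hn1, hk1, Complex.conj_natCast] at hA
  -- χ(1) ≡ m β(1)
  have h1 : MemLocalIdeal M ((n : ℂ) - (m : ℂ) * (k : ℂ)) := by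
    rw [← hn1, apply_one_eq_sum h.le χ, ← Finset.add_sum_erase _ _ (Finset.mem_univ β), hm, hk1,
      add_sub_cancel_left]
    refine memLocalIdeal_sum _ _ fun β' hβ' => ?_
    obtain ⟨m', hm'⟩ := exists_mult h.le χ β'
    rw [hm']
    refine memLocalIdeal_mul_right ((memLocalIdeal_natCast_iff h.hM m').mpr ?_)
      (memLocalRing_of_isIntegral hne (isIntegral_irr β' 1))
    by_contra hd
    exact (Finset.mem_erase.mp hβ').1 (h.beta_unique hχ
      (fun hh => hd ((h.aCoef_mem_iff χ β' hm').mp hh)) hA0)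
  have h2 : MemLocalIdeal M ((Nat.card C : ℂ) * (k : ℂ) * ((m : ℂ) ^ 2 - 1)) := by
    have e : (Nat.card C : ℂ) * (k : ℂ) * ((m : ℂ) ^ 2 - 1)
        = (aCoef h.le χ β - 1) * ((Nat.card G : ℂ) * (k : ℂ))
          - ((n : ℂ) - (m : ℂ) * (k : ℂ)) * ((Nat.card C : ℂ) * (m : ℂ))
          + ((Nat.card G : ℂ) - (Nat.card C : ℂ)) * (k : ℂ) := by
      rw [hA]; field_simp; ring
    rw [e]
    exact memLocalIdeal_add (memLocalIdeal_sub
      (memLocalIdeal_mul_right hA1 (memLocalRing_mul (memLocalRing_natCast hne _)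
        (memLocalRing_natCast hne _)))
      (memLocalIdeal_mul_right h1 (memLocalRing_mul (memLocalRing_natCast hne _)
        (memLocalRing_natCast hne _))))
      (memLocalIdeal_mul_right h.card_congr (memLocalRing_natCast hne _))
  have h3 : (p : ℤ) ∣ (Nat.card C : ℤ) * (k : ℤ) * ((m : ℤ) ^ 2 - 1) := by
    rw [← memLocalIdeal_intCast_iff h.hM]
    push_cast
    exact h2
  have hp' : Prime (p : ℤ) := Nat.prime_iff_prime_int.mp h.hM.1
  have h4 : (p : ℤ) ∣ ((m : ℤ) ^ 2 - 1) := by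
    rcases hp'.dvd_or_dvd h3 with h5 | h5
    · rcases hp'.dvd_or_dvd h5 with h6 | h6
      · exact absurd (Int.natCast_dvd_natCast.mp h6) h.not_dvd_card_C
      · exact absurd (Int.natCast_dvd_natCast.mp h6) hpk
    · exact h5
  have h5 : ((m : ℤ) ^ 2 - 1) = ((m : ℤ) - 1) * ((m : ℤ) + 1) := by ring
  rw [h5] at h4
  rcases hp'.dvd_or_dvd h4 with h6 | h6
  · left
    exact (Int.modEq_iff_dvd.mpr h6).symm
  · right
    refine (Int.modEq_iff_dvd.mpr ?_).symm
    simpa using h6

end GP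

end Cfsg.Agent.Lib.Helper2
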