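import Mathlib
import Cfsg.Agent.Lib.Helper2.GlauP
import Cfsg.Agent.H1.HallPrep

/-!
# Reduction step for a solvable group of operators
-/

set_option autoImplicit false

namespace Cfsg.Agent.Lib.Helper2

open Cfsg Cfsg.Agent.CharLib Cfsg.Agent.BlockLib Finset
open scoped ComplexConjugate

variable {Γ : Type*} [Group Γ] {G S P B : Subgroup Γ}

/-- conjugation as a homomorphism into the automorphism group. -/
def cjHom (h : Nrm G S) : S →* MulAut G where
  toFun := cjEquiv h
  map_one' := by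
    ext g
    rw [cjEquiv_coe]
    simp
  map_mul' s t := by
    ext g
    rw [cjEquiv_coe, MulAut.mul_apply, cjEquiv_coe, cjEquiv_coe]
    simp [mul_assoc]

theorem cjHom_apply (h : Nrm G S) (s : S) : cjHom h s = cjEquiv h s := rfl

/-- `P ≤ S` and the image of `P` in `Aut G` is normalised by `S`. -/
structure Step (G S P : Subgroup Γ) : Prop where
  le : P ≤ S
  stab : ∀ s ∈ S, ∀ x ∈ P, ∃ y ∈ P, ∀ g ∈ G, (s⁻¹ * x * s) * g * (s⁻¹ * x * s)⁻¹ = y * g * y⁻¹

theorem exists_step [Finite S] (h : Nrm G S) (hsolv : Group.IsSolvable S)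
    (hnt : ¬ S ≤ Subgroup.centralizer (G : Set Γ)) :
    ∃ (p : ℕ) (P : Subgroup Γ), p.Prime ∧ IsPGroup p P ∧
      ¬ P ≤ Subgroup.centralizer (G : Set Γ) ∧ Step G S P := by
  classical
  let φ : S →* (cjHom h).range := (cjHom h).rangeRestrict
  have hφ : Function.Surjective φ := (cjHom h).rangeRestrict_surjective
  haveI : Finite (cjHom h).range := Finite.of_surjective φ hφ
  haveI : Group.IsSolvable (cjHom h).range := Group.isSolvable_of_surjective hφ
  have hker : ∀ s : S, φ s = 1 → (s : Γ) ∈ Subgroup.centralizer (G : Set Γ) := by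
    intro s hs
    refine Subgroup.mem_centralizer_iff.mpr fun g hg => ?_
    have h1 : cjHom h s = 1 := congrArg Subtype.val hs
    have h2 : cjEquiv h s ⟨g, hg⟩ = ⟨g, hg⟩ := by
      rw [← cjHom_apply, h1]; rfl
    have h3 := congrArg Subtype.val h2
    rw [cjEquiv_coe] at h3
    have h4 : (s : Γ) * g = g * s := by
      calc (s : Γ) * g = (s : Γ) * g * (s : Γ)⁻¹ * s := by group
        _ = g * s := by rw [h3]
    exact h4.symm
  haveI : Nontrivial (cjHom h).range := by
    by_contra hcon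
    rw [not_nontrivial_iff_subsingleton] at hcon
    exact hnt fun s hs => hker ⟨s, hs⟩ (Subsingleton.elim _ _)
  obtain ⟨p, Mb, hp, hMn, hMne, hMp⟩ := Cfsg.H1.exists_normal_pgroup (G := (cjHom h).range)
  haveI : Fact p.Prime := ⟨hp⟩
  obtain ⟨P₀⟩ : Nonempty (Sylow p S) := inferInstance
  have hle : Mb ≤ (P₀.mapSurjective hφ : Subgroup _) := hMp.le_sylow_of_normal _
  let P' : Subgroup S := (P₀ : Subgroup S) ⊓ Mb.comap φ
  have hlift : ∀ m ∈ Mb, ∃ x ∈ P', φ x = m := by
    intro m hm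
    have h1 := hle hm
    rw [Sylow.coe_mapSurjective] at h1
    obtain ⟨x, hx, rfl⟩ := Subgroup.mem_map.mp h1
    exact ⟨x, Subgroup.mem_inf.mpr ⟨hx, hm⟩, rfl⟩
  refine ⟨p, P'.map S.subtype, hp, ?_, ?_, ?_, ?_⟩
  · exact (P₀.2.to_le inf_le_left).map _
  · intro hcon
    obtain ⟨m, hm, hm1⟩ := (Subgroup.ne_bot_iff_exists_ne_one).mp hMne |>.elim
      (fun m hm => (⟨m.1, m.2, fun h0 => hm (Subtype.ext h0)⟩ : ∃ m, m ∈ Mb ∧ m ≠ 1))
    obtain ⟨x, hx, rfl⟩ := hlift m hm
    apply hm1
    have h1 : (x : Γ) ∈ Subgroup.centralizer (G : Set Γ) := hcon (Subgroup.mem_map_of_mem _ hx)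
    apply Subtype.ext
    show cjHom h x = 1
    ext g
    rw [cjHom_apply, cjEquiv_coe, ← Subgroup.mem_centralizer_iff.mp h1 g g.2]
    simp
  · exact Subgroup.map_subtype_le _
  · intro s hs x hx
    obtain ⟨x', hx', rfl⟩ := Subgroup.mem_map.mp hx
    have h1 : φ ((⟨s, hs⟩ : S)⁻¹ * x' * ⟨s, hs⟩) ∈ Mb := by
      rw [map_mul, map_mul, map_inv]
      have := hMn.conj_mem (φ x') (Subgroup.mem_inf.mp hx').2 (φ ⟨s, hs⟩)⁻¹
      simpa using this
    obtain ⟨y, hy, hy1⟩ := hlift _ h1
    refine ⟨y, Subgroup.mem_map_of_mem _ hy, fun g hg => ?_⟩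
    have h2 : cjHom h y = cjHom h ((⟨s, hs⟩ : S)⁻¹ * x' * ⟨s, hs⟩) := congrArg Subtype.val hy1
    have h3 := congrArg (fun e : MulAut G => ((e ⟨g, hg⟩ : G) : Γ)) h2
    simp only [cjHom_apply, cjEquiv_coe] at h3
    exact h3.symm

namespace Step

theorem nrm_B (hst : Step G S P) (hn : Nrm G S)
    (hB : B = G ⊓ Subgroup.centralizer (P : Set Γ)) : Nrm B S := by
  intro s hs b hb
  rw [hB] at hb ⊢
  obtain ⟨hb1, hb2⟩ := Subgroup.mem_inf.mp hb
  refine Subgroup.mem_inf.mpr ⟨hn s hs b hb1, Subgroup.mem_centralizer_iff.mpr fun x hx => ?_⟩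
  obtain ⟨y, hy, hy1⟩ := hst.stab s hs x hx
  have h1 := hy1 b hb1
  have h2 : y * b * y⁻¹ = b := by
    rw [Subgroup.mem_centralizer_iff.mp hb2 y hy]; group
  rw [h2] at h1
  have h3 : x * (s * b * s⁻¹) = s * ((s⁻¹ * x * s) * b * (s⁻¹ * x * s)⁻¹) * s⁻¹ * x := by group
  rw [h3, h1]

theorem sInv_irrConj (hst : Step G S P) (hn : Nrm G S) {χ : IrrCharacter G}
    (hχ : SInv G P (χ : G → ℂ)) (s : S) : SInv G P (irrConj hn s χ : G → ℂ) := by
  intro x hx g g' hg
  rw [irrConj_apply, irrConj_apply]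
  obtain ⟨y, hy, hy1⟩ := hst.stab s s.2 x hx
  refine hχ y hy _ _ ?_
  have h1 := hy1 _ ((cjEquiv hn s).symm g).2
  rw [cjEquiv_symm_coe] at h1
  rw [cjEquiv_symm_coe, cjEquiv_symm_coe, hg, ← h1]
  group

end Step

theorem SInv.mono {f : G → ℂ} (hf : SInv G S f) (h : P ≤ S) : SInv G P f :=
  fun s hs => hf s (h hs)

theorem classInner_irrConj [Fintype B] (hBG : B ≤ G) (hnG : Nrm G S) (hnB : Nrm B S) (s : S)
    (χ : IrrCharacter G) (β : IrrCharacter B) :
    classInner (resTo hBG (irrConj hnG s χ : G → ℂ)) (irrConj hnB s β : B → ℂ)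
      = classInner (resTo hBG (χ : G → ℂ)) (β : B → ℂ) := by
  rw [classInner, classInner]
  congr 1
  refine Fintype.sum_equiv (cjEquiv hnB s).symm.toEquiv _ _ fun b => ?_
  rw [resTo_apply, irrConj_apply, irrConj_apply, resTo_apply]
  rfl

/-- the number of `S`-invariant irreducible characters does not change on passing to `C_G(P)`. -/
theorem card_sInv_step [Finite G] {p : ℕ} {M : Ideal AlgInt} (h : GP G P B p M)
    (hst : Step G S P) (hn : Nrm G S) :
    Nat.card {χ : IrrCharacter G // SInv G S (χ : G → ℂ)}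
      = Nat.card {β : IrrCharacter B // SInv B S (β : B → ℂ)} := by
  classical
  letI := Fintype.ofFinite G
  haveI : Finite B := Finite.of_injective _ (Subgroup.inclusion_injective h.le)
  letI := Fintype.ofFinite B
  have hnB : Nrm B S := hst.nrm_B hn h.hC
  have key : ∀ (s : S) (χ : IrrCharacter G) (β : IrrCharacter B),
      MemLocalIdeal M (aCoef h.le (irrConj hn s χ) (irrConj hnB s β)) ↔
        MemLocalIdeal M (aCoef h.le χ β) := by
    intro s χ β
    obtain ⟨m, hm⟩ := GP.exists_mult h.le χ β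
    have hm' := (classInner_irrConj h.le hn hnB s χ β).trans hm
    rw [h.aCoef_mem_iff _ _ hm, h.aCoef_mem_iff _ _ hm']
  have hwd : ∀ χ : {χ : IrrCharacter G // SInv G S (χ : G → ℂ)},
      SInv B S ((h.exists_beta χ.1).choose : B → ℂ) := by
    intro χ
    rw [sInv_iff_irrConj hnB]
    intro s
    refine h.beta_unique (χ.2.mono hst.le) ?_ (h.exists_beta χ.1).choose_spec
    have h1 := (sInv_iff_irrConj hn χ.1).mp χ.2 s
    have h2 := key s χ.1 (h.exists_beta χ.1).choose
    rw [h1] at h2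
    rw [h2]
    exact (h.exists_beta χ.1).choose_spec
  refine Nat.card_congr (Equiv.ofBijective
    (fun χ => (⟨(h.exists_beta χ.1).choose, hwd χ⟩ : {β : IrrCharacter B // SInv B S (β : B → ℂ)}))
    ⟨?_, ?_⟩)
  · intro χ χ' hh
    have h1 : (h.exists_beta χ.1).choose = (h.exists_beta χ'.1).choose := congrArg Subtype.val hh
    apply Subtype.ext
    refine h.chi_unique (χ.2.mono hst.le) (χ'.2.mono hst.le) (h.exists_beta χ.1).choose
      (h.exists_beta χ.1).choose_spec ?_
    rw [h1]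
    exact (h.exists_beta χ'.1).choose_spec
  · intro β
    obtain ⟨χ, hχ, hA⟩ := h.exists_chi β.1
    have hχS : SInv G S (χ : G → ℂ) := by
      rw [sInv_iff_irrConj hn]
      intro s
      refine h.chi_unique (hst.sInv_irrConj hn hχ s) hχ β.1 ?_ hA
      have h1 := (sInv_iff_irrConj hnB β.1).mp β.2 s
      have h2 := key s χ β.1
      rw [h1] at h2
      rw [h2]
      exact hA
    refine ⟨⟨χ, hχS⟩, Subtype.ext ?_⟩
    exact h.beta_unique hχ (h.exists_beta χ).choose_spec hA

/-- the class `K` of `G` is mapped to itself by conjugation by every element of `S`. -/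
def ClInv (G S : Subgroup Γ) (K : ConjClasses G) : Prop :=
  ∀ s ∈ S, ∀ g g' : G, (g' : Γ) = s * g * s⁻¹ → ConjClasses.mk g = K → ConjClasses.mk g' = K

theorem clInv_mk_iff (hn : Nrm G S) (g₀ : G) :
    ClInv G S (ConjClasses.mk g₀) ↔ ∀ s : S, IsConj (cjEquiv hn s g₀) g₀ := by
  constructor
  · intro h s
    exact ConjClasses.mk_eq_mk_iff_isConj.mp (h s s.2 g₀ (cjEquiv hn s g₀) rfl rfl)
  · intro h s hs g g' hg hgK
    have h1 : g' = cjEquiv hn ⟨s, hs⟩ g := Subtype.ext hg
    rw [h1]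
    refine ConjClasses.mk_eq_mk_iff_isConj.mpr (IsConj.trans ?_ (h ⟨s, hs⟩))
    exact (cjEquiv hn ⟨s, hs⟩).toMonoidHom.map_isConj (ConjClasses.mk_eq_mk_iff_isConj.mp hgK)

theorem GP.isConj_of_isConj [Finite G] {p : ℕ} {M : Ideal AlgInt} (h : GP G P B p M) {b b' : B}
    (hc : IsConj (Subgroup.inclusion h.le b) (Subgroup.inclusion h.le b')) : IsConj b b' := by
  letI := Fintype.ofFinite G
  haveI : Finite B := Finite.of_injective _ (Subgroup.inclusion_injective h.le)
  letI := Fintype.ofFinite B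
  obtain ⟨x, hx⟩ := isConj_iff.mp hc
  obtain ⟨z, hz, hz1⟩ := h.fusion b.2 b'.2 x.2 (congrArg (fun y : G => (y : Γ)) hx)
  exact isConj_iff.mpr ⟨⟨z, hz⟩, Subtype.ext hz1⟩

theorem card_isConj_dvd {X : Type*} [Group X] [Finite X] (g : X) :
    Nat.card {x : X // IsConj g x} ∣ Nat.card X := by
  have h1 : Nat.card {x : X // IsConj g x} = (MulAction.orbit (ConjAct X) g).ncard := by
    rw [← Nat.card_coe_set_eq]
    apply Nat.card_congr
    refine Equiv.subtypeEquivRight fun x => ?_
    rw [ConjAct.mem_orbit_conjAct, isConj_comm]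
  rw [h1, ← MulAction.index_stabilizer]
  exact Subgroup.index_dvd_card _

/-- the number of `S`-invariant classes does not change on passing to `C_G(P)`. -/
theorem card_clInv_step [Finite G] {p : ℕ} {M : Ideal AlgInt} (h : GP G P B p M)
    (hst : Step G S P) (hn : Nrm G S) :
    Nat.card {K : ConjClasses G // ClInv G S K} = Nat.card {L : ConjClasses B // ClInv B S L} := by
  classical
  haveI := h.hfin
  haveI : Fact p.Prime := ⟨h.hM.1⟩
  have hnB : Nrm B S := hst.nrm_B hn h.hC
  have hcomm : ∀ (s : S) (b : B), Subgroup.inclusion h.le (cjEquiv hnB s b)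
      = cjEquiv hn s (Subgroup.inclusion h.le b) := fun s b => rfl
  have hwd : ∀ L : {L : ConjClasses B // ClInv B S L},
      ClInv G S (ConjClasses.map (Subgroup.inclusion h.le) L.1) := by
    rintro ⟨L, hL⟩
    obtain ⟨b, rfl⟩ := ConjClasses.mk_surjective L
    show ClInv G S (ConjClasses.mk (Subgroup.inclusion h.le b))
    rw [clInv_mk_iff hn]
    rw [clInv_mk_iff hnB] at hL
    intro s
    rw [← hcomm]
    exact (Subgroup.inclusion h.le).map_isConj (hL s)
  symm
  refine Nat.card_congr (Equiv.ofBijective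
    (fun L => (⟨ConjClasses.map (Subgroup.inclusion h.le) L.1, hwd L⟩ :
      {K : ConjClasses G // ClInv G S K})) ⟨?_, ?_⟩)
  · rintro ⟨L, hL⟩ ⟨L', hL'⟩ hh
    obtain ⟨b, rfl⟩ := ConjClasses.mk_surjective L
    obtain ⟨b', rfl⟩ := ConjClasses.mk_surjective L'
    have h1 : ConjClasses.mk (Subgroup.inclusion h.le b) = ConjClasses.mk (Subgroup.inclusion h.le b') :=
      congrArg Subtype.val hh
    apply Subtype.ext
    exact ConjClasses.mk_eq_mk_iff_isConj.mpr
      (h.isConj_of_isConj (ConjClasses.mk_eq_mk_iff_isConj.mp h1))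
  · rintro ⟨K, hK⟩
    obtain ⟨g₀, rfl⟩ := ConjClasses.mk_surjective K
    have hK' := (clInv_mk_iff hn g₀).mp hK
    let X := {x : G // IsConj g₀ x}
    letI : MulAction P X :=
      { smul := fun s x => ⟨cjEquiv h.hnorm s x.1, by
          have h1 : IsConj (cjEquiv hn ⟨s, hst.le s.2⟩ g₀) (cjEquiv hn ⟨s, hst.le s.2⟩ x.1) :=
            (cjEquiv hn ⟨s, hst.le s.2⟩).toMonoidHom.map_isConj x.2
          exact ((hK' ⟨s, hst.le s.2⟩).symm.trans h1)⟩
        one_smul := fun x => Subtype.ext (Subtype.ext (by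
          show ((1 : P) : Γ) * x.1 * ((1 : P) : Γ)⁻¹ = x.1
          simp))
        mul_smul := fun s t x => Subtype.ext (Subtype.ext (by
          show ((s * t : P) : Γ) * x.1 * ((s * t : P) : Γ)⁻¹ = s * (t * x.1 * (t : Γ)⁻¹) * (s : Γ)⁻¹
          simp [mul_assoc])) }
    have hnd : ¬ p ∣ Nat.card X := fun hd => h.hpG (hd.trans (card_isConj_dvd g₀))
    obtain ⟨x, hx⟩ := h.hS.nonempty_fixed_point_of_prime_not_dvd_card X hnd
    have hxB : (x.1 : Γ) ∈ B := by
      rw [h.hC]
      refine (mem_fixed_iff h.hnorm x.1).mp fun s => ?_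
      exact congrArg Subtype.val (hx s)
    have hxe : Subgroup.inclusion h.le ⟨x.1, hxB⟩ = x.1 := rfl
    have hL : ClInv B S (ConjClasses.mk (⟨x.1, hxB⟩ : B)) := by
      rw [clInv_mk_iff hnB]
      intro s
      apply h.isConj_of_isConj
      rw [hcomm, hxe]
      have h1 : IsConj (cjEquiv hn s g₀) (cjEquiv hn s x.1) :=
        (cjEquiv hn s).toMonoidHom.map_isConj x.2
      exact h1.symm.trans ((hK' s).trans x.2)
    refine ⟨⟨ConjClasses.mk ⟨x.1, hxB⟩, hL⟩, Subtype.ext ?_⟩
    show ConjClasses.mk (Subgroup.inclusion h.le ⟨x.1, hxB⟩) = ConjClasses.mk g₀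
    rw [hxe]
    exact ConjClasses.mk_eq_mk_iff_isConj.mpr x.2.symm

theorem Nrm.mono (h : Nrm G S) (hPS : P ≤ S) : Nrm G P := fun s hs => h s (hPS hs)

/-- For a solvable group `S` of operators of coprime order: the number of invariant irreducible
characters and the number of invariant classes are both the class number of the fixed points. -/
theorem card_sInv_clInv_aux [Finite Γ] (n : ℕ) : ∀ (G S : Subgroup Γ), Nat.card G = n → Nrm G S →
    (Nat.card G).Coprime (Nat.card S) → Group.IsSolvable S →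
    Nat.card {χ : IrrCharacter G // SInv G S (χ : G → ℂ)}
      = Nat.card (IrrCharacter ↥(G ⊓ Subgroup.centralizer (S : Set Γ))) ∧
    Nat.card {K : ConjClasses G // ClInv G S K}
      = Nat.card (ConjClasses ↥(G ⊓ Subgroup.centralizer (S : Set Γ))) := by
  induction n using Nat.strong_induction_on with
  | _ n ih =>
    intro G S hGn hn hcop hsolv
    by_cases hnt : S ≤ Subgroup.centralizer (G : Set Γ)
    · have h1 : G ⊓ Subgroup.centralizer (S : Set Γ) = G :=
        inf_eq_left.mpr (Subgroup.le_centralizer_iff.mp hnt)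
      have h2 : ∀ s ∈ S, ∀ g g' : G, (g' : Γ) = s * g * s⁻¹ → g' = g := by
        intro s hs g g' hg
        apply Subtype.ext
        rw [hg, ← Subgroup.mem_centralizer_iff.mp (hnt hs) g g.2]
        group
      rw [h1]
      constructor
      · refine Nat.card_congr (Equiv.subtypeUnivEquiv fun χ => ?_)
        intro s hs g g' hg
        rw [h2 s hs g g' hg]
      · refine Nat.card_congr (Equiv.subtypeUnivEquiv fun K => ?_)
        intro s hs g g' hg hK
        rw [h2 s hs g g' hg, hK]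
    · obtain ⟨p, P, hp, hP, hPnt, hst⟩ := exists_step hn hsolv hnt
      haveI : Fact p.Prime := ⟨hp⟩
      have hpG : ¬ p ∣ Nat.card G := by
        intro hd
        obtain ⟨k, hk⟩ := (IsPGroup.iff_card (p := p) (G := P)).mp hP
        rcases Nat.eq_zero_or_pos k with rfl | hk0
        · rw [pow_zero] at hk
          rw [Subgroup.card_eq_one.mp hk] at hPnt
          exact hPnt bot_le
        · have h1 : p ∣ Nat.card S :=
            ((dvd_pow_self p hk0.ne').trans (hk ▸ dvd_rfl)).trans (Subgroup.card_dvd_of_le hst.le)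
          have h2 := Nat.dvd_gcd hd h1
          rw [hcop] at h2
          exact hp.one_lt.ne' (Nat.dvd_one.mp h2)
      obtain ⟨M, hM⟩ := Cfsg.Agent.Lib.Helper23.exists_isPModular p hp
      have h : GP G P (G ⊓ Subgroup.centralizer (P : Set Γ)) p M :=
        ⟨hn.mono hst.le, inferInstance, hP, hM, hpG, rfl⟩
      have hnB : Nrm (G ⊓ Subgroup.centralizer (P : Set Γ)) S := hst.nrm_B hn rfl
      have hdvd : Nat.card ↥(G ⊓ Subgroup.centralizer (P : Set Γ)) ∣ Nat.card G :=
        Subgroup.card_dvd_of_le h.le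
      have hlt : Nat.card ↥(G ⊓ Subgroup.centralizer (P : Set Γ)) < n := by
        rw [← hGn]
        refine lt_of_le_of_ne (Nat.le_of_dvd Nat.card_pos hdvd) fun he => ?_
        have h1 : G ⊓ Subgroup.centralizer (P : Set Γ) = G :=
          Subgroup.eq_of_le_of_card_ge h.le he.ge
        exact hPnt (Subgroup.le_centralizer_iff.mp (inf_eq_left.mp h1))
      have hih := ih _ hlt (G ⊓ Subgroup.centralizer (P : Set Γ)) S rfl hnB
        (Nat.Coprime.coprime_dvd_left hdvd hcop) hsolv
      have h3 : G ⊓ Subgroup.centralizer (P : Set Γ) ⊓ Subgroup.centralizer (S : Set Γ)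
          = G ⊓ Subgroup.centralizer (S : Set Γ) := by
        rw [inf_assoc, inf_eq_right.mpr (Subgroup.centralizer_le hst.le)]
      rw [h3] at hih
      exact ⟨(card_sInv_step h hst hn).trans hih.1, (card_clInv_step h hst hn).trans hih.2⟩

theorem card_sInv_eq [Finite Γ] (hn : Nrm G S) (hcop : (Nat.card G).Coprime (Nat.card S))
    (hsolv : Group.IsSolvable S) :
    Nat.card {χ : IrrCharacter G // SInv G S (χ : G → ℂ)}
      = Nat.card (IrrCharacter ↥(G ⊓ Subgroup.centralizer (S : Set Γ))) :=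
  (card_sInv_clInv_aux _ G S rfl hn hcop hsolv).1

theorem card_clInv_eq [Finite Γ] (hn : Nrm G S) (hcop : (Nat.card G).Coprime (Nat.card S))
    (hsolv : Group.IsSolvable S) :
    Nat.card {K : ConjClasses G // ClInv G S K}
      = Nat.card (ConjClasses ↥(G ⊓ Subgroup.centralizer (S : Set Γ))) :=
  (card_sInv_clInv_aux _ G S rfl hn hcop hsolv).2

end Cfsg.Agent.Lib.Helper2
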