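import Mathlib
import Cfsg.Agent.Lib.Helper2.GlauStep
import Cfsg.Agent.S0174

/-!
# Invariant characters over invariant characters of a normal subgroup (coprime solvable action)
-/

set_option autoImplicit false

namespace Cfsg.Agent.Lib.Helper2

open Cfsg Cfsg.Agent.CharLib Cfsg.Agent.BlockLib Finset
open scoped ComplexConjugate

variable {Γ : Type*} [Group Γ] {G S P B N D : Subgroup Γ}

theorem GP.sInv_beta [Fintype G] [Fintype B] {p : ℕ} {M : Ideal AlgInt} (h : GP G P B p M)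
    (hst : Step G S P) (hn : Nrm G S) {χ : IrrCharacter G} (hχ : SInv G S (χ : G → ℂ))
    {β : IrrCharacter B} (hA : ¬ MemLocalIdeal M (aCoef h.le χ β)) : SInv B S (β : B → ℂ) := by
  have hnB : Nrm B S := hst.nrm_B hn h.hC
  rw [sInv_iff_irrConj hnB]
  intro s
  refine h.beta_unique (hχ.mono hst.le) ?_ hA
  obtain ⟨m, hm⟩ := GP.exists_mult h.le χ β
  have hm' := (classInner_irrConj h.le hn hnB s χ β).trans hm
  rw [(sInv_iff_irrConj hn χ).mp hχ s] at hm'
  rw [h.aCoef_mem_iff _ _ hm']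
  rwa [h.aCoef_mem_iff _ _ hm] at hA

theorem GP.sInv_chi [Fintype G] [Fintype B] {p : ℕ} {M : Ideal AlgInt} (h : GP G P B p M)
    (hst : Step G S P) (hn : Nrm G S) {χ : IrrCharacter G} (hχ : SInv G P (χ : G → ℂ))
    {β : IrrCharacter B} (hβ : SInv B S (β : B → ℂ))
    (hA : ¬ MemLocalIdeal M (aCoef h.le χ β)) : SInv G S (χ : G → ℂ) := by
  have hnB : Nrm B S := hst.nrm_B hn h.hC
  rw [sInv_iff_irrConj hn]
  intro s
  refine h.chi_unique (hst.sInv_irrConj hn hχ s) hχ β ?_ hA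
  obtain ⟨m, hm⟩ := GP.exists_mult h.le χ β
  have hm' := (classInner_irrConj h.le hn hnB s χ β).trans hm
  rw [(sInv_iff_irrConj hnB β).mp hβ s] at hm'
  rw [h.aCoef_mem_iff _ _ hm']
  rwa [h.aCoef_mem_iff _ _ hm] at hA

/-- every irreducible character of a subgroup lies under some irreducible character. -/
theorem exists_over [Fintype G] [Fintype N] (hNG : N ≤ G) (θ : IrrCharacter N) :
    ∃ χ : IrrCharacter G, classInner (resTo hNG (χ : G → ℂ)) (θ : N → ℂ) ≠ 0 := by
  classical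
  by_contra hcon
  push_neg at hcon
  have h1 : classInner (resTo hNG (∑ χ : IrrCharacter G, (χ : G → ℂ) 1 • (χ : G → ℂ))) (θ : N → ℂ)
      = 0 := by
    have h2 : resTo hNG (∑ χ : IrrCharacter G, (χ : G → ℂ) 1 • (χ : G → ℂ))
        = ∑ χ : IrrCharacter G, (χ : G → ℂ) 1 • resTo hNG (χ : G → ℂ) := by
      funext n
      simp only [resTo_apply, Finset.sum_apply, Pi.smul_apply]
    rw [h2, classInner_sum_left]
    refine Finset.sum_eq_zero fun χ _ => ?_
    rw [classInner_smul_left, hcon χ, mul_zero]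
  rw [classInner, Finset.sum_eq_single 1] at h1
  · rw [resTo_apply] at h1
    simp only [Finset.sum_apply, Pi.smul_apply, smul_eq_mul] at h1
    have h3 := sum_irr_one_mul (⟨((1 : N) : Γ), hNG (1 : N).2⟩ : G)
    rw [if_pos (show (⟨((1 : N) : Γ), hNG (1 : N).2⟩ : G) = 1 from rfl)] at h3
    rw [h3] at h1
    have hN0 : (Nat.card N : ℂ) ≠ 0 := by exact_mod_cast Nat.card_pos.ne'
    have hG0 : (Nat.card G : ℂ) ≠ 0 := by exact_mod_cast Nat.card_pos.ne'
    have hθ : conj ((θ : N → ℂ) 1) ≠ 0 := by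
      rw [Ne, map_eq_zero]
      exact irr_apply_one_ne_zero θ
    exact (mul_ne_zero (inv_ne_zero hN0) (mul_ne_zero hG0 hθ)) h1
  · intro n _ hn
    rw [resTo_apply]
    simp only [Finset.sum_apply, Pi.smul_apply, smul_eq_mul]
    rw [sum_irr_one_mul, if_neg, zero_mul]
    intro h4
    exact hn (Subtype.ext (congrArg (fun x : G => (x : Γ)) h4))
  · intro h; exact absurd (Finset.mem_univ _) h

theorem classInner_resTo_trans [Fintype B] [Fintype D] (hDB : D ≤ B) (hBG : B ≤ G)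
    (χ : IrrCharacter G) (φ : IrrCharacter D) :
    classInner (resTo (hDB.trans hBG) (χ : G → ℂ)) (φ : D → ℂ)
      = ∑ β : IrrCharacter B, classInner (resTo hBG (χ : G → ℂ)) (β : B → ℂ) *
          classInner (resTo hDB (β : B → ℂ)) (φ : D → ℂ) := by
  have h1 := classFunction_eq_sum (isClassFunction_resTo hBG (isClassFunction_of_irr χ.2))
  have h2 : resTo (hDB.trans hBG) (χ : G → ℂ) = resTo hDB (resTo hBG (χ : G → ℂ)) := rfl
  rw [h2]
  conv_lhs => rw [h1]
  have h3 : resTo hDB (∑ β : IrrCharacter B,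
      classInner (resTo hBG (χ : G → ℂ)) (β : B → ℂ) • (β : B → ℂ))
      = ∑ β : IrrCharacter B, classInner (resTo hBG (χ : G → ℂ)) (β : B → ℂ) •
        resTo hDB (β : B → ℂ) := by
    funext d
    simp only [resTo_apply, Finset.sum_apply, Pi.smul_apply]
  rw [h3, classInner_sum_left]
  simp only [classInner_smul_left]

/-- Clifford: a nonzero multiplicity over a normal subgroup is prime to `p` if `|G|` is. -/
theorem not_dvd_mult_of_normal [Fintype G] [Fintype N] {p : ℕ} (hNG : N ≤ G) (hn : Nrm N G)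
    (hpG : ¬ p ∣ Nat.card G) (χ : IrrCharacter G) (θ : IrrCharacter N) {m : ℕ}
    (hm : classInner (resTo hNG (χ : G → ℂ)) (θ : N → ℂ) = m) (hm0 : m ≠ 0) : ¬ p ∣ m := by
  classical
  have hN' : (N.subgroupOf G).Normal := by
    refine ⟨fun n hn' g => ?_⟩
    exact Subgroup.mem_subgroupOf.mpr (hn g g.2 n (Subgroup.mem_subgroupOf.mp hn'))
  let e : N.subgroupOf G ≃* N := Subgroup.subgroupOfEquivOfLe hNG
  let θ' : N.subgroupOf G → ℂ := fun n => (θ : N → ℂ) (e n)
  have hθ' : IsIrrCharacter (N.subgroupOf G) θ' :=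
    isIrrCharacter_comp_of_surjective θ.2 e.toMonoidHom e.surjective
  have hin : classInner (fun n : N.subgroupOf G => (χ : G → ℂ) n) θ' = m := by
    rw [← hm, classInner, classInner, Nat.card_congr e.toEquiv]
    congr 1
    exact Fintype.sum_equiv e.toEquiv _ _ fun n => rfl
  have hne : classInner (fun n : N.subgroupOf G => (χ : G → ℂ) n) θ' ≠ 0 := by
    rw [hin]; exact_mod_cast hm0
  have key := Cfsg.Agent.S0174.result (N.subgroupOf G) hN' χ χ.2 θ' hθ' hne
  have hfin : Set.Finite {ψ : N.subgroupOf G → ℂ | ∃ g : G, ψ = fun n : N.subgroupOf G =>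
      θ' ⟨g * n * g⁻¹, hN'.conj_mem n n.2 g⟩} := by
    refine (Set.finite_range (fun g : G => fun n : N.subgroupOf G =>
      θ' ⟨g * n * g⁻¹, hN'.conj_mem n n.2 g⟩)).subset ?_
    rintro _ ⟨g, rfl⟩
    exact ⟨g, rfl⟩
  rw [finsum_mem_eq_finite_toFinset_sum _ hfin, hin] at key
  have key1 := congrFun key 1
  simp only [Pi.smul_apply, Finset.sum_apply, smul_eq_mul] at key1
  obtain ⟨k, hk0, hk1, hk2⟩ := L.irr_degree_dvd θ
  obtain ⟨n, hn0, hn1, hn2⟩ := L.irr_degree_dvd χ
  have h5 : ∀ ψ ∈ hfin.toFinset, ψ 1 = (k : ℂ) := by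
    intro ψ hψ
    rw [Set.Finite.mem_toFinset] at hψ
    obtain ⟨g, rfl⟩ := hψ
    show (θ : N → ℂ) (e _) = k
    rw [← hk1]
    refine congrArg (θ : N → ℂ) (Subtype.ext ?_)
    show ((g * ((1 : N.subgroupOf G) : G) * g⁻¹ : G) : Γ) = 1
    simp
  rw [Finset.sum_congr rfl h5, Finset.sum_const, nsmul_eq_mul] at key1
  have h6 : (χ : G → ℂ) ((1 : N.subgroupOf G) : G) = n := hn1
  rw [h6] at key1
  have h7 : n = m * (hfin.toFinset.card * k) := by exact_mod_cast key1
  intro hd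
  exact hpG ((hd.trans (Dvd.intro _ h7.symm)).trans hn2)

theorem omega_conj_eq {X : Type*} [Group X] [Fintype X] (ξ F : X → ℂ) (c : ℂ) :
    omega ξ (fun x => c * conj (F x)) = c * (Nat.card X : ℂ) * conj (classInner F ξ) / ξ 1 := by
  have hX0 : (Nat.card X : ℂ) ≠ 0 := by exact_mod_cast Nat.card_pos.ne'
  rw [omega, classInner, map_mul, map_inv₀, map_natCast, map_sum]
  congr 1
  rw [mul_assoc c, mul_inv_cancel_left₀ hX0, Finset.mul_sum]
  refine Finset.sum_congr rfl fun x _ => ?_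
  rw [map_mul, Complex.conj_conj]
  ring

/-- Compatibility of the correspondence with normal subgroups (one direction). -/
theorem GP.over_of_over [Fintype G] [Fintype B] [Fintype N] [Fintype D] {p : ℕ}
    {M : Ideal AlgInt} (hG : GP G P B p M) (hN : GP N P D p M) (hNG : N ≤ G) (hDB : D ≤ B)
    (hnDB : Nrm D B) {χ : IrrCharacter G} (hχ : SInv G P (χ : G → ℂ)) {ψ : IrrCharacter B}
    (hA : ¬ MemLocalIdeal M (aCoef hG.le χ ψ)) {θ : IrrCharacter N}
    (hθ : SInv N P (θ : N → ℂ)) {φ : IrrCharacter D}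
    (hA' : ¬ MemLocalIdeal M (aCoef hN.le θ φ))
    (hov : classInner (resTo hDB (ψ : B → ℂ)) (φ : D → ℂ) ≠ 0) :
    classInner (resTo hNG (χ : G → ℂ)) (θ : N → ℂ) ≠ 0 := by
  classical
  haveI := isPrime_of_isPModular hG.hM
  have hne := ne_top_of_isPModular hG.hM
  intro h0
  obtain ⟨c₀, hc₀⟩ := GP.exists_mult (hDB.trans hG.le) χ φ
  obtain ⟨e, he⟩ := GP.exists_mult hDB ψ φ
  obtain ⟨mψ, hmψ⟩ := GP.exists_mult hG.le χ ψ
  obtain ⟨k, hk0, hk1, hk2⟩ := L.irr_degree_dvd φ
  have hk0' : (k : ℂ) ≠ 0 := by exact_mod_cast hk0.ne'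
  have hN0 : (Nat.card N : ℂ) ≠ 0 := by exact_mod_cast Nat.card_pos.ne'
  have hD0 : (Nat.card D : ℂ) ≠ 0 := by exact_mod_cast Nat.card_pos.ne'
  -- first computation
  have h1 : MemLocalIdeal M (c₀ : ℂ) := by
    have h2 := hN.omega_congr hθ φ hA'
      (a := fun n : N => (Nat.card N : ℂ)⁻¹ * conj (resTo hNG (χ : G → ℂ) n))
      (fun n x => by
        show _ * conj (resTo hNG (χ : G → ℂ) _) = _ * conj (resTo hNG (χ : G → ℂ) _)
        rw [isClassFunction_resTo hNG (isClassFunction_of_irr χ.2) n x])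
      (fun s hs n n' hn => by
        show _ * conj (resTo hNG (χ : G → ℂ) _) = _ * conj (resTo hNG (χ : G → ℂ) _)
        rw [resTo_apply, resTo_apply, hχ s hs ⟨n, hNG n.2⟩ ⟨n', hNG n'.2⟩ hn])
      (fun n => by
        rw [resTo_apply, ← isCharacter_inv (isCharacter_of_irr χ.2)]
        exact memLocalRing_mul (memLocalRing_natCast_inv hN.hM hN.hpG)
          (memLocalRing_of_isIntegral hne (isIntegral_irr χ _)))
    rw [omega_conj_eq, h0, map_zero, mul_zero, zero_div, sub_zero] at h2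
    have h3 : resTo hN.le (fun n : N => (Nat.card N : ℂ)⁻¹ * conj (resTo hNG (χ : G → ℂ) n))
        = fun d : D => (Nat.card N : ℂ)⁻¹ * conj (resTo (hDB.trans hG.le) (χ : G → ℂ) d) := rfl
    rw [h3, omega_conj_eq, hc₀, Complex.conj_natCast, hk1] at h2
    have h4 : (c₀ : ℂ) = (Nat.card N : ℂ)⁻¹ * (Nat.card D : ℂ) * (c₀ : ℂ) / (k : ℂ) *
        (((Nat.card N : ℂ) * (k : ℂ)) * (Nat.card D : ℂ)⁻¹) := by
      field_simp
    rw [h4]
    exact memLocalIdeal_mul_right h2 (memLocalRing_mul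
      (memLocalRing_mul (memLocalRing_natCast hne _) (memLocalRing_natCast hne _))
      (memLocalRing_natCast_inv hN.hM hN.not_dvd_card_C))
  -- second computation
  have h5 : MemLocalIdeal M ((c₀ : ℂ) - (mψ : ℂ) * (e : ℂ)) := by
    rw [← hc₀, classInner_resTo_trans hDB hG.le χ φ, ← Finset.add_sum_erase _ _ (Finset.mem_univ ψ),
      hmψ, he, add_sub_cancel_left]
    refine memLocalIdeal_sum _ _ fun β hβ => ?_
    obtain ⟨m', hm'⟩ := GP.exists_mult hG.le χ β
    obtain ⟨e', he'⟩ := GP.exists_mult hDB β φ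
    rw [hm', he']
    refine memLocalIdeal_mul_right ((memLocalIdeal_natCast_iff hG.hM m').mpr ?_)
      (memLocalRing_natCast hne _)
    by_contra hd
    exact (Finset.mem_erase.mp hβ).1 (hG.beta_unique hχ
      (fun hh => hd ((hG.aCoef_mem_iff χ β hm').mp hh)) hA)
  have h6 := memLocalIdeal_sub h1 h5
  rw [sub_sub_cancel] at h6
  have h7 : p ∣ mψ * e := by
    rw [← memLocalIdeal_natCast_iff hG.hM]
    push_cast
    exact h6
  rcases (Nat.Prime.dvd_mul hG.hM.1).mp h7 with h8 | h8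
  · exact hA ((hG.aCoef_mem_iff χ ψ hmψ).mpr h8)
  · refine not_dvd_mult_of_normal hDB hnDB hG.not_dvd_card_C ψ φ he ?_ h8
    rintro rfl
    exact hov (by rw [he]; simp)

theorem Step.mono_left (hst : Step G S P) (hNG : N ≤ G) : Step N S P :=
  ⟨hst.le, fun s hs x hx => by
    obtain ⟨y, hy, hy1⟩ := hst.stab s hs x hx
    exact ⟨y, hy, fun g hg => hy1 g (hNG hg)⟩⟩

theorem exists_sInv_over_aux [Finite Γ] (n : ℕ) : ∀ (G N S : Subgroup Γ) [Fintype N],
    Nat.card G = n → Nrm G S → ∀ (hNG : N ≤ G), Nrm N G → Nrm N S →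
    (Nat.card G).Coprime (Nat.card S) → Group.IsSolvable S →
    ∀ θ : IrrCharacter N, SInv N S (θ : N → ℂ) →
    ∃ χ : IrrCharacter G, classInner (resTo hNG (χ : G → ℂ)) (θ : N → ℂ) ≠ 0 ∧
      SInv G S (χ : G → ℂ) := by
  induction n using Nat.strong_induction_on with
  | _ n ih =>
    intro G N S _ hGn hn hNG hnNG hnNS hcop hsolv θ hθ
    letI := Fintype.ofFinite G
    by_cases hnt : S ≤ Subgroup.centralizer (G : Set Γ)
    · obtain ⟨χ, hχ⟩ := exists_over hNG θ
      refine ⟨χ, hχ, ?_⟩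
      intro s hs g g' hg
      have h2 : g' = g := by
        apply Subtype.ext
        rw [hg, ← Subgroup.mem_centralizer_iff.mp (hnt hs) g g.2]
        group
      rw [h2]
    · obtain ⟨p, P, hp, hP, hPnt, hst⟩ := exists_step hn hsolv hnt
      haveI : Fact p.Prime := ⟨hp⟩
      have hpG : ¬ p ∣ Nat.card G := by
        intro hd
        obtain ⟨k, hk⟩ := (IsPGroup.iff_card (p := p) (G := P)).mp hP
        rcases Nat.eq_zero_or_pos k with rfl | hk0
        · rw [pow_zero] at hk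
          rw [Subgroup.card_eq_one.mp hk] at hPnt
          exact hPnt bot_le
        · have h1 : p ∣ Nat.card S :=
            ((dvd_pow_self p hk0.ne').trans (hk ▸ dvd_rfl)).trans (Subgroup.card_dvd_of_le hst.le)
          have h2 := Nat.dvd_gcd hd h1
          rw [hcop] at h2
          exact hp.one_lt.ne' (Nat.dvd_one.mp h2)
      obtain ⟨M, hM⟩ := Cfsg.Agent.Lib.Helper23.exists_isPModular p hp
      have hG : GP G P (G ⊓ Subgroup.centralizer (P : Set Γ)) p M :=
        ⟨hn.mono hst.le, inferInstance, hP, hM, hpG, rfl⟩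
      have hN : GP N P (N ⊓ Subgroup.centralizer (P : Set Γ)) p M :=
        ⟨hnNS.mono hst.le, inferInstance, hP, hM,
          fun hd => hpG (hd.trans (Subgroup.card_dvd_of_le hNG)), rfl⟩
      have hstN : Step N S P := hst.mono_left hNG
      have hnB : Nrm (G ⊓ Subgroup.centralizer (P : Set Γ)) S := hst.nrm_B hn rfl
      have hnD : Nrm (N ⊓ Subgroup.centralizer (P : Set Γ)) S := hstN.nrm_B hnNS rfl
      have hDB : N ⊓ Subgroup.centralizer (P : Set Γ) ≤ G ⊓ Subgroup.centralizer (P : Set Γ) :=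
        inf_le_inf_right _ hNG
      have hnDB : Nrm (N ⊓ Subgroup.centralizer (P : Set Γ))
          (G ⊓ Subgroup.centralizer (P : Set Γ)) := by
        intro b hb d hd
        obtain ⟨hb1, hb2⟩ := Subgroup.mem_inf.mp hb
        obtain ⟨hd1, hd2⟩ := Subgroup.mem_inf.mp hd
        exact Subgroup.mem_inf.mpr ⟨hnNG b hb1 d hd1,
          Subgroup.mul_mem _ (Subgroup.mul_mem _ hb2 hd2) (Subgroup.inv_mem _ hb2)⟩
      have hdvd : Nat.card ↥(G ⊓ Subgroup.centralizer (P : Set Γ)) ∣ Nat.card G :=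
        Subgroup.card_dvd_of_le hG.le
      have hlt : Nat.card ↥(G ⊓ Subgroup.centralizer (P : Set Γ)) < n := by
        rw [← hGn]
        refine lt_of_le_of_ne (Nat.le_of_dvd Nat.card_pos hdvd) fun he => ?_
        have h1 : G ⊓ Subgroup.centralizer (P : Set Γ) = G :=
          Subgroup.eq_of_le_of_card_ge hG.le he.ge
        exact hPnt (Subgroup.le_centralizer_iff.mp (inf_eq_left.mp h1))
      letI := Fintype.ofFinite ↥(G ⊓ Subgroup.centralizer (P : Set Γ))
      letI := Fintype.ofFinite ↥(N ⊓ Subgroup.centralizer (P : Set Γ))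
      obtain ⟨φ, hφ⟩ := hN.exists_beta θ
      have hφS : SInv (N ⊓ Subgroup.centralizer (P : Set Γ)) S (φ : _ → ℂ) :=
        hN.sInv_beta hstN hnNS hθ hφ
      obtain ⟨ψ, hψ1, hψ2⟩ := ih _ hlt (G ⊓ Subgroup.centralizer (P : Set Γ))
        (N ⊓ Subgroup.centralizer (P : Set Γ)) S rfl hnB hDB hnDB hnD
        (Nat.Coprime.coprime_dvd_left hdvd hcop) hsolv φ hφS
      obtain ⟨χ, hχ, hA⟩ := hG.exists_chi ψ
      exact ⟨χ, hG.over_of_over hN hNG hDB hnDB hχ hA (hθ.mono hst.le) hφ hψ1,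
        hG.sInv_chi hst hn hχ hψ2 hA⟩

end Cfsg.Agent.Lib.Helper2
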