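import Mathlib

/-!
# Orders of `p`-elements of affine groups
-/

set_option autoImplicit false

namespace Cfsg.Agent.Lib.Helper2.AffOrd


theorem lin_key (p : ℕ) [Fact p.Prime] {V : Type*} [AddCommGroup V] [Module (ZMod p) V]
    [FiniteDimensional (ZMod p) V] (c : Module.End (ZMod p) V) (r : ℕ) (hc : c ^ (p ^ r) = 1)
    (s : ℕ) (hs : Module.finrank (ZMod p) V + 1 ≤ p ^ s) :
    c ^ (p ^ s) = 1 ∧ ∑ i ∈ Finset.range (p ^ s), c ^ i = 0 := by
  set δ := c - 1 with hδ
  have hcδ : δ + 1 = c := by rw [hδ]; exact sub_add_cancel c 1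
  have hpow : ∀ t : ℕ, c ^ (p ^ t) = δ ^ (p ^ t) + 1 := by
    intro t
    have h1 : ((Polynomial.X + 1 : Polynomial (ZMod p)) ^ (p ^ t)) = Polynomial.X ^ (p ^ t) + 1 := by
      rw [add_pow_char_pow, one_pow]
    have h2 := congrArg (Polynomial.aeval δ) h1
    simp only [map_pow, map_add, Polynomial.aeval_X, map_one, hcδ] at h2
    exact h2
  have hnil : δ ^ (p ^ r) = 0 := by
    have := hpow r
    rw [hc] at this
    exact add_eq_right.mp this.symm
  have hm : δ ^ (Module.finrank (ZMod p) V) = 0 := by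
    have h1 := Module.End.ker_pow_le_ker_pow_finrank δ (p ^ r)
    rw [hnil, LinearMap.ker_zero, top_le_iff, LinearMap.ker_eq_top] at h1
    exact h1
  have hz : ∀ j, Module.finrank (ZMod p) V ≤ j → δ ^ j = 0 := fun j hj => pow_eq_zero_of_le hj hm
  refine ⟨by rw [hpow s, hz _ (by omega), zero_add], ?_⟩
  have h1 : (∑ i ∈ Finset.range (p ^ s), (Polynomial.X + 1 : Polynomial (ZMod p)) ^ i) =
      Polynomial.X ^ (p ^ s - 1) := by
    have h2 := geom_sum_mul_add (Polynomial.X : Polynomial (ZMod p)) (p ^ s)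
    rw [add_pow_char_pow, one_pow] at h2
    have h3 : (∑ i ∈ Finset.range (p ^ s), (Polynomial.X + 1 : Polynomial (ZMod p)) ^ i) *
        Polynomial.X = Polynomial.X ^ (p ^ s - 1) * Polynomial.X := by
      rw [← pow_succ, Nat.sub_add_cancel (by omega)]
      exact add_right_cancel h2
    exact mul_right_cancel₀ Polynomial.X_ne_zero h3
  have h2 := congrArg (Polynomial.aeval δ) h1
  simp only [map_sum, map_pow, map_add, Polynomial.aeval_X, map_one, hcδ] at h2
  rw [h2, hz _ (by omega)]

theorem aux {G : Type*} [Group G] (p : ℕ) [Fact p.Prime] (N : Subgroup G) [hN : N.Normal]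
    {V : Type*} [AddCommGroup V] [Module (ZMod p) V] [FiniteDimensional (ZMod p) V]
    (e : ↥N ≃* Multiplicative V) (g : G) (r s : ℕ) (hg : g ^ (p ^ r) = 1)
    (hs : Module.finrank (ZMod p) V + 1 ≤ p ^ s) :
    (∀ n : N, g ^ (p ^ s) * (n : G) = (n : G) * g ^ (p ^ s)) ∧
      ∀ a : N, ((a : G) * g) ^ (p ^ s) = g ^ (p ^ s) := by
  let c₀ : V →+ V := AddMonoidHom.mk' (fun v =>
    Multiplicative.toAdd (e (MulAut.conjNormal g (e.symm (Multiplicative.ofAdd v))))) (by
      intro v w
      rw [ofAdd_add, map_mul, map_mul, map_mul, toAdd_mul])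
  let c : Module.End (ZMod p) V := c₀.toZModLinearMap p
  have hc1 : ∀ n : N, c (Multiplicative.toAdd (e n)) =
      Multiplicative.toAdd (e (MulAut.conjNormal g n)) := by
    intro n
    show Multiplicative.toAdd (e (MulAut.conjNormal g (e.symm (Multiplicative.ofAdd
      (Multiplicative.toAdd (e n)))))) = _
    rw [ofAdd_toAdd, MulEquiv.symm_apply_apply]
  have hck : ∀ (k : ℕ) (n : N), (c ^ k) (Multiplicative.toAdd (e n)) =
      Multiplicative.toAdd (e (MulAut.conjNormal (g ^ k) n)) := by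
    intro k
    induction k with
    | zero => intro n; simp
    | succ k ih =>
      intro n
      rw [pow_succ, Module.End.mul_apply, hc1, ih, pow_succ, map_mul, MulAut.mul_apply]
  have hsurj : ∀ v : V, ∃ n : N, Multiplicative.toAdd (e n) = v := fun v =>
    ⟨e.symm (Multiplicative.ofAdd v), by rw [MulEquiv.apply_symm_apply, toAdd_ofAdd]⟩
  have hcr : c ^ (p ^ r) = 1 := by
    ext v
    obtain ⟨n, rfl⟩ := hsurj v
    rw [hck, hg, map_one]
    rfl
  obtain ⟨hcs, hsum⟩ := lin_key p c r hcr s hs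
  have hprod : ∀ (a : N) (k : ℕ), ((a : G) * g) ^ k =
      ((e.symm (Multiplicative.ofAdd ((∑ i ∈ Finset.range k, c ^ i)
        (Multiplicative.toAdd (e a)))) : N) : G) * g ^ k := by
    intro a k
    induction k with
    | zero => simp
    | succ k ih =>
      rw [pow_succ, ih, Finset.sum_range_succ, LinearMap.add_apply, hck, ofAdd_add, map_mul,
        ofAdd_toAdd, MulEquiv.symm_apply_apply, Subgroup.coe_mul, MulAut.conjNormal_apply, pow_succ]
      group
  constructor
  · intro n
    have h1 := hck (p ^ s) n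
    rw [hcs] at h1
    have h2 : MulAut.conjNormal (g ^ (p ^ s)) n = n :=
      (e.injective (Multiplicative.toAdd.injective h1)).symm
    have h3 := congrArg Subtype.val h2
    rw [MulAut.conjNormal_apply] at h3
    calc g ^ (p ^ s) * (n : G) = (g ^ (p ^ s) * (n : G) * (g ^ (p ^ s))⁻¹) * g ^ (p ^ s) := by group
      _ = (n : G) * g ^ (p ^ s) := by rw [h3]
  · intro a
    rw [hprod, hsum]
    simp

theorem pow_eq_one {G : Type*} [Group G] [Finite G] {Ω : Type*} [Fintype Ω] [MulAction G Ω]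
    [FaithfulSMul G Ω] (p m : ℕ) (hp : p.Prime) (hcard : Fintype.card Ω = p ^ m)
    (N : Subgroup G) [hN : N.Normal] (hNc : IsMulCommutative N) (hNp : ∀ n ∈ N, n ^ p = 1)
    (hNtr : MulAction.IsPretransitive N Ω) (hNreg : ∀ ω : Ω, MulAction.stabilizer N ω = ⊥)
    (g : G) (r s : ℕ) (hg : g ^ (p ^ r) = 1) (hs : m + 1 ≤ p ^ s) : g ^ (p ^ s) = 1 := by
  classical
  haveI : Fact p.Prime := ⟨hp⟩
  haveI := hNc
  letI iC : CommGroup ↥N :=
    { (inferInstance : Group ↥N) with mul_comm := fun a b => mul_comm' a b }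
  haveI : Nonempty Ω := by
    rw [← Fintype.card_pos_iff, hcard]
    exact pow_pos hp.pos m
  obtain ⟨ω⟩ : Nonempty Ω := inferInstance
  letI iM : Module (ZMod p) (Additive ↥N) := AddCommGroup.zmodModule (n := p) (fun x => by
    have h1 : (Additive.toMul x) ^ p = 1 := Subtype.ext (hNp _ (Additive.toMul x).2)
    exact congrArg Additive.ofMul h1)
  haveI iF : Finite (Additive ↥N) := inferInstanceAs (Finite ↥N)
  haveI iFD : FiniteDimensional (ZMod p) (Additive ↥N) := Module.Finite.of_finite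
  have hcardN : Nat.card ↥N = p ^ m := by
    rw [← hcard, ← Nat.card_eq_fintype_card]
    refine Nat.card_congr (Equiv.ofBijective (fun n : N => n • ω) ⟨?_, ?_⟩)
    · intro a b hab
      have h1 : a⁻¹ * b ∈ MulAction.stabilizer N ω := by
        rw [MulAction.mem_stabilizer_iff, mul_smul, ← (show a • ω = b • ω from hab), inv_smul_smul]
      rw [hNreg, Subgroup.mem_bot] at h1
      exact (inv_mul_eq_one.mp h1)
    · intro x
      exact MulAction.exists_smul_eq N ω x
  have hfin : Module.finrank (ZMod p) (Additive ↥N) = m := by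
    have h1 : Nat.card (Additive ↥N) = Nat.card (ZMod p) ^ Module.finrank (ZMod p) (Additive ↥N) :=
      @Module.natCard_eq_pow_finrank (ZMod p) (Additive ↥N) _ _ iM iFD
    rw [Nat.card_zmod] at h1
    have h2 : Nat.card (Additive ↥N) = p ^ m := hcardN
    rw [h2] at h1
    exact (Nat.pow_right_injective hp.two_le h1).symm
  obtain ⟨hcent, hprod⟩ := @aux G _ p _ N hN (Additive ↥N) _ iM iFD (MulEquiv.refl ↥N) g r s hg
    (by rw [hfin]; exact hs)
  obtain ⟨a, ha⟩ := MulAction.exists_smul_eq N (g • ω) ω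
  have hstab : (a : G) * g ∈ MulAction.stabilizer G ω := by
    rw [MulAction.mem_stabilizer_iff, mul_smul]
    exact ha
  have hstab' := Subgroup.pow_mem _ hstab (p ^ s)
  rw [hprod] at hstab'
  have hfix : g ^ (p ^ s) • ω = ω := hstab'
  apply FaithfulSMul.eq_of_smul_eq_smul (α := Ω)
  intro x
  obtain ⟨n, rfl⟩ := MulAction.exists_smul_eq N ω x
  rw [one_smul, Subgroup.smul_def, ← mul_smul, hcent, mul_smul, hfix]

end Cfsg.Agent.Lib.Helper2.AffOrd
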