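import Mathlib
import Cfsg.Agent.Lib.Helper2.GlauStep

/-!
# Real characters and real classes under the Glauberman correspondence for a `p`-group
-/

set_option autoImplicit false

namespace Cfsg.Agent.Lib.Helper2

open Cfsg Cfsg.Agent.CharLib Cfsg.Agent.BlockLib Finset
open scoped ComplexConjugate

/-- the complex conjugate of an irreducible character. -/
noncomputable def irrBar {X : Type*} [Group X] [Finite X] (χ : IrrCharacter X) : IrrCharacter X :=
  ⟨fun g => conj ((χ : X → ℂ) g), by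
    cases nonempty_fintype X
    exact isIrrCharacter_conj χ.2⟩

theorem irrBar_apply {X : Type*} [Group X] [Finite X] (χ : IrrCharacter X) (g : X) :
    (irrBar χ : X → ℂ) g = conj ((χ : X → ℂ) g) := rfl

theorem real_iff_irrBar {X : Type*} [Group X] [Finite X] (χ : IrrCharacter X) :
    (∀ g, ((χ : X → ℂ) g).im = 0) ↔ irrBar χ = χ := by
  constructor
  · intro h
    exact Subtype.ext (funext fun g => Complex.conj_eq_iff_im.mpr (h g))
  · intro h g
    have h1 := congrArg (fun ψ : IrrCharacter X => (ψ : X → ℂ) g) h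
    exact Complex.conj_eq_iff_im.mp h1

variable {Γ : Type*} [Group Γ] {G P B : Subgroup Γ}

theorem SInv.irrBar [Finite G] {χ : IrrCharacter G} (h : SInv G P (χ : G → ℂ)) :
    SInv G P (irrBar χ : G → ℂ) := by
  intro s hs g g' hg
  rw [irrBar_apply, irrBar_apply, h s hs g g' hg]

namespace GP

variable {p : ℕ} {M : Ideal AlgInt}

theorem rel_bar [Fintype G] [Fintype B] (h : GP G P B p M) {χ : IrrCharacter G} {β : IrrCharacter B}
    (hA : ¬ MemLocalIdeal M (aCoef h.le χ β)) :
    ¬ MemLocalIdeal M (aCoef h.le (irrBar χ) (irrBar β)) := by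
  obtain ⟨m, hm⟩ := GP.exists_mult h.le χ β
  have hm' : classInner (resTo h.le (irrBar χ : G → ℂ)) (irrBar β : B → ℂ) = m := by
    have h1 : classInner (resTo h.le (irrBar χ : G → ℂ)) (irrBar β : B → ℂ)
        = conj (classInner (resTo h.le (χ : G → ℂ)) (β : B → ℂ)) := by
      simp only [classInner, map_mul, map_inv₀, Complex.conj_natCast, map_sum]
      rfl
    rw [h1, hm, Complex.conj_natCast]
  rw [h.aCoef_mem_iff _ _ hm']
  rw [h.aCoef_mem_iff _ _ hm] at hA
  exact hA

/-- the number of real invariant irreducible characters. -/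
theorem card_real_sInv [Finite G] (h : GP G P B p M) :
    Nat.card {χ : IrrCharacter G // (∀ g, ((χ : G → ℂ) g).im = 0) ∧ SInv G P (χ : G → ℂ)}
      = Nat.card {β : IrrCharacter B // ∀ b, ((β : B → ℂ) b).im = 0} := by
  classical
  letI := Fintype.ofFinite G
  haveI : Finite B := Finite.of_injective _ (Subgroup.inclusion_injective h.le)
  letI := Fintype.ofFinite B
  choose F hF using fun χ : IrrCharacter G => h.exists_beta χ
  have hreal : ∀ χ : {χ : IrrCharacter G // (∀ g, ((χ : G → ℂ) g).im = 0) ∧ SInv G P (χ : G → ℂ)},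
      ∀ b, ((F χ.1 : B → ℂ) b).im = 0 := by
    intro χ
    rw [real_iff_irrBar]
    have h1 := h.rel_bar (hF χ.1)
    rw [(real_iff_irrBar χ.1).mp χ.2.1] at h1
    exact h.beta_unique χ.2.2 h1 (hF χ.1)
  refine Nat.card_congr (Equiv.ofBijective (fun χ => (⟨F χ.1, hreal χ⟩ :
    {β : IrrCharacter B // ∀ b, ((β : B → ℂ) b).im = 0})) ⟨?_, ?_⟩)
  · intro χ χ' hh
    have h1 : F χ.1 = F χ'.1 := congrArg Subtype.val hh
    apply Subtype.ext
    refine h.chi_unique χ.2.2 χ'.2.2 (F χ.1) (hF χ.1) ?_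
    rw [h1]
    exact hF χ'.1
  · rintro ⟨β, hβ⟩
    obtain ⟨χ, hχ, hA⟩ := h.exists_chi β
    have hχr : ∀ g, ((χ : G → ℂ) g).im = 0 := by
      rw [real_iff_irrBar]
      have h1 := h.rel_bar hA
      rw [(real_iff_irrBar β).mp hβ] at h1
      exact h.chi_unique hχ.irrBar hχ β h1 hA
    refine ⟨⟨χ, hχr, hχ⟩, Subtype.ext ?_⟩
    exact h.beta_unique hχ (hF χ) hA

/-- an invariant class contains a fixed point. -/
theorem exists_fixed_conj [Finite G] (h : GP G P B p M) (g₀ : G)
    (hK : ClInv G P (ConjClasses.mk g₀)) : ∃ b : B, IsConj g₀ (Subgroup.inclusion h.le b) := by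
  classical
  haveI := h.hfin
  haveI : Fact p.Prime := ⟨h.hM.1⟩
  have hK' := (clInv_mk_iff h.hnorm g₀).mp hK
  let X := {x : G // IsConj g₀ x}
  letI : MulAction P X :=
    { smul := fun s x => ⟨cjEquiv h.hnorm s x.1, by
        have h1 : IsConj (cjEquiv h.hnorm s g₀) (cjEquiv h.hnorm s x.1) :=
          (cjEquiv h.hnorm s).toMonoidHom.map_isConj x.2
        exact ((hK' s).symm.trans h1)⟩
      one_smul := fun x => Subtype.ext (Subtype.ext (by
        show ((1 : P) : Γ) * x.1 * ((1 : P) : Γ)⁻¹ = x.1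
        simp))
      mul_smul := fun s t x => Subtype.ext (Subtype.ext (by
        show ((s * t : P) : Γ) * x.1 * ((s * t : P) : Γ)⁻¹ = s * (t * x.1 * (t : Γ)⁻¹) * (s : Γ)⁻¹
        simp [mul_assoc])) }
  have hnd : ¬ p ∣ Nat.card X := fun hd => h.hpG (hd.trans (card_isConj_dvd g₀))
  obtain ⟨x, hx⟩ := h.hS.nonempty_fixed_point_of_prime_not_dvd_card X hnd
  have hxB : (x.1 : Γ) ∈ B := by
    rw [h.hC]
    refine (mem_fixed_iff h.hnorm x.1).mp fun s => ?_
    exact congrArg Subtype.val (hx s)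
  exact ⟨⟨x.1, hxB⟩, x.2⟩

/-- the number of real invariant classes. -/
theorem card_real_clInv [Finite G] (h : GP G P B p M) :
    Nat.card {K : ConjClasses G // (∀ g, ConjClasses.mk g = K → IsConj g g⁻¹) ∧ ClInv G P K}
      = Nat.card {L : ConjClasses B // ∀ b, ConjClasses.mk b = L → IsConj b b⁻¹} := by
  classical
  have hfix : ∀ (s : P) (b : B), cjEquiv h.hnorm s (Subgroup.inclusion h.le b)
      = Subgroup.inclusion h.le b := by
    intro s b
    have hb : ((Subgroup.inclusion h.le b : G) : Γ) ∈ G ⊓ Subgroup.centralizer (P : Set Γ) := by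
      rw [← h.hC]; exact b.2
    exact (mem_fixed_iff h.hnorm (Subgroup.inclusion h.le b)).mpr hb s
  have hwd : ∀ L : {L : ConjClasses B // ∀ b, ConjClasses.mk b = L → IsConj b b⁻¹},
      (∀ g, ConjClasses.mk g = ConjClasses.map (Subgroup.inclusion h.le) L.1 → IsConj g g⁻¹) ∧
        ClInv G P (ConjClasses.map (Subgroup.inclusion h.le) L.1) := by
    rintro ⟨L, hL⟩
    obtain ⟨b, rfl⟩ := ConjClasses.mk_surjective L
    constructor
    · intro g hg
      have h1 : IsConj g (Subgroup.inclusion h.le b) := ConjClasses.mk_eq_mk_iff_isConj.mp hg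
      have h2 : IsConj (Subgroup.inclusion h.le b) (Subgroup.inclusion h.le b⁻¹) :=
        (Subgroup.inclusion h.le).map_isConj (hL b rfl)
      rw [map_inv] at h2
      have h3 : IsConj g⁻¹ (Subgroup.inclusion h.le b)⁻¹ := by
        obtain ⟨x, hx⟩ := isConj_iff.mp h1
        exact isConj_iff.mpr ⟨x, by rw [← hx]; group⟩
      exact h1.trans (h2.trans h3.symm)
    · show ClInv G P (ConjClasses.mk (Subgroup.inclusion h.le b))
      rw [clInv_mk_iff h.hnorm]
      intro s
      rw [hfix]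
  symm
  refine Nat.card_congr (Equiv.ofBijective
    (fun L => (⟨ConjClasses.map (Subgroup.inclusion h.le) L.1, hwd L⟩ :
      {K : ConjClasses G // (∀ g, ConjClasses.mk g = K → IsConj g g⁻¹) ∧ ClInv G P K})) ⟨?_, ?_⟩)
  · rintro ⟨L, hL⟩ ⟨L', hL'⟩ hh
    obtain ⟨b, rfl⟩ := ConjClasses.mk_surjective L
    obtain ⟨b', rfl⟩ := ConjClasses.mk_surjective L'
    have h1 : ConjClasses.mk (Subgroup.inclusion h.le b) = ConjClasses.mk (Subgroup.inclusion h.le b') :=
      congrArg Subtype.val hh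
    apply Subtype.ext
    exact ConjClasses.mk_eq_mk_iff_isConj.mpr
      (h.isConj_of_isConj (ConjClasses.mk_eq_mk_iff_isConj.mp h1))
  · rintro ⟨K, hK1, hK2⟩
    obtain ⟨g₀, rfl⟩ := ConjClasses.mk_surjective K
    obtain ⟨b, hb⟩ := h.exists_fixed_conj g₀ hK2
    have hL : ∀ b', ConjClasses.mk b' = ConjClasses.mk b → IsConj b' b'⁻¹ := by
      intro b' hb'
      apply h.isConj_of_isConj
      rw [map_inv]
      apply hK1
      have h1 : IsConj (Subgroup.inclusion h.le b') (Subgroup.inclusion h.le b) :=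
        (Subgroup.inclusion h.le).map_isConj (ConjClasses.mk_eq_mk_iff_isConj.mp hb')
      exact ConjClasses.mk_eq_mk_iff_isConj.mpr (h1.trans hb.symm)
    refine ⟨⟨ConjClasses.mk b, hL⟩, Subtype.ext ?_⟩
    show ConjClasses.mk (Subgroup.inclusion h.le b) = ConjClasses.mk g₀
    exact ConjClasses.mk_eq_mk_iff_isConj.mpr hb.symm

end GP

end Cfsg.Agent.Lib.Helper2
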