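import Mathlib
import Cfsg.Agent.Lib.Helper10.GaloisIrr
import Cfsg.Agent.Lib.Helper10.CliffConj
import Cfsg.Agent.Lib.Helper10.CliffCorr
import Cfsg.Agent.Lib.Helper10.LinIrr
import Cfsg.Agent.H6.Gallagher
import Cfsg.Agent.H25.Codeg2
import Cfsg.Agent.H25.RealExt
import Cfsg.Agent.S0161
import Cfsg.Agent.S0886
import Cfsg.Agent.S0888
import Cfsg.Agent.Lib.Helper2.GlauReal

/-!
# Characters fixed by a Galois automorphism of `2`-power order inverting odd roots of unity,
over a normal subgroup of odd index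
-/

set_option autoImplicit false

namespace Cfsg.Agent.Lib.Helper2

open Cfsg Cfsg.Agent.CharLib Cfsg.Agent.CharLib.H2 Finset
open scoped ComplexConjugate

/-- a map of `2`-power order: sums modulo two localise on the fixed points -/
theorem sum_fixed_mod_two {X : Type*} [Fintype X] [DecidableEq X] (e : ℕ) :
    ∀ (f : X → X), f^[2 ^ e] = id → ∀ (w : X → ZMod 2), (∀ x, w (f x) = w x) →
      ∑ x, w x = ∑ x ∈ univ.filter (fun x => f x = x), w x := by
  induction e with
  | zero =>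
    intro f hf w _
    have : ∀ x, f x = x := fun x => by
      have := congrFun hf x
      simpa using this
    rw [Finset.filter_true_of_mem (fun x _ => this x)]
  | succ e ih =>
    intro f hf w hw
    have hg : (f^[2])^[2 ^ e] = id := by
      rw [← Function.iterate_mul, ← pow_succ', hf]
    have hw2 : ∀ x, w (f^[2] x) = w x := fun x => by
      change w (f (f x)) = w x
      rw [hw, hw]
    rw [ih (f^[2]) hg w hw2]
    rw [← Finset.sum_filter_add_sum_filter_not (univ.filter (fun x => f^[2] x = x))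
      (fun x => f x = x)]
    have h1 : (univ.filter (fun x => f^[2] x = x)).filter (fun x => f x = x) =
        univ.filter (fun x => f x = x) := by
      ext x
      simp only [Finset.mem_filter, Finset.mem_univ, true_and]
      constructor
      · exact fun h => h.2
      · intro h
        refine ⟨?_, h⟩
        change f (f x) = x
        rw [h, h]
    rw [h1]
    have h2 : ∑ x ∈ (univ.filter (fun x => f^[2] x = x)).filter (fun x => ¬ f x = x), w x = 0 := by
      refine Finset.sum_involution (fun x _ => f x) ?_ ?_ ?_ ?_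
      · intro x _
        rw [hw]
        exact CharTwo.add_self_eq_zero _
      · intro x hx _
        exact (Finset.mem_filter.mp hx).2
      · intro x hx
        simp only [Finset.mem_filter, Finset.mem_univ, true_and] at hx ⊢
        have h3 : f (f x) = x := hx.1
        refine ⟨?_, ?_⟩
        · change f (f (f x)) = f x
          rw [h3]
        · rw [h3]
          exact fun h => hx.2 h.symm
      · intro x hx
        simp only [Finset.mem_filter, Finset.mem_univ, true_and] at hx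
        exact hx.1
    rw [h2, add_zero]

/-- the standing hypotheses on the power map -/
structure KS (G : Type*) [Group G] (k e : ℕ) : Prop where
  cop : k.Coprime (Nat.card G)
  pw : ∀ g : G, g ^ (k ^ (2 ^ e)) = g
  inv : ∀ g : G, Odd (orderOf g) → g ^ k = g⁻¹

namespace KS

variable {G : Type*} [Group G] {k e : ℕ}

theorem sub [Finite G] (h : KS G k e) (H : Subgroup G) : KS H k e where
  cop := h.cop.coprime_dvd_right (Subgroup.card_subgroup_dvd_card H)
  pw := fun g => Subtype.ext (by simpa using h.pw (g : G))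
  inv := fun g hg => Subtype.ext (by
    have := h.inv (g : G) (by rwa [Subgroup.orderOf_coe])
    simpa using this)

/-- the power map as a permutation -/
noncomputable def pe (h : KS G k e) : G ≃ G := powCoprime h.cop.symm

@[simp] theorem pe_apply (h : KS G k e) (g : G) : h.pe g = g ^ k := rfl

theorem sum_pow [Fintype G] (h : KS G k e) (F : G → ℂ) : ∑ g, F (g ^ k) = ∑ g, F g :=
  Equiv.sum_comp h.pe F

theorem pow_mem_iff [Finite G] (h : KS G k e) (N : Subgroup G) (g : G) : g ^ k ∈ N ↔ g ∈ N := by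
  constructor
  · intro hg
    have h1 : g ^ (k ^ (2 ^ e)) ∈ N := by
      have : k ^ (2 ^ e) = k * k ^ (2 ^ e - 1) := by
        rw [← pow_succ', Nat.sub_add_cancel (Nat.one_le_two_pow)]
      rw [this, pow_mul]
      exact N.pow_mem hg _
    rwa [h.pw] at h1
  · exact fun hg => N.pow_mem hg _

theorem quot_inv [Finite G] (h : KS G k e) (N : Subgroup G) [N.Normal] (hodd : Odd N.index)
    (x : G ⧸ N) : x ^ k = x⁻¹ := by
  obtain ⟨g, rfl⟩ := QuotientGroup.mk_surjective x
  obtain ⟨a, m, hm, ho⟩ := Nat.exists_eq_two_pow_mul_odd (orderOf_pos g).ne'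
  have h1 : Odd (orderOf (g ^ (2 ^ a))) := by
    rw [orderOf_pow, ho, Nat.gcd_eq_right (Dvd.intro _ rfl), Nat.mul_div_cancel_left _ (by positivity)]
    exact hm
  have h2 := h.inv _ h1
  have h3 : ((g : G ⧸ N) ^ (k + 1)) ^ (2 ^ a) = 1 := by
    have : ((g ^ (2 ^ a)) ^ k * g ^ (2 ^ a) : G) = 1 := by rw [h2]; simp
    have h4 := congrArg (QuotientGroup.mk (s := N)) this
    rw [← pow_mul, ← pow_add] at h4
    rw [← pow_mul]
    have h5 : (k + 1) * 2 ^ a = 2 ^ a * k + 2 ^ a := by ring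
    rw [h5]
    simpa using h4
  have h6 : orderOf ((g : G ⧸ N) ^ (k + 1)) ∣ 2 ^ a := orderOf_dvd_of_pow_eq_one h3
  have h7 : orderOf ((g : G ⧸ N) ^ (k + 1)) ∣ N.index := by
    rw [Subgroup.index_eq_card]
    exact orderOf_dvd_natCard _
  have h8 : orderOf ((g : G ⧸ N) ^ (k + 1)) = 1 := by
    have : Nat.Coprime (2 ^ a) N.index := (Nat.coprime_two_left.mpr hodd).pow_left a
    exact Nat.eq_one_of_dvd_coprimes this h6 h7
  rw [orderOf_eq_one_iff, pow_succ] at h8
  exact eq_inv_of_mul_eq_one_left h8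

end KS

universe u

section main

variable {G : Type u} [Group G] [Fintype G] {k e : ℕ}

/-- restriction to a normal subgroup in terms of the characters of the quotient -/
theorem inner_res_eq (N : Subgroup G) [N.Normal] [Fintype N] (A B : G → ℂ) :
    classInner (fun n : N => A n) (fun n : N => B n) =
      ∑ β : IrrCharacter (G ⧸ N), (β : G ⧸ N → ℂ) 1 *
        classInner (fun g => A g * (β : G ⧸ N → ℂ) (QuotientGroup.mk g)) B := by
  classical
  simp only [classInner]
  have h1 : ∀ β : IrrCharacter (G ⧸ N), (β : G ⧸ N → ℂ) 1 *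
      ((Nat.card G : ℂ)⁻¹ * ∑ g : G, A g * (β : G ⧸ N → ℂ) (QuotientGroup.mk g) * conj (B g)) =
      (Nat.card G : ℂ)⁻¹ * ∑ g : G, ((β : G ⧸ N → ℂ) 1 * (β : G ⧸ N → ℂ) (QuotientGroup.mk g)) *
        (A g * conj (B g)) := by
    intro β
    rw [mul_left_comm, Finset.mul_sum]
    congr 1
    refine Finset.sum_congr rfl fun g _ => ?_
    ring
  rw [Finset.sum_congr rfl (fun β _ => h1 β), ← Finset.mul_sum, Finset.sum_comm]
  have h2 : ∀ g : G, ∑ β : IrrCharacter (G ⧸ N),
      ((β : G ⧸ N → ℂ) 1 * (β : G ⧸ N → ℂ) (QuotientGroup.mk g)) * (A g * conj (B g)) =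
      (Nat.card (G ⧸ N) : ℂ) * (extendByZero N (fun _ => (1 : ℂ)) g * (A g * conj (B g))) := by
    intro g
    rw [← Finset.sum_mul, sum_irr_one_mul]
    by_cases hg : g ∈ N
    · rw [if_pos ((QuotientGroup.eq_one_iff g).mpr hg), extendByZero_of_mem N _ hg, one_mul]
    · rw [if_neg (fun h => hg ((QuotientGroup.eq_one_iff g).mp h)), extendByZero_of_not_mem N _ hg]
      simp
  rw [Finset.sum_congr rfl (fun g _ => h2 g), ← Finset.mul_sum, sum_extendByZero_mul]
  simp only [one_mul]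
  rw [← mul_assoc]
  congr 1
  have h3 : (Nat.card G : ℂ) = (Nat.card (G ⧸ N) : ℂ) * (Nat.card N : ℂ) := by
    rw [← Nat.cast_mul, ← Subgroup.index_eq_card, Subgroup.index_mul_card]
  have h4 : (Nat.card (G ⧸ N) : ℂ) ≠ 0 := by
    rw [← Subgroup.index_eq_card]
    exact_mod_cast Subgroup.index_ne_zero_of_finite
  have h5 := card_subgroup_ne_zero N
  rw [h3]
  field_simp

/-- the parity lemma -/
theorem parity (h : KS G k e) (N : Subgroup G) [N.Normal] [Fintype N] (hodd : Odd N.index)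
    {A B : G → ℂ} (hA : IsCharacter G A) (hB : IsCharacter G B)
    (hAk : ∀ g, A (g ^ k) = A g) (hBk : ∀ g, B (g ^ k) = B g) {a b : ℕ}
    (ha : classInner (fun n : N => A n) (fun n : N => B n) = a) (hb : classInner A B = b) :
    (a : ZMod 2) = b := by
  classical
  have hch : ∀ β : IrrCharacter (G ⧸ N), ∃ n : ℕ,
      classInner (fun g => A g * (β : G ⧸ N → ℂ) (QuotientGroup.mk g)) B = n := fun β =>
    classInner_char_nat (isCharacter_mul hA
      (isCharacter_comp (isCharacter_of_irr β.2) (QuotientGroup.mk' N))) hB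
  choose n hn using hch
  have hd : ∀ β : IrrCharacter (G ⧸ N), ∃ d : ℕ, (β : G ⧸ N → ℂ) 1 = d := fun β => by
    obtain ⟨d, -, hd⟩ := irr_apply_one_nat β
    exact ⟨d, hd⟩
  choose d hd using hd
  have h1 : a = ∑ β : IrrCharacter (G ⧸ N), d β * n β := by
    have := inner_res_eq N A B
    rw [ha, Finset.sum_congr rfl (fun β _ => by rw [hd β, hn β])] at this
    exact_mod_cast this
  set one : IrrCharacter (G ⧸ N) := ⟨fun _ => 1, isIrrCharacter_one⟩ with hone
  have hbar : ∀ β : IrrCharacter (G ⧸ N), n (irrBar β) = n β := by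
    intro β
    have h2 : classInner (fun g => A g * (irrBar β : G ⧸ N → ℂ) (QuotientGroup.mk g)) B =
        classInner (fun g => A g * (β : G ⧸ N → ℂ) (QuotientGroup.mk g)) B := by
      simp only [classInner]
      congr 1
      rw [← h.sum_pow (fun g => A g * (β : G ⧸ N → ℂ) (QuotientGroup.mk g) * conj (B g))]
      refine Finset.sum_congr rfl fun g _ => ?_
      rw [hAk, hBk, irrBar_apply, QuotientGroup.mk_pow, h.quot_inv N hodd,
        isCharacter_inv (isCharacter_of_irr β.2)]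
    rw [hn, hn] at h2
    exact_mod_cast h2
  have hdbar : ∀ β : IrrCharacter (G ⧸ N), d (irrBar β) = d β := by
    intro β
    have h2 : (irrBar β : G ⧸ N → ℂ) 1 = (β : G ⧸ N → ℂ) 1 := by
      rw [irrBar_apply, hd, Complex.conj_natCast]
    rw [hd, hd] at h2
    exact_mod_cast h2
  have hcard : Odd (Nat.card (G ⧸ N)) := by rwa [← Subgroup.index_eq_card]
  have h3 : ∑ β ∈ univ.erase one, ((d β * n β : ℕ) : ZMod 2) = 0 := by
    refine Finset.sum_involution (fun β _ => irrBar β) ?_ ?_ ?_ ?_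
    · intro β _
      rw [hbar, hdbar]
      exact CharTwo.add_self_eq_zero _
    · intro β hβ _ hfix
      apply (Finset.mem_erase.mp hβ).1
      have := Cfsg.Agent.S0161.result hcard β ((real_iff_irrBar β).mpr hfix)
      exact Subtype.ext this
    · intro β hβ
      refine Finset.mem_erase.mpr ⟨?_, Finset.mem_univ _⟩
      intro h4
      apply (Finset.mem_erase.mp hβ).1
      apply Subtype.ext
      funext x
      have h5 := congrArg (fun ψ : IrrCharacter (G ⧸ N) => conj ((ψ : G ⧸ N → ℂ) x)) h4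
      simpa [irrBar_apply, hone] using h5
    · intro β _
      apply Subtype.ext
      funext x
      simp [irrBar_apply]
  have h4 : d one = 1 := by
    have : (one : G ⧸ N → ℂ) 1 = 1 := rfl
    rw [hd] at this
    exact_mod_cast this
  have h5 : n one = b := by
    have : classInner (fun g => A g * (one : G ⧸ N → ℂ) (QuotientGroup.mk g)) B = classInner A B := by
      congr 1
      funext g
      exact mul_one _
    rw [hn, hb] at this
    exact_mod_cast this
  rw [h1, Nat.cast_sum, ← Finset.add_sum_erase _ _ (Finset.mem_univ one), h3, add_zero, h4, h5, one_mul]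

/-- the Galois conjugate of an irreducible character -/
noncomputable def KS.sig (h : KS G k e) (χ : IrrCharacter G) : IrrCharacter G :=
  ⟨fun g => (χ : G → ℂ) (g ^ k), Cfsg.Agent.Lib.Helper10.isIrrCharacter_pow χ.2 k h.cop⟩

theorem KS.sig_apply (h : KS G k e) (χ : IrrCharacter G) (g : G) :
    (h.sig χ : G → ℂ) g = (χ : G → ℂ) (g ^ k) := rfl

theorem KS.sig_iter_apply (h : KS G k e) (j : ℕ) : ∀ (χ : IrrCharacter G) (g : G),
    ((h.sig)^[j] χ : G → ℂ) g = (χ : G → ℂ) (g ^ (k ^ j)) := by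
  induction j with
  | zero => intro χ g; simp
  | succ j ih =>
    intro χ g
    rw [Function.iterate_succ_apply, ih, h.sig_apply, ← pow_mul, ← pow_succ]

theorem KS.sig_iter (h : KS G k e) : (h.sig)^[2 ^ e] = id := by
  funext χ
  apply Subtype.ext
  funext g
  rw [h.sig_iter_apply, h.pw]
  rfl

theorem KS.sig_eq_iff (h : KS G k e) (χ : IrrCharacter G) :
    h.sig χ = χ ↔ ∀ g, (χ : G → ℂ) (g ^ k) = (χ : G → ℂ) g := by
  constructor
  · intro h1 g
    exact congrArg (fun ψ : IrrCharacter G => (ψ : G → ℂ) g) h1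
  · intro h1
    exact Subtype.ext (funext h1)

theorem KS.indFun_pow (h : KS G k e) (N : Subgroup G) {θ : N → ℂ}
    (hθk : ∀ n : N, θ (n ^ k) = θ n) (g : G) : indFun N θ (g ^ k) = indFun N θ g := by
  simp only [indFun_apply]
  congr 1
  refine Finset.sum_congr rfl fun x _ => ?_
  have h1 : x⁻¹ * g ^ k * x = (x⁻¹ * g * x) ^ k := by
    have := conj_pow (a := x⁻¹) (b := g) (i := k)
    simpa using this.symm
  rw [h1]
  by_cases hy : x⁻¹ * g * x ∈ N
  · rw [extendByZero_of_mem N _ hy, extendByZero_of_mem N _ (N.pow_mem hy k)]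
    exact hθk ⟨_, hy⟩
  · rw [extendByZero_of_not_mem N _ hy,
      extendByZero_of_not_mem N _ (fun h2 => hy ((h.pow_mem_iff N _).mp h2))]

/-- existence of a fixed character above a fixed character -/
theorem exists_fixed (h : KS G k e) (N : Subgroup G) [hN : N.Normal] [Fintype N] (hodd : Odd N.index)
    {θ : N → ℂ} (hθ : IsIrrCharacter N θ) (hθk : ∀ n : N, θ (n ^ k) = θ n) :
    ∃ χ : IrrCharacter G, classInner (fun n : N => (χ : G → ℂ) n) θ ≠ 0 ∧
      ∀ g, (χ : G → ℂ) (g ^ k) = (χ : G → ℂ) g := by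
  classical
  set Θ := indFun N θ with hΘ
  have hΘc : IsCharacter G Θ := isCharacter_indFun _ (isCharacter_of_irr hθ)
  obtain ⟨m, hm⟩ := isCharacter_iff.mp hΘc
  have hmc : ∀ χ : IrrCharacter G, classInner Θ χ = m χ := by
    intro χ
    rw [hm]
    exact classInner_sum_smul_irr (fun χ => (m χ : ℂ)) χ
  have hnorm : classInner Θ Θ = ((∑ χ : IrrCharacter G, m χ ^ 2 : ℕ) : ℂ) := by
    conv_lhs => rw [hm]
    rw [classInner_sum_sum, Nat.cast_sum]
    refine Finset.sum_congr rfl fun χ _ => ?_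
    rw [Complex.conj_natCast]
    push_cast
    ring
  have h1 := card_mul_norm_indFun hN hθ
  rw [← hΘ, hnorm] at h1
  have h2 : Nat.card {g : G // H2.conjFun hN θ g = θ} = Nat.card (inertia hN θ) := rfl
  rw [h2] at h1
  have h3 : Nat.card N * (∑ χ : IrrCharacter G, m χ ^ 2) = Nat.card (inertia hN θ) := by
    exact_mod_cast h1
  have h4 : Odd (∑ χ : IrrCharacter G, m χ ^ 2) := by
    have h5 := Subgroup.card_mul_index (inertia hN θ)
    have h6 := Subgroup.card_mul_index N
    rw [← h3, ← h6, mul_assoc] at h5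
    have h7 := Nat.eq_of_mul_eq_mul_left Nat.card_pos h5
    rw [← h7] at hodd
    exact (Nat.odd_mul.mp hodd).1
  have hsig : ∀ χ : IrrCharacter G, m (h.sig χ) = m χ := by
    intro χ
    have h5 : classInner Θ (h.sig χ : G → ℂ) = classInner Θ (χ : G → ℂ) := by
      simp only [classInner]
      congr 1
      rw [← h.sum_pow (fun g => Θ g * conj ((χ : G → ℂ) g))]
      refine Finset.sum_congr rfl fun g _ => ?_
      rw [hΘ, h.indFun_pow N hθk, h.sig_apply]
    rw [hmc, hmc] at h5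
    exact_mod_cast h5
  have h5 := sum_fixed_mod_two e h.sig h.sig_iter (fun χ => ((m χ ^ 2 : ℕ) : ZMod 2))
    (fun χ => by rw [hsig])
  rw [← Nat.cast_sum] at h5
  have h6 : ((∑ χ : IrrCharacter G, m χ ^ 2 : ℕ) : ZMod 2) ≠ 0 := by
    rw [Ne, ZMod.natCast_eq_zero_iff_even]
    exact Nat.not_even_iff_odd.mpr h4
  rw [h5] at h6
  obtain ⟨χ, hχ, hχ0⟩ := Finset.exists_ne_zero_of_sum_ne_zero h6
  refine ⟨χ, ?_, (h.sig_eq_iff χ).mp (Finset.mem_filter.mp hχ).2⟩
  have h7 : m χ ≠ 0 := by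
    intro h0
    apply hχ0
    rw [h0]
    simp
  have h8 := hmc χ
  rw [hΘ, frobenius_reciprocity N θ (isClassFunction_of_irr χ.2)] at h8
  rw [← classInner_conj_symm, h8, Complex.conj_natCast]
  exact_mod_cast h7

/-- uniqueness of the fixed character above a character -/
theorem fixed_unique (h : KS G k e) (N : Subgroup G) [hN : N.Normal] [Fintype N] (hodd : Odd N.index)
    {θ : N → ℂ} (hθ : IsIrrCharacter N θ) {χ₁ χ₂ : IrrCharacter G}
    (h1 : classInner (fun n : N => (χ₁ : G → ℂ) n) θ ≠ 0)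
    (h2 : classInner (fun n : N => (χ₂ : G → ℂ) n) θ ≠ 0)
    (hk1 : ∀ g, (χ₁ : G → ℂ) (g ^ k) = (χ₁ : G → ℂ) g)
    (hk2 : ∀ g, (χ₂ : G → ℂ) (g ^ k) = (χ₂ : G → ℂ) g) : χ₁ = χ₂ := by
  classical
  by_contra hne
  have hc1 := isCharacter_of_irr χ₁.2
  have hc2 := isCharacter_of_irr χ₂.2
  have hr1 : IsCharacter N (fun n : N => (χ₁ : G → ℂ) n) := isCharacter_restrict hc1 N
  have hr2 : IsCharacter N (fun n : N => (χ₂ : G → ℂ) n) := isCharacter_restrict hc2 N
  obtain ⟨e1, he1⟩ := classInner_char_nat hr1 (isCharacter_of_irr hθ)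
  obtain ⟨e2, he2⟩ := classInner_char_nat hr2 (isCharacter_of_irr hθ)
  obtain ⟨a, ha⟩ := classInner_char_nat hr1 hr1
  obtain ⟨b, hb⟩ := classInner_char_nat hr2 hr2
  obtain ⟨c, hc⟩ := classInner_char_nat hr1 hr2
  have k1 := Cfsg.Agent.S0174.result N hN χ₁ χ₁.2 θ hθ h1
  have k2 := Cfsg.Agent.S0174.result N hN χ₂ χ₂.2 θ hθ h2
  rw [he1] at k1
  rw [he2] at k2
  set S : N → ℂ := ∑ᶠ ψ ∈ {ψ : N → ℂ | ∃ g : G, ψ = fun n : N =>
    θ ⟨g * n * g⁻¹, hN.conj_mem n n.2 g⟩}, ψ with hS
  have hcc : c * c = a * b := by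
    have : (c : ℂ) * c = a * b := by
      rw [← ha, ← hb, ← hc, k1, k2]
      simp only [classInner_smul_left, classInner_smul_right, Complex.conj_natCast]
      ring
    exact_mod_cast this
  have pa := parity h N hodd hc1 hc1 hk1 hk1 (b := 1) ha (by rw [classInner_irr_self χ₁.2]; simp)
  have pb := parity h N hodd hc2 hc2 hk2 hk2 (b := 1) hb (by rw [classInner_irr_self χ₂.2]; simp)
  have pc := parity h N hodd hc1 hc2 hk1 hk2 (b := 0) hc (by
    rw [classInner_irr_ne χ₁.2 χ₂.2 (fun h => hne (Subtype.ext h))]; simp)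
  have := congrArg (fun n : ℕ => (n : ZMod 2)) hcc
  simp only [Nat.cast_mul, pa, pb, pc] at this
  simp at this

/-- an irreducible character over the principal character of `N` is constant on `N` -/
theorem const_of_over_one (N : Subgroup G) [hN : N.Normal] {β : G → ℂ} (hβ : IsIrrCharacter G β)
    (hne : classInner (indFun N (fun _ => (1 : ℂ))) β ≠ 0) (n : N) : β n = β 1 := by
  classical
  haveI : Fintype N := Fintype.ofFinite N
  have h2 : classInner (indFun N (fun _ => (1 : ℂ))) β =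
      conj (classInner (fun n : N => β n) (fun _ => (1 : ℂ))) := by
    rw [frobenius_reciprocity N _ (isClassFunction_of_irr hβ), classInner_conj_symm]
  have hcon : classInner (fun n : N => β n) (fun _ => (1 : ℂ)) ≠ 0 := by
    intro h0; apply hne; rw [h2, h0, map_zero]
  have h3 := Cfsg.Agent.H6.restrict_eq_smul_of_invariant N hN hβ (isIrrCharacter_one (G := N)) hcon
    (fun _ _ => rfl)
  have h4 := congrFun h3 1
  have h5 := congrFun h3 n
  simp only [Pi.smul_apply, smul_eq_mul, mul_one, OneMemClass.coe_one] at h4 h5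
  rw [h5, h4]

/-- from an extension to a fixed extension -/
theorem ext_fixed (h : KS G k e) (N : Subgroup G) [hN : N.Normal] (hodd : Odd N.index)
    {θ : N → ℂ} (hθ : IsIrrCharacter N θ) (hθk : ∀ n : N, θ (n ^ k) = θ n)
    {χ₀ : G → ℂ} (hχ₀ : IsIrrCharacter G χ₀) (hext : ∀ n : N, χ₀ n = θ n) :
    ∃ χ : IrrCharacter G, (∀ g, (χ : G → ℂ) (g ^ k) = (χ : G → ℂ) g) ∧
      ∀ n : N, (χ : G → ℂ) n = θ n := by
  classical
  haveI : Fintype N := Fintype.ofFinite N
  have hres : (fun n : N => χ₀ n) = θ := funext hext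
  have hG := Cfsg.Agent.H6.gallagher N hχ₀ (by rw [hres]; exact hθ)
  rw [hres] at hG
  have hs : (h.sig ⟨χ₀, hχ₀⟩ : G → ℂ) ∈
      {ψ : G → ℂ | IsIrrCharacter G ψ ∧ classInner (indFun N θ) ψ ≠ 0} := by
    refine ⟨(h.sig ⟨χ₀, hχ₀⟩).2, ?_⟩
    rw [frobenius_reciprocity N θ (isClassFunction_of_irr (h.sig ⟨χ₀, hχ₀⟩).2)]
    have : (fun n : N => (h.sig ⟨χ₀, hχ₀⟩ : G → ℂ) n) = θ := by
      funext n
      rw [h.sig_apply]
      change χ₀ ((n : G) ^ k) = θ n
      have := hext (n ^ k)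
      rw [hθk] at this
      simpa using this
    rw [this, classInner_irr_self hθ]
    exact one_ne_zero
  obtain ⟨lam, ⟨hl1, hl2⟩, hl3⟩ := hG.surjOn hs
  have hl4 : ∀ g, lam g * χ₀ g = χ₀ (g ^ k) := fun g => congrFun hl3 g
  have hχ1 : χ₀ 1 ≠ 0 := by
    obtain ⟨n, hn, hn1⟩ := irr_apply_one_nat ⟨χ₀, hχ₀⟩
    change χ₀ 1 = n at hn1
    rw [hn1]
    exact_mod_cast hn.ne'
  have hlam1 : lam 1 = 1 := by
    have := hl4 1
    rw [one_pow] at this
    exact mul_right_cancel₀ hχ1 (this.trans (one_mul _).symm)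
  set ω := Cfsg.Agent.Lib.Helper10.homOfLin ⟨lam, hl1⟩ hlam1 with hω
  have hωv : ∀ g, ((ω g : ℂˣ) : ℂ) = lam g := fun g => rfl
  have hωN : ∀ g ∈ N, ω g = 1 := by
    intro g hg
    apply Units.ext
    rw [hωv, Units.val_one, ← hlam1]
    exact const_of_over_one N hl1 hl2 ⟨g, hg⟩
  obtain ⟨t, ht⟩ := hodd
  have hωm : ∀ g, ω g ^ (2 * t + 1) = 1 := by
    intro g
    rw [← map_pow, ← ht]
    exact hωN _ (N.pow_index_mem g)
  set μ : G →* ℂˣ := ω ^ (t + 1) with hμ
  have hμv : ∀ g, μ g = ω g ^ (t + 1) := fun g => rfl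
  have hμ2 : ∀ g, μ g * μ g = ω g := by
    intro g
    rw [hμv, ← pow_add]
    have : t + 1 + (t + 1) = (2 * t + 1) + 1 := by ring
    rw [this, pow_succ, hωm, one_mul]
  have hμN : ∀ g ∈ N, μ g = 1 := by
    intro g hg
    rw [hμv, hωN g hg, one_pow]
  have hμk : ∀ g, μ (g ^ k) * μ g = 1 := by
    intro g
    rw [← map_mul, ← pow_succ]
    apply hμN
    rw [← QuotientGroup.eq_one_iff, QuotientGroup.mk_pow, pow_succ,
      h.quot_inv N (by rw [ht]; exact ⟨t, rfl⟩)]
    simp
  refine ⟨⟨fun g => (μ g : ℂ) * χ₀ g, Cfsg.Agent.H25.isIrrCharacter_hom_mul μ hχ₀⟩, ?_, ?_⟩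
  · intro g
    change (μ (g ^ k) : ℂ) * χ₀ (g ^ k) = (μ g : ℂ) * χ₀ g
    rw [← hl4, ← hωv, ← hμ2, ← mul_assoc, Units.val_mul, ← mul_assoc, ← Units.val_mul, hμk]
    simp
  · intro n
    change (μ (n : G) : ℂ) * χ₀ n = θ n
    rw [hμN _ n.2, hext]
    simp

open Cfsg.Agent.Lib.Helper10 in
/-- one step of prime index -/
theorem ext_step (h : KS G k e) (N M : Subgroup G) [hN : N.Normal] [hM : M.Normal] (hNM : N ≤ M)
    (q : ℕ) (hq : q.Prime) (hqodd : Odd q) (hidx : N.relIndex M = q)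
    {θ : N → ℂ} (hθ : IsIrrCharacter N θ)
    (hinv : ∀ (g : G) (n : N), θ ⟨g * n * g⁻¹, hN.conj_mem (n : G) n.2 g⟩ = θ n)
    (hθk : ∀ n : N, θ (n ^ k) = θ n) :
    ∃ η : M → ℂ, IsIrrCharacter M η ∧
      (∀ (g : G) (m : M), η ⟨g * m * g⁻¹, hM.conj_mem (m : G) m.2 g⟩ = η m) ∧
      (∀ m : M, η (m ^ k) = η m) ∧ ∀ n : N, η ⟨n, hNM n.2⟩ = θ n := by
  classical
  haveI : Fintype M := Fintype.ofFinite M
  haveI : Fintype (N.subgroupOf M) := Fintype.ofFinite _
  haveI hN' : (N.subgroupOf M).Normal := hN.subgroupOf M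
  have hθ' := isIrrCharacter_resSub hNM hθ
  have hi : (N.subgroupOf M).index = q := hidx
  haveI : Fact q.Prime := ⟨hq⟩
  have hcyc : IsCyclic (M ⧸ N.subgroupOf M) := by
    apply isCyclic_of_prime_card (p := q)
    rw [← Subgroup.index_eq_card, hi]
  have hinv' : ∀ (g : M) (n : N.subgroupOf M), resSub N M θ
      ⟨g * n * g⁻¹, hN'.conj_mem (n : M) n.2 g⟩ = resSub N M θ n := by
    intro g n
    exact hinv (g : G) ⟨((n : M) : G), Subgroup.mem_subgroupOf.mp n.2⟩
  have hθk' : ∀ n : N.subgroupOf M, resSub N M θ (n ^ k) = resSub N M θ n := by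
    intro n
    exact hθk ⟨((n : M) : G), Subgroup.mem_subgroupOf.mp n.2⟩
  obtain ⟨η₀, hη₀, hη₀e⟩ := Cfsg.Agent.S0886.result (N.subgroupOf M) hcyc _ hθ' hinv'
  obtain ⟨η, hηk, hηe⟩ := ext_fixed (h.sub M) (N.subgroupOf M) (by rw [hi]; exact hqodd) hθ' hθk'
    hη₀ hη₀e
  have hover : ∀ ψ : IrrCharacter M, (∀ n : N.subgroupOf M, (ψ : M → ℂ) n = resSub N M θ n) →
      classInner (fun n : N.subgroupOf M => (ψ : M → ℂ) n) (resSub N M θ) ≠ 0 := by
    intro ψ hψ
    rw [show (fun n : N.subgroupOf M => (ψ : M → ℂ) n) = resSub N M θ from funext hψ,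
      classInner_irr_self hθ']
    exact one_ne_zero
  refine ⟨η, η.2, ?_, hηk, ?_⟩
  · intro g m
    set η' : IrrCharacter M := ⟨H2.conjFun hM (η : M → ℂ) g, isIrrCharacter_conjFun hM η.2 g⟩
      with hη'
    have h1 : η' = η := by
      refine fixed_unique (h.sub M) (N.subgroupOf M) (by rw [hi]; exact hqodd) hθ'
        (hover η' ?_) (hover η hηe) ?_ hηk
      · intro n
        change (η : M → ℂ) ⟨g * ((n : M) : G) * g⁻¹, _⟩ = _
        have hmem : g * ((n : M) : G) * g⁻¹ ∈ N :=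
          hN.conj_mem _ (Subgroup.mem_subgroupOf.mp n.2) g
        have h2 := hηe ⟨⟨g * ((n : M) : G) * g⁻¹, hNM hmem⟩, Subgroup.mem_subgroupOf.mpr hmem⟩
        rw [h2]
        exact hinv g ⟨((n : M) : G), Subgroup.mem_subgroupOf.mp n.2⟩
      · intro m
        change (η : M → ℂ) ⟨g * ((m ^ k : M) : G) * g⁻¹, _⟩ = (η : M → ℂ) ⟨g * (m : G) * g⁻¹, _⟩
        rw [← hηk ⟨g * (m : G) * g⁻¹, hM.conj_mem _ m.2 g⟩]
        refine congrArg (η : M → ℂ) (Subtype.ext ?_)
        simp [conj_pow]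
    exact congrArg (fun ψ : IrrCharacter M => (ψ : M → ℂ) m) h1
  · intro n
    exact hηe ⟨⟨n, hNM n.2⟩, Subgroup.mem_subgroupOf.mpr n.2⟩

/-- extension when the quotient is a `q`-group -/
theorem ext_pgroup (h : KS G k e) (q : ℕ) (hq : q.Prime) : ∀ (j : ℕ) (N : Subgroup G)
    (hN : N.Normal), N.index = q ^ j → Odd N.index → ∀ (θ : N → ℂ), IsIrrCharacter N θ →
    (∀ (g : G) (n : N), θ ⟨g * n * g⁻¹, hN.conj_mem (n : G) n.2 g⟩ = θ n) →
    (∀ n : N, θ (n ^ k) = θ n) →
    ∃ χ : IrrCharacter G, (∀ g, (χ : G → ℂ) (g ^ k) = (χ : G → ℂ) g) ∧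
      ∀ n : N, (χ : G → ℂ) n = θ n := by
  classical
  haveI : Fact q.Prime := ⟨hq⟩
  intro j
  induction j with
  | zero =>
    intro N hN hidx _ θ hθ _ hθk
    have htop : ∀ g : G, g ∈ N := by
      rw [pow_zero, Subgroup.index_eq_one] at hidx
      intro g; rw [hidx]; exact Subgroup.mem_top g
    let f : G →* N := { toFun := fun g => ⟨g, htop g⟩, map_one' := rfl, map_mul' := fun _ _ => rfl }
    refine ⟨⟨fun g => θ (f g), isIrrCharacter_comp_of_surjective hθ f (fun n => ⟨n, rfl⟩)⟩, ?_, ?_⟩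
    · intro g
      exact hθk (f g)
    · intro n; rfl
  | succ j ih =>
    intro N hN hidx hodd θ hθ hinv hθk
    have hqodd : Odd q := by
      rw [hidx] at hodd
      exact (Nat.odd_pow_iff (Nat.succ_ne_zero j)).mp hodd
    have hcard : Nat.card (G ⧸ N) = q ^ (j + 1) := by rw [← Subgroup.index_eq_card, hidx]
    have hp : IsPGroup q (G ⧸ N) := IsPGroup.of_card hcard
    haveI : Nontrivial (G ⧸ N) := by
      rw [← Finite.one_lt_card_iff_nontrivial, hcard]
      exact Nat.one_lt_pow (Nat.succ_ne_zero j) hq.one_lt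
    haveI := hp.center_nontrivial
    have hdvd : q ∣ Nat.card (Subgroup.center (G ⧸ N)) := by
      rcases (hp.to_subgroup (Subgroup.center (G ⧸ N))).card_eq_or_dvd with h1 | h1
      · exact absurd h1 (Finite.one_lt_card_iff_nontrivial.mpr inferInstance).ne'
      · exact h1
    obtain ⟨z, hz⟩ := exists_prime_orderOf_dvd_card' q hdvd
    set Z : Subgroup (G ⧸ N) := Subgroup.zpowers (z : G ⧸ N) with hZ
    have hZn : Z.Normal := by
      refine ⟨fun x hx g => ?_⟩
      obtain ⟨i, rfl⟩ := Subgroup.mem_zpowers_iff.mp hx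
      have hc : (z : G ⧸ N) ^ i ∈ Subgroup.center (G ⧸ N) := (Subgroup.center _).zpow_mem z.2 i
      have := Subgroup.mem_center_iff.mp hc g
      rw [this, mul_inv_cancel_right]
      exact Subgroup.mem_zpowers_iff.mpr ⟨i, rfl⟩
    have hZc : Nat.card Z = q := by
      rw [hZ, Nat.card_zpowers, Subgroup.orderOf_coe, hz]
    set M : Subgroup G := Z.comap (QuotientGroup.mk' N) with hMdef
    haveI hM : M.Normal := hZn.comap _
    have hNM : N ≤ M := by
      intro n hn
      rw [hMdef, Subgroup.mem_comap]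
      have : QuotientGroup.mk' N n = 1 := (QuotientGroup.eq_one_iff n).mpr hn
      rw [this]
      exact Z.one_mem
    have hMi : M.index = q ^ j := by
      rw [hMdef, Subgroup.index_comap_of_surjective _ (QuotientGroup.mk'_surjective N)]
      have h1 := Subgroup.card_mul_index Z
      rw [hZc, hcard, pow_succ'] at h1
      exact Nat.eq_of_mul_eq_mul_left hq.pos h1
    have hrel : N.relIndex M = q := by
      have h1 := Subgroup.relIndex_mul_index hNM
      rw [hMi, hidx, pow_succ'] at h1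
      exact Nat.eq_of_mul_eq_mul_right (pow_pos hq.pos j) h1
    obtain ⟨η, hη, hηinv, hηk, hηe⟩ := ext_step h N M hNM q hq hqodd hrel hθ hinv hθk
    obtain ⟨χ, hχk, hχe⟩ := ih M hM hMi (by rw [hMi]; exact hqodd.pow) η hη hηinv hηk
    refine ⟨χ, hχk, fun n => ?_⟩
    rw [← hηe n, ← hχe ⟨n, hNM n.2⟩]

open Cfsg.Agent.Lib.Helper10 in
/-- an invariant fixed character extends to a fixed character, for odd index -/
theorem ext_odd (h : KS G k e) (N : Subgroup G) [hN : N.Normal] (hodd : Odd N.index)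
    {θ : N → ℂ} (hθ : IsIrrCharacter N θ)
    (hinv : ∀ (g : G) (n : N), θ ⟨g * n * g⁻¹, hN.conj_mem (n : G) n.2 g⟩ = θ n)
    (hθk : ∀ n : N, θ (n ^ k) = θ n) :
    ∃ χ : IrrCharacter G, (∀ g, (χ : G → ℂ) (g ^ k) = (χ : G → ℂ) g) ∧
      ∀ n : N, (χ : G → ℂ) n = θ n := by
  classical
  have key : ∃ χ : G → ℂ, IsIrrCharacter G χ ∧ ∀ n : N, χ n = θ n := by
    refine Cfsg.Agent.S0888.result N θ hθ hinv ?_
    intro p hp
    haveI : Fact p.Prime := ⟨hp⟩
    obtain ⟨S⟩ : Nonempty (Sylow p (G ⧸ N)) := inferInstance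
    set P : Subgroup G := (S : Subgroup (G ⧸ N)).comap (QuotientGroup.mk' N) with hP
    have hNP : N ≤ P := by
      intro n hn
      rw [hP, Subgroup.mem_comap]
      have : QuotientGroup.mk' N n = 1 := (QuotientGroup.eq_one_iff n).mpr hn
      rw [this]
      exact (S : Subgroup (G ⧸ N)).one_mem
    have hPi : P.index = (S : Subgroup (G ⧸ N)).index := by
      rw [hP, Subgroup.index_comap_of_surjective _ (QuotientGroup.mk'_surjective N)]
    obtain ⟨j, hj⟩ := IsPGroup.iff_card.mp S.2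
    have hrel : N.relIndex P = p ^ j := by
      have h1 := Subgroup.relIndex_mul_index hNP
      have h2 := Subgroup.card_mul_index (S : Subgroup (G ⧸ N))
      rw [hPi, Subgroup.index_eq_card N, ← h2, hj] at h1
      exact Nat.eq_of_mul_eq_mul_right (Nat.pos_of_ne_zero Subgroup.index_ne_zero_of_finite) h1
    haveI : Fintype P := Fintype.ofFinite P
    haveI hN' : (N.subgroupOf P).Normal := hN.subgroupOf P
    have hoddP : Odd (N.subgroupOf P).index := by
      have h1 := Subgroup.relIndex_mul_index hNP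
      rw [← h1] at hodd
      exact (Nat.odd_mul.mp hodd).1
    obtain ⟨η, -, hηe⟩ := ext_pgroup (h.sub P) p hp j (N.subgroupOf P) hN' hrel hoddP
      (resSub N P θ) (isIrrCharacter_resSub hNP hθ)
      (fun g n => hinv (g : G) ⟨((n : P) : G), Subgroup.mem_subgroupOf.mp n.2⟩)
      (fun n => hθk ⟨((n : P) : G), Subgroup.mem_subgroupOf.mp n.2⟩)
    refine ⟨P, hNP, η, ?_, ⟨j, hrel⟩, η.2, ?_⟩
    · rw [hPi]
      exact ((Nat.Prime.coprime_iff_not_dvd hp).mpr S.not_dvd_index).symm
    · intro n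
      exact hηe ⟨⟨n, hNP n.2⟩, Subgroup.mem_subgroupOf.mpr n.2⟩
  obtain ⟨χ₀, hχ₀, hext⟩ := key
  exact ext_fixed h N hodd hθ hθk hχ₀ hext

end main

end Cfsg.Agent.Lib.Helper2
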