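import Mathlib
import Cfsg.Agent.S4996
import Cfsg.Agent.S0964
import Cfsg.Agent.S0909
import Cfsg.Agent.S0913
import Cfsg.Agent.S0901
import Cfsg.Agent.H6.Gallagher
import Cfsg.Agent.Lib.Helper2.OddIdx
import Cfsg.Agent.Lib.Helper23.CharDeg
import Cfsg.Agent.Lib.Helper10.LinIrr

/-!
# Isomorphic principal blocks (character form): `G = N C_G(P)`, `N` of index prime to `p`
-/

set_option autoImplicit false

namespace Cfsg.Agent.Lib.Helper2

open Cfsg Cfsg.Agent.CharLib Cfsg.Agent.BlockLib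
open scoped ComplexConjugate

variable {G : Type*} [Group G] [Finite G] {p : ℕ} [Fact p.Prime] {M : Ideal AlgInt}

/-- for `χ` in the principal block and `c` centralising a Sylow subgroup, `χ(c)/χ(1) ≡ 1` -/
theorem pb_ratio (hM : IsPModular p M) (P : Sylow p G) {χ : IrrCharacter G}
    (hχ : χ ∈ principalBlock M G) {c : G}
    (hc : c ∈ Subgroup.centralizer ((P : Subgroup G) : Set G)) :
    MemLocalIdeal M (1 - (χ : G → ℂ) c / (χ : G → ℂ) 1) := by
  haveI := isPrime_of_isPModular hM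
  have h1 := hχ c
  have hidx : ¬ p ∣ (Subgroup.centralizer ({c} : Set G)).index := by
    have hle : (P : Subgroup G) ≤ Subgroup.centralizer ({c} : Set G) := by
      intro x hx
      rw [Subgroup.mem_centralizer_singleton_iff]
      exact (Subgroup.mem_centralizer_iff.mp hc x hx)
    intro hd
    exact P.not_dvd_index (hd.trans (Subgroup.index_dvd_of_le hle))
  unfold centralChar at h1
  have h2 := memLocalIdeal_mul_left (memLocalRing_natCast_inv hM hidx) h1
  have h0 : ((Subgroup.centralizer ({c} : Set G)).index : ℂ) ≠ 0 := by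
    intro h
    have : (Subgroup.centralizer ({c} : Set G)).index = 0 := by exact_mod_cast h
    exact hidx (this ▸ dvd_zero p)
  convert h2 using 1
  field_simp

theorem pb_ne_zero (hM : IsPModular p M) (P : Sylow p G) {χ : IrrCharacter G}
    (hχ : χ ∈ principalBlock M G) {c : G}
    (hc : c ∈ Subgroup.centralizer ((P : Subgroup G) : Set G)) : (χ : G → ℂ) c ≠ 0 := by
  haveI := isPrime_of_isPModular hM
  intro h0
  have h1 := pb_ratio hM P hχ hc
  rw [h0] at h1
  simp only [zero_div, sub_zero] at h1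
  exact not_memLocalIdeal_one h1

theorem exists_mul_of_sup {N H : Subgroup G} [N.Normal] (hsup : N ⊔ H = ⊤) (x : G) :
    ∃ n ∈ N, ∃ c ∈ H, x = n * c := by
  have hx : x ∈ ((N ⊔ H : Subgroup G) : Set G) := by rw [hsup]; exact Set.mem_univ x
  rw [Subgroup.normal_mul] at hx
  obtain ⟨n, hn, c, hc, rfl⟩ := Set.mem_mul.mp hx
  exact ⟨n, hn, c, hc, rfl⟩

theorem pb_res_irr (hM : IsPModular p M) (N : Subgroup G) [N.Normal] (P : Sylow p G)
    (hsup : N ⊔ Subgroup.centralizer ((P : Subgroup G) : Set G) = ⊤) {χ : IrrCharacter G}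
    (hχ : χ ∈ principalBlock M G) : IsIrrCharacter N (fun n : N => (χ : G → ℂ) n) := by
  by_contra hcon
  obtain ⟨x, hx⟩ := (Cfsg.Agent.S4996.result N χ).mp hcon
  obtain ⟨n, hn, c, hc, rfl⟩ := exists_mul_of_sup hsup x
  have h1 := hx ⟨n⁻¹, N.inv_mem hn⟩
  simp only [inv_mul_cancel_left] at h1
  exact pb_ne_zero hM P hχ hc h1

theorem pb_res_mem (hM : IsPModular p M) (N : Subgroup G) [hN : N.Normal] {χ : IrrCharacter G}
    (hχ : χ ∈ principalBlock M G) (hirr : IsIrrCharacter N (fun n : N => (χ : G → ℂ) n)) :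
    (⟨fun n : N => (χ : G → ℂ) n, hirr⟩ : IrrCharacter N) ∈ principalBlock M N := by
  classical
  haveI := isPrime_of_isPModular hM
  have hne := ne_top_of_isPModular hM
  letI : Fintype G := Fintype.ofFinite G
  letI : Fintype N := Fintype.ofFinite N
  have h1G : Helper23.trivIrr G ∈ principalBlock M G := fun g => by
    have : centralChar (fun _ : G => (1 : ℂ)) g -
      centralChar ((Helper23.trivIrr G : IrrCharacter G) : G → ℂ) g = 0 := sub_self _
    rw [this]; exact memLocalIdeal_zero hne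
  have h1N : Helper23.trivIrr N ∈ principalBlock M N := fun g => by
    have : centralChar (fun _ : N => (1 : ℂ)) g -
      centralChar ((Helper23.trivIrr N : IrrCharacter N) : N → ℂ) g = 0 := sub_self _
    rw [this]; exact memLocalIdeal_zero hne
  obtain ⟨g, θ', hθ', hg⟩ := Cfsg.Agent.S0964.result p M hM N (principalBlock M G)
    ⟨Helper23.trivIrr G, rfl⟩ (principalBlock M N) ⟨Helper23.trivIrr N, rfl⟩
    (Helper23.trivIrr G) h1G (Helper23.trivIrr N) h1N
    (by
      have : classInner (fun n : N => ((Helper23.trivIrr G : IrrCharacter G) : G → ℂ) n)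
          ((Helper23.trivIrr N : IrrCharacter N) : N → ℂ) = 1 :=
        classInner_irr_self (Helper23.trivIrr N).2
      rw [this]; exact one_ne_zero)
    χ hχ ⟨fun n : N => (χ : G → ℂ) n, hirr⟩
    (by
      have : classInner (fun n : N => (χ : G → ℂ) n)
          ((⟨fun n : N => (χ : G → ℂ) n, hirr⟩ : IrrCharacter N) : N → ℂ) = 1 :=
        classInner_irr_self hirr
      rw [this]; exact one_ne_zero)
  have he : θ' = ⟨fun n : N => (χ : G → ℂ) n, hirr⟩ := by
    apply Subtype.ext
    funext n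
    have h2 := hg ⟨g⁻¹ * n * g, by simpa using hN.conj_mem n n.2 g⁻¹⟩
    have h3 : (⟨g * ((⟨g⁻¹ * n * g, by simpa using hN.conj_mem n n.2 g⁻¹⟩ : N) : G) * g⁻¹,
        hN.conj_mem _ (by simpa using hN.conj_mem n n.2 g⁻¹) g⟩ : N) = n :=
      Subtype.ext (by simp [mul_assoc])
    rw [h3] at h2
    rw [← h2]
    show (χ : G → ℂ) (g⁻¹ * n * g) = (χ : G → ℂ) n
    have h4 := isClassFunction_of_irr χ.2 (n : G) g⁻¹
    simpa using h4
  rw [← he]
  exact hθ'

theorem pb_unique (hM : IsPModular p M) (N : Subgroup G) [hN : N.Normal] (hidx : ¬ p ∣ N.index)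
    (P : Sylow p G) (hsup : N ⊔ Subgroup.centralizer ((P : Subgroup G) : Set G) = ⊤)
    {χ χ' : IrrCharacter G} (hχ : χ ∈ principalBlock M G) (hχ' : χ' ∈ principalBlock M G)
    (hres : ∀ n : N, (χ : G → ℂ) n = (χ' : G → ℂ) n) : χ = χ' := by
  classical
  haveI := isPrime_of_isPModular hM
  have hne := ne_top_of_isPModular hM
  letI : Fintype G := Fintype.ofFinite G
  letI : Fintype N := Fintype.ofFinite N
  have hirr := pb_res_irr hM N P hsup hχ
  have key := H6.gallagher N χ.2 hirr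
  have hmem : (χ' : G → ℂ) ∈ {ψ : G → ℂ | IsIrrCharacter G ψ ∧
      classInner (indFun N (fun n : N => (χ : G → ℂ) n)) ψ ≠ 0} := by
    refine ⟨χ'.2, ?_⟩
    rw [H2.frobenius_reciprocity _ _ (isClassFunction_of_irr χ'.2)]
    have : (fun n : N => (χ' : G → ℂ) n) = fun n : N => (χ : G → ℂ) n :=
      funext fun n => (hres n).symm
    rw [this, classInner_irr_self hirr]
    exact one_ne_zero
  obtain ⟨β, ⟨hβ1, hβ2⟩, hβ3⟩ := key.surjOn hmem
  have hβ3' : ∀ g : G, β g * (χ : G → ℂ) g = (χ' : G → ℂ) g := fun g => congrFun hβ3 g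
  have hχ1 : (χ : G → ℂ) 1 ≠ 0 := irr_apply_one_ne_zero χ
  have h11 : (χ : G → ℂ) 1 = (χ' : G → ℂ) 1 := hres 1
  have hβone : β 1 = 1 := by
    have h1 := hβ3' 1
    rw [← h11] at h1
    exact mul_right_cancel₀ hχ1 (by rw [h1, one_mul])
  have hβN : ∀ n : N, β n = 1 := fun n => by rw [const_of_over_one N hβ1 hβ2 n, hβone]
  let l := Helper10.homOfLin ⟨β, hβ1⟩ hβone
  have hl : ∀ g : G, ((l g : ℂˣ) : ℂ) = β g := fun g => Helper10.homOfLin_apply ⟨β, hβ1⟩ hβone g
  have hβC : ∀ c ∈ Subgroup.centralizer ((P : Subgroup G) : Set G), β c = 1 := by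
    intro c hc
    have hpow : β c ^ N.index = 1 := by
      have h1 : l (c ^ N.index) = 1 := by
        apply Units.ext
        rw [hl]
        exact hβN ⟨c ^ N.index, Subgroup.pow_index_mem N c⟩
      rw [map_pow] at h1
      have h2 := congrArg (fun u : ℂˣ => (u : ℂ)) h1
      simp only [Units.val_pow_eq_pow_val, Units.val_one] at h2
      rw [hl] at h2
      exact h2
    have hidx0 : 0 < N.index := Nat.pos_of_ne_zero (fun h => hidx (h ▸ dvd_zero p))
    have hint : IsIntegral ℤ (β c) := isIntegral_of_pow_eq_one hidx0 hpow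
    have r1 := pb_ratio hM P hχ hc
    have r2 := pb_ratio hM P hχ' hc
    rw [← hβ3' c, ← h11] at r2
    have r3 := memLocalIdeal_sub (memLocalIdeal_mul_left (memLocalRing_of_isIntegral hne hint) r1) r2
    have r4 : β c * (1 - (χ : G → ℂ) c / (χ : G → ℂ) 1) -
        (1 - β c * (χ : G → ℂ) c / (χ : G → ℂ) 1) = β c - 1 := by ring
    rw [r4] at r3
    have r5 : ((⟨β c, hint⟩ : AlgInt) - 1 : AlgInt) ∈ M := by
      rw [← memLocalIdeal_coe_iff]
      exact r3
    have r6 := (Cfsg.Agent.S0901.result p M hM).1 ⟨β c, hint⟩ 1 ⟨N.index, hidx, hpow⟩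
      ⟨1, fun h => (Fact.out : p.Prime).one_lt.ne' (Nat.dvd_one.mp h), by simp⟩ r5
    exact congrArg Subtype.val r6
  apply Subtype.ext
  funext x
  obtain ⟨n, hn, c, hc, rfl⟩ := exists_mul_of_sup hsup x
  rw [← hβ3' (n * c)]
  have h1 : β (n * c) = 1 := by
    rw [← hl, map_mul, Units.val_mul, hl, hl, hβN ⟨n, hn⟩, hβC c hc, one_mul]
  rw [h1, one_mul]

theorem pb_surj (hM : IsPModular p M) (N : Subgroup G) [hN : N.Normal] (hidx : ¬ p ∣ N.index)
    (P : Sylow p G) (hsup : N ⊔ Subgroup.centralizer ((P : Subgroup G) : Set G) = ⊤)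
    (θ : IrrCharacter N) (hθ : θ ∈ principalBlock M N) :
    ∃ χ ∈ principalBlock M G, ∀ n : N, (χ : G → ℂ) n = (θ : N → ℂ) n := by
  classical
  haveI := isPrime_of_isPModular hM
  have hne := ne_top_of_isPModular hM
  let A : Set (IrrCharacter N) :=
    {θ | ∃ χ ∈ principalBlock M G, ∀ n : N, (χ : G → ℂ) n = (θ : N → ℂ) n}
  let r : IrrCharacter G → IrrCharacter N := fun χ =>
    if h : χ ∈ principalBlock M G then ⟨fun n : N => (χ : G → ℂ) n, pb_res_irr hM N P hsup h⟩
    else Helper23.trivIrr N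
  have hr : ∀ χ ∈ principalBlock M G, ∀ n : N, (r χ : N → ℂ) n = (χ : G → ℂ) n := by
    intro χ h n
    simp only [r, dif_pos h]
  have hbij : Set.BijOn r (principalBlock M G) A := by
    refine ⟨fun χ h => ⟨χ, h, fun n => (hr χ h n).symm⟩, ?_, ?_⟩
    · intro χ h χ' h' e
      refine pb_unique hM N hidx P hsup h h' fun n => ?_
      rw [← hr χ h, ← hr χ' h', e]
    · rintro θ ⟨χ, h, hχ⟩
      exact ⟨χ, h, Subtype.ext (funext fun n => by rw [hr χ h, hχ])⟩
  have hA : ∀ n : N, MemLocalRing M (blockCoeff A n) := by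
    intro n
    have h1 : ∑ᶠ χ ∈ principalBlock M G, (χ : G → ℂ) 1 * conj ((χ : G → ℂ) (n : G)) =
        ∑ᶠ θ ∈ A, (θ : N → ℂ) 1 * conj ((θ : N → ℂ) n) := by
      refine finsum_mem_eq_of_bijOn r hbij fun χ h => ?_
      rw [hr χ h, hr χ h]
      rfl
    have h2 : blockCoeff A n = (N.index : ℂ) * blockCoeff (principalBlock M G) (n : G) := by
      unfold blockCoeff
      rw [← h1, ← Subgroup.card_mul_index N]
      have hN0 : (Nat.card N : ℂ) ≠ 0 := by exact_mod_cast Nat.card_pos.ne'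
      have hi0 : (N.index : ℂ) ≠ 0 := by
        intro h
        have : N.index = 0 := by exact_mod_cast h
        exact hidx (this ▸ dvd_zero p)
      push_cast
      field_simp
    rw [h2]
    exact memLocalRing_mul (memLocalRing_natCast hne _)
      (Cfsg.Agent.S0913.result p M hM _ ⟨Helper23.trivIrr G, rfl⟩ _)
  have h1G : Helper23.trivIrr G ∈ principalBlock M G := fun g => by
    have : centralChar (fun _ : G => (1 : ℂ)) g -
      centralChar ((Helper23.trivIrr G : IrrCharacter G) : G → ℂ) g = 0 := sub_self _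
    rw [this]; exact memLocalIdeal_zero hne
  have hsub := Cfsg.Agent.S0909.result p M hM A hA (Helper23.trivIrr N)
    ⟨Helper23.trivIrr G, h1G, fun _ => rfl⟩
  exact hsub hθ

end Cfsg.Agent.Lib.Helper2
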