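import Mathlib
import Cfsg.Agent.Lib.Helper2.GlauStep
import Cfsg.Agent.H6.Gallagher
import Cfsg.Agent.Lib.Helper10.Extend
import Cfsg.Agent.H25.Codeg
import Cfsg.Agent.H25.Cover
import Cfsg.Agent.CharLib.CliffordInd

/-!
# Counting the irreducible characters of degree prime to `|H|` in `T = K ⋊ H`, coprime orders
-/

set_option autoImplicit false

namespace Cfsg.Agent.Lib.Helper2

open Cfsg Cfsg.Agent.CharLib Finset
open scoped ComplexConjugate

/-- transport of irreducible characters along an isomorphism. -/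
def irrCongr {X Y : Type*} [Group X] [Group Y] (e : X ≃* Y) : IrrCharacter Y ≃ IrrCharacter X where
  toFun χ := ⟨fun x => (χ : Y → ℂ) (e x),
    isIrrCharacter_comp_of_surjective χ.2 e.toMonoidHom e.surjective⟩
  invFun χ := ⟨fun y => (χ : X → ℂ) (e.symm y),
    isIrrCharacter_comp_of_surjective χ.2 e.symm.toMonoidHom e.symm.surjective⟩
  left_inv χ := Subtype.ext (funext fun y => by simp)
  right_inv χ := Subtype.ext (funext fun y => by simp)

theorem irrCongr_apply {X Y : Type*} [Group X] [Group Y] (e : X ≃* Y) (χ : IrrCharacter Y) (x : X) :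
    (irrCongr e χ : X → ℂ) x = (χ : Y → ℂ) (e x) := rfl

theorem card_irr_congr {X Y : Type*} [Group X] [Group Y] (e : X ≃* Y) :
    Nat.card (IrrCharacter X) = Nat.card (IrrCharacter Y) := (Nat.card_congr (irrCongr e)).symm

theorem card_lin_congr {X Y : Type*} [Group X] [Group Y] (e : X ≃* Y) :
    Nat.card {μ : IrrCharacter X // (μ : X → ℂ) 1 = 1}
      = Nat.card {μ : IrrCharacter Y // (μ : Y → ℂ) 1 = 1} := by
  symm
  refine Nat.card_congr (Equiv.subtypeEquiv (irrCongr e) fun μ => ?_)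
  rw [irrCongr_apply, map_one]

variable {T : Type*} [Group T]

theorem isIrr_restrict_lin [Finite T] (β : IrrCharacter T) (h1 : (β : T → ℂ) 1 = 1)
    (H : Subgroup T) : IsIrrCharacter H (fun a : H => (β : T → ℂ) a) := by
  letI := Fintype.ofFinite H
  refine isIrrCharacter_of_norm_one (isCharacter_restrict (isCharacter_of_irr β.2) H) ?_
  have hH0 : (Nat.card H : ℂ) ≠ 0 := by exact_mod_cast Nat.card_pos.ne'
  rw [classInner]
  have h2 : ∀ a : H, (β : T → ℂ) a * conj ((β : T → ℂ) a) = 1 := by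
    intro a
    rw [← isCharacter_inv (isCharacter_of_irr β.2), ← L.irr_mul_of_apply_one_eq_one β h1,
      mul_inv_cancel, h1]
  simp only [h2, Finset.sum_const, Finset.card_univ, nsmul_eq_mul, mul_one]
  rw [← Nat.card_eq_fintype_card, inv_mul_cancel₀ hH0]

/-- the linear characters of `T` trivial on `K` correspond to the linear characters of a
complement `H`. -/
theorem card_lin_over [Finite T] (K H : Subgroup T) [hK : K.Normal] (hc : H.IsComplement' K) :
    Nat.card {β : IrrCharacter T // (β : T → ℂ) 1 = 1 ∧ ∀ k : K, (β : T → ℂ) k = 1}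
      = Nat.card {μ : IrrCharacter H // (μ : H → ℂ) 1 = 1} := by
  let π : T →* H := hc.QuotientMulEquiv.toMonoidHom.comp (QuotientGroup.mk' K)
  have hπs : Function.Surjective π :=
    hc.QuotientMulEquiv.surjective.comp (QuotientGroup.mk'_surjective K)
  have hπH : ∀ a : H, π a = a := by
    intro a
    show hc.QuotientMulEquiv (QuotientGroup.mk (a : T)) = a
    have : hc.QuotientMulEquiv.symm a = QuotientGroup.mk (a : T) := rfl
    rw [← this, MulEquiv.apply_symm_apply]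
  have hπK : ∀ k : K, π k = 1 := by
    intro k
    show hc.QuotientMulEquiv (QuotientGroup.mk (k : T)) = 1
    rw [(QuotientGroup.eq_one_iff (k : T)).mpr k.2, map_one]
  have hdec : ∀ t : T, t * ((π t : H) : T)⁻¹ ∈ K := by
    intro t
    have h1 : π (t * ((π t : H) : T)⁻¹) = 1 := by
      rw [map_mul, map_inv, hπH, mul_inv_cancel]
    have h2 : hc.QuotientMulEquiv (QuotientGroup.mk (t * ((π t : H) : T)⁻¹)) = 1 := h1
    rw [MulEquiv.map_eq_one_iff] at h2
    exact (QuotientGroup.eq_one_iff _).mp h2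
  refine Nat.card_congr ⟨fun β => ⟨⟨fun a : H => (β.1 : T → ℂ) a, isIrr_restrict_lin β.1 β.2.1 H⟩,
      β.2.1⟩,
    fun μ => ⟨⟨fun t => (μ.1 : H → ℂ) (π t), isIrrCharacter_comp_of_surjective μ.1.2 π hπs⟩,
      by show (μ.1 : H → ℂ) (π 1) = 1; rw [map_one]; exact μ.2,
      fun k => by show (μ.1 : H → ℂ) (π k) = 1; rw [hπK]; exact μ.2⟩, ?_, ?_⟩
  · intro β
    apply Subtype.ext
    apply Subtype.ext
    funext t
    show (β.1 : T → ℂ) ((π t : H) : T) = (β.1 : T → ℂ) t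
    have h1 : t = (t * ((π t : H) : T)⁻¹) * ((π t : H) : T) := by group
    conv_rhs => rw [h1, L.irr_mul_of_apply_one_eq_one β.1 β.2.1, β.2.2 ⟨_, hdec t⟩, one_mul]
  · intro μ
    apply Subtype.ext
    apply Subtype.ext
    funext a
    show (μ.1 : H → ℂ) (π a) = (μ.1 : H → ℂ) a
    rw [hπH]

theorem isComplement'_of_sup [Finite T] (K H : Subgroup T) [hK : K.Normal] (hKH : K ⊔ H = ⊤)
    (hcop : (Nat.card K).Coprime (Nat.card H)) : H.IsComplement' K := by
  refine Subgroup.isComplement'_of_disjoint_and_mul_eq_univ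
    (Subgroup.disjoint_of_coprime_natCard hcop.symm) ?_
  rw [← Subgroup.mul_normal H K, sup_comm, hKH]
  rfl

theorem card_coprime_deg [Finite T] (K H : Subgroup T) [hK : K.Normal] (hKH : K ⊔ H = ⊤)
    (hcop : (Nat.card K).Coprime (Nat.card H)) :
    Nat.card {χ : IrrCharacter T // (charDegree (χ : T → ℂ)).Coprime (Nat.card H)}
      = Nat.card {θ : IrrCharacter K // SInv K H (θ : K → ℂ)} *
        Nat.card {μ : IrrCharacter H // (μ : H → ℂ) 1 = 1} := by
  classical
  letI := Fintype.ofFinite T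
  letI := Fintype.ofFinite K
  have hc := isComplement'_of_sup K H hKH hcop
  have hidx : K.index = Nat.card H := hc.index_eq_card
  have hK0 : (Nat.card K : ℂ) ≠ 0 := by exact_mod_cast Nat.card_pos.ne'
  rw [← card_lin_over K H hc, ← Nat.card_prod]
  symm
  have hTinv : ∀ θ : IrrCharacter K, SInv K H (θ : K → ℂ) → ∀ (t : T) (n : K),
      (θ : K → ℂ) ⟨t * n * t⁻¹, hK.conj_mem n n.2 t⟩ = (θ : K → ℂ) n := by
    intro θ hθ t n
    obtain ⟨⟨a, k⟩, hak⟩ := hc.2 t
    have hak' : (a : T) * k = t := hak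
    have h1 : (θ : K → ℂ) (k * n * k⁻¹) = (θ : K → ℂ) n := isClassFunction_of_irr θ.2 n k
    rw [← h1]
    refine hθ a a.2 _ _ ?_
    show t * n * t⁻¹ = a * ((k : T) * n * (k : T)⁻¹) * (a : T)⁻¹
    rw [← hak']
    group
  have hext : ∀ θ : {θ : IrrCharacter K // SInv K H (θ : K → ℂ)},
      ∃ χ : T → ℂ, IsIrrCharacter T χ ∧ ∀ n : K, χ n = (θ.1 : K → ℂ) n := fun θ =>
    Cfsg.Agent.Lib.Helper10.coprime_extension K (hidx ▸ hcop) θ.1 θ.1.2 (hTinv θ.1 θ.2)
  choose ext hext1 hext2 using hext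
  have hextK : ∀ θ, IsIrrCharacter K (fun n : K => ext θ n) := by
    intro θ
    have : (fun n : K => ext θ n) = (θ.1 : K → ℂ) := funext (hext2 θ)
    rw [this]
    exact θ.1.2
  have hgal := fun θ => Cfsg.Agent.H6.gallagher K (hext1 θ) (hextK θ)
  have hne0 : ∀ β : {β : IrrCharacter T // (β : T → ℂ) 1 = 1 ∧ ∀ k : K, (β : T → ℂ) k = 1},
      classInner (indFun K (fun _ => (1 : ℂ))) (β.1 : T → ℂ) ≠ 0 := by
    intro β
    rw [H2.frobenius_reciprocity K _ (isClassFunction_of_irr β.1.2), classInner]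
    simp only [β.2.2, map_one, mul_one, Finset.sum_const, Finset.card_univ, nsmul_eq_mul]
    rw [← Nat.card_eq_fintype_card, inv_mul_cancel₀ hK0]
    exact one_ne_zero
  have hirr : ∀ (θ : {θ : IrrCharacter K // SInv K H (θ : K → ℂ)})
      (β : {β : IrrCharacter T // (β : T → ℂ) 1 = 1 ∧ ∀ k : K, (β : T → ℂ) k = 1}),
      IsIrrCharacter T ((β.1 : T → ℂ) * ext θ) := fun θ β =>
    ((hgal θ).mapsTo (⟨β.1.2, hne0 β⟩ : (β.1 : T → ℂ) ∈ {β : T → ℂ | IsIrrCharacter T β ∧
      classInner (indFun K (fun _ => (1 : ℂ))) β ≠ 0})).1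
  have hdeg : ∀ (θ : {θ : IrrCharacter K // SInv K H (θ : K → ℂ)})
      (β : {β : IrrCharacter T // (β : T → ℂ) 1 = 1 ∧ ∀ k : K, (β : T → ℂ) k = 1}),
      (charDegree ((β.1 : T → ℂ) * ext θ)).Coprime (Nat.card H) := by
    intro θ β
    obtain ⟨d, hd0, hd1, hd2⟩ := L.irr_degree_dvd θ.1
    have h1 : ((β.1 : T → ℂ) * ext θ) 1 = d := by
      rw [Pi.mul_apply, β.2.1, one_mul, ← hd1]
      exact hext2 θ 1
    rw [Cfsg.Agent.H25.charDegree_of_apply_one h1]
    exact Nat.Coprime.coprime_dvd_left hd2 hcop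
  refine Nat.card_congr (Equiv.ofBijective
    (fun x => (⟨⟨(x.2.1 : T → ℂ) * ext x.1, hirr x.1 x.2⟩, hdeg x.1 x.2⟩ :
      {χ : IrrCharacter T // (charDegree (χ : T → ℂ)).Coprime (Nat.card H)})) ⟨?_, ?_⟩)
  · rintro ⟨θ, β⟩ ⟨θ', β'⟩ hh
    have h1 : (β.1 : T → ℂ) * ext θ = (β'.1 : T → ℂ) * ext θ' :=
      congrArg (fun x : {χ : IrrCharacter T // (charDegree (χ : T → ℂ)).Coprime (Nat.card H)} =>
        (x.1 : T → ℂ)) hh
    have h2 : θ = θ' := by
      apply Subtype.ext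
      apply Subtype.ext
      funext n
      have h3 := congrFun h1 n
      rw [Pi.mul_apply, Pi.mul_apply, β.2.2, β'.2.2, one_mul, one_mul, hext2, hext2] at h3
      exact h3
    subst h2
    have h4 := (hgal θ).injOn (⟨β.1.2, hne0 β⟩ : (β.1 : T → ℂ) ∈ {β : T → ℂ | IsIrrCharacter T β ∧
      classInner (indFun K (fun _ => (1 : ℂ))) β ≠ 0}) ⟨β'.1.2, hne0 β'⟩ h1
    have h5 : β = β' := Subtype.ext (Subtype.ext h4)
    rw [h5]
  · rintro ⟨χ, hχ⟩
    obtain ⟨θ, hθ⟩ := Cfsg.Agent.H25.exists_constituent (N := K) χ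
    -- θ is invariant
    have hI : H2.inertia hK (θ : K → ℂ) = ⊤ := by
      obtain ⟨ψ, hψ, hψ1⟩ := H2.exists_irr_inertia_indFun hK χ.2 θ.2 hθ
      obtain ⟨d, hd0, hd1⟩ := irr_apply_one_nat ⟨ψ, hψ⟩
      have h1 : (χ : T → ℂ) 1 = ((H2.inertia hK (θ : K → ℂ)).index * d : ℕ) := by
        rw [← hψ1, H2.indFun_apply_one]
        push_cast
        rw [← hd1]
      have h2 := Cfsg.Agent.H25.charDegree_of_apply_one h1
      have h3 : (H2.inertia hK (θ : K → ℂ)).index ∣ Nat.card H := by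
        rw [← hidx]
        exact Subgroup.index_dvd_of_le (H2.le_inertia hK (isClassFunction_of_irr θ.2))
      have h4 : (H2.inertia hK (θ : K → ℂ)).index ∣ charDegree (χ : T → ℂ) := by
        rw [h2]; exact Dvd.intro _ rfl
      exact Subgroup.index_eq_one.mp (Nat.eq_one_of_dvd_coprimes hχ h4 h3)
    have hθinv : SInv K H (θ : K → ℂ) := by
      intro s hs g g' hg
      have h1 : s ∈ H2.inertia hK (θ : K → ℂ) := hI ▸ Subgroup.mem_top s
      have h2 := congrFun ((H2.mem_inertia hK _ s).mp h1) g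
      rw [H2.conjFun_apply] at h2
      rw [← h2]
      exact congrArg (θ : K → ℂ) (Subtype.ext hg)
    have hmem : (χ : T → ℂ) ∈ {ψ : T → ℂ | IsIrrCharacter T ψ ∧
        classInner (indFun K (fun n : K => ext ⟨θ, hθinv⟩ n)) ψ ≠ 0} := by
      refine ⟨χ.2, ?_⟩
      have : (fun n : K => ext ⟨θ, hθinv⟩ n) = (θ : K → ℂ) := funext (hext2 ⟨θ, hθinv⟩)
      rw [this, H2.frobenius_reciprocity K _ (isClassFunction_of_irr χ.2), ← classInner_conj_symm]
      rw [Ne, map_eq_zero]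
      exact hθ
    obtain ⟨β, ⟨hβ1, hβ2⟩, hβ3⟩ := (hgal ⟨θ, hθinv⟩).surjOn hmem
    have hβ3' : β * ext ⟨θ, hθinv⟩ = (χ : T → ℂ) := hβ3
    -- K is in the kernel of β
    have hβK : ∀ k : K, β k = β 1 := by
      rw [H2.frobenius_reciprocity K _ (isClassFunction_of_irr hβ1), ← classInner_conj_symm, Ne,
        map_eq_zero] at hβ2
      have h1 := Cfsg.Agent.H6.restrict_eq_smul_of_invariant K hK hβ1
        (ϑ := fun _ => (1 : ℂ)) isIrrCharacter_one hβ2 (fun _ _ => rfl)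
      intro k
      have h2 := congrFun h1 k
      have h3 := congrFun h1 1
      simp only [Pi.smul_apply, smul_eq_mul, mul_one] at h2 h3
      rw [h2]
      exact h3.symm
    have hβdeg : β 1 = 1 := by
      have h1 : K ≤ Cfsg.Agent.H25.kerSub ⟨β, hβ1⟩ := fun k hk => hβK ⟨k, hk⟩
      have h2 : charDegree β ∣ Nat.card H := by
        rw [← hidx]
        exact (Cfsg.Agent.H25.charDegree_dvd_index_kerSub ⟨β, hβ1⟩).trans
          (Subgroup.index_dvd_of_le h1)
      obtain ⟨d, hd0, hd1⟩ := irr_apply_one_nat ⟨ext ⟨θ, hθinv⟩, hext1 _⟩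
      have h3 : (χ : T → ℂ) 1 = (charDegree β * d : ℕ) := by
        rw [← hβ3', Pi.mul_apply]
        push_cast
        rw [← hd1, ← Cfsg.Agent.H25.charDegree_irr ⟨β, hβ1⟩]
      have h4 : charDegree β ∣ charDegree (χ : T → ℂ) := by
        rw [Cfsg.Agent.H25.charDegree_of_apply_one h3]; exact Dvd.intro _ rfl
      have h5 := Nat.eq_one_of_dvd_coprimes hχ h4 h2
      have h6 : β 1 = ((charDegree β : ℕ) : ℂ) := Cfsg.Agent.H25.charDegree_irr ⟨β, hβ1⟩
      rw [h6, h5, Nat.cast_one]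
    refine ⟨(⟨θ, hθinv⟩, ⟨⟨β, hβ1⟩, hβdeg, fun k => (hβK k).trans hβdeg⟩), ?_⟩
    exact Subtype.ext (Subtype.ext hβ3')

end Cfsg.Agent.Lib.Helper2
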