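import Mathlib
import Cfsg.Agent.Lib.Helper2.GlauStep
import Cfsg.Agent.Lib.Helper2.CoprimeDeg
import Cfsg.Agent.Lib.Helper10.GaloisIrr
import Cfsg.Agent.Lib.Helper10.Virtual
import Cfsg.Agent.S0863
import Cfsg.Agent.S0867
import Cfsg.Agent.S0868

/-!
Coprime action of a cyclic group: values of the canonical extension (Isaacs, Theorem 13.6).
-/

set_option autoImplicit false

namespace Cfsg.Agent.Lib.Helper2

open Cfsg Cfsg.Agent.CharLib Cfsg.Agent.CharLib.L
open scoped ComplexConjugate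

section det

variable {X : Type*} [Group X] [Finite X]

/-- the determinantal character of a Galois conjugate. -/
theorem detChar_pow {χ : X → ℂ} (hχ : IsCharacter X χ) (m : ℕ) (hm : m.Coprime (Nat.card X)) :
    detChar (fun x => χ (x ^ m)) = detChar χ ^ m := by
  funext g
  have hχm := Cfsg.Agent.Lib.Helper10.isCharacter_pow hχ m hm
  let A : Subgroup X := Subgroup.zpowers g
  have hcomm : ∀ a b : A, Commute a b := by
    rintro ⟨a, ha⟩ ⟨b, hb⟩
    obtain ⟨i, rfl⟩ := Subgroup.mem_zpowers_iff.mp ha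
    obtain ⟨j, rfl⟩ := Subgroup.mem_zpowers_iff.mp hb
    exact Subtype.ext ((Commute.refl g).zpow_zpow i j)
  let f : A →* A :=
    { toFun := fun a => a ^ m
      map_one' := one_pow m
      map_mul' := fun a b => (hcomm a b).mul_pow m }
  have h1 := Cfsg.Agent.H6.detChar_restrict hχm A
  have h3 := Cfsg.Agent.H6.detChar_restrict hχ A
  have hA : IsCharacter A (fun a : A => χ a) := isCharacter_comp hχ A.subtype
  have h2 := Cfsg.Agent.S0863.detChar_comp hA f
  have h4 : (fun n : A => (fun x => χ (x ^ m)) (n : X)) = fun h : A => (fun a : A => χ a) (f h) := rfl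
  have hg : g ∈ A := Subgroup.mem_zpowers g
  have e1 := congrFun h1 ⟨g, hg⟩
  rw [h4, h2, h3] at e1
  obtain ⟨D, hD⟩ := Cfsg.Agent.H6.exists_detHom hχ
  rw [Pi.pow_apply]
  simp only at e1
  rw [← e1, ← hD, ← hD]
  show ((D (g ^ m) : ℂˣ) : ℂ) = _
  rw [map_pow, Units.val_pow_eq_pow_val]

theorem detOrder_dvd_card {χ : X → ℂ} (hχ : IsCharacter X χ) : detOrder χ ∣ Nat.card X := by
  obtain ⟨D, hD⟩ := Cfsg.Agent.H6.exists_detHom hχ
  apply orderOf_dvd_of_pow_eq_one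
  funext g
  rw [Pi.pow_apply, ← hD, ← Units.val_pow_eq_pow_val, ← map_pow, pow_card_eq_one', map_one]
  rfl

/-- the canonical extension is fixed by the Galois automorphisms fixing the `|N|`-th roots of unity. -/
theorem canon_pow (N : Subgroup X) [hN : N.Normal] (θ : IrrCharacter N) (χ : IrrCharacter X)
    (hext : ∀ n : N, (χ : X → ℂ) n = (θ : N → ℂ) n) (hcop : (Nat.card N).Coprime N.index)
    (hdet : (detOrder (χ : X → ℂ)).Coprime N.index) (m : ℕ) (hm1 : m ≡ 1 [MOD Nat.card N])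
    (hm2 : m.Coprime N.index) (x : X) : (χ : X → ℂ) (x ^ m) = (χ : X → ℂ) x := by
  have hinv : ∀ (g : X) (n : N), (θ : N → ℂ) ⟨g * n * g⁻¹, hN.conj_mem (n : X) n.2 g⟩
      = (θ : N → ℂ) n := by
    intro g n
    rw [← hext, ← hext]
    exact isClassFunction_of_irr χ.2 n g
  obtain ⟨d, hd0, hd1, hd2⟩ := L.irr_degree_dvd θ
  have hc : Nat.Coprime N.index (detOrder (θ : N → ℂ) * d) :=
    Nat.Coprime.mul_right
      (Nat.Coprime.coprime_dvd_right (detOrder_dvd_card (isCharacter_of_irr θ.2)) hcop.symm)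
      (Nat.Coprime.coprime_dvd_right hd2 hcop.symm)
  obtain ⟨χ₀, -, huniq⟩ := Cfsg.Agent.S0867.result N (θ : N → ℂ) θ.2 hinv d hd1 hc
  have hmN : m.Coprime (Nat.card N) := by
    have h1 : Nat.gcd m (Nat.card N) = Nat.gcd 1 (Nat.card N) := hm1.gcd_eq
    rw [Nat.Coprime, h1, Nat.gcd_one_left]
  have hmX : m.Coprime (Nat.card X) := by
    rw [← N.card_mul_index]
    exact Nat.Coprime.mul_right hmN hm2
  have e1 := huniq _ χ.2 hext hdet.symm
  have e2 := huniq _ (Cfsg.Agent.Lib.Helper10.isIrrCharacter_pow χ.2 m hmX) (fun n => by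
    have h1 : (n : X) ^ m = n := by
      have h2 : n ^ m = n ^ 1 :=
        pow_eq_pow_iff_modEq.mpr (hm1.of_dvd (orderOf_dvd_natCard n))
      rw [pow_one] at h2
      exact_mod_cast congrArg Subtype.val h2
    show (χ : X → ℂ) ((n : X) ^ m) = _
    rw [h1, hext]) (by
    unfold detOrder
    rw [detChar_pow (isCharacter_of_irr χ.2) m hmX]
    exact Nat.Coprime.coprime_dvd_right (orderOf_pow_dvd m) hdet.symm)
  have e3 := congrFun (e2.trans e1.symm) x
  exact e3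

end det

section cosetsum

variable {Γ : Type*} [Group Γ] [Fintype Γ]

/-- sums of a class function over the coset `G s` and over `C s`. -/
theorem coset_sum (G C : Subgroup Γ) [hG : G.Normal] [Fintype G] [Fintype C] (s : Γ)
    (hC : ∀ x, x ∈ C ↔ x ∈ G ∧ x * s = s * x) (m : ℕ) (hm : ∀ c ∈ C, (c * s) ^ m = s)
    (Φ : Γ → ℂ) (hΦ : IsClassFunction Γ Φ) :
    (Nat.card C : ℂ) * ∑ g : G, Φ ((g : Γ) * s) = (Nat.card G : ℂ) * ∑ c : C, Φ ((c : Γ) * s) := by
  classical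
  have hmem : ∀ (x : G) (c : C), (x : Γ) * c * s * (x : Γ)⁻¹ * s⁻¹ ∈ G := by
    intro x c
    have h1 : (x : Γ) * c * s * (x : Γ)⁻¹ * s⁻¹ = (x : Γ) * c * (s * (x : Γ)⁻¹ * s⁻¹) := by group
    rw [h1]
    exact G.mul_mem (G.mul_mem x.2 ((hC c).mp c.2).1) (hG.conj_mem _ (G.inv_mem x.2) s)
  let f : G × C → G := fun p => ⟨(p.1 : Γ) * p.2 * s * (p.1 : Γ)⁻¹ * s⁻¹, hmem p.1 p.2⟩
  have hf : ∀ p : G × C, ((f p : G) : Γ) * s = (p.1 : Γ) * ((p.2 : Γ) * s) * (p.1 : Γ)⁻¹ := by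
    intro p
    show (p.1 : Γ) * p.2 * s * (p.1 : Γ)⁻¹ * s⁻¹ * s = _
    group
  -- the key claim
  have key : ∀ p q : G × C, f p = f q → (q.1 : Γ)⁻¹ * p.1 ∈ C := by
    intro p q hpq
    have h1 : (p.1 : Γ) * ((p.2 : Γ) * s) * (p.1 : Γ)⁻¹ = (q.1 : Γ) * ((q.2 : Γ) * s) * (q.1 : Γ)⁻¹ := by
      rw [← hf, ← hf, hpq]
    have h2 := congrArg (fun y => y ^ m) h1
    simp only [conj_pow, hm _ p.2.2, hm _ q.2.2] at h2
    rw [hC]
    refine ⟨G.mul_mem (G.inv_mem q.1.2) p.1.2, ?_⟩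
    calc (q.1 : Γ)⁻¹ * p.1 * s = (q.1 : Γ)⁻¹ * ((p.1 : Γ) * s * (p.1 : Γ)⁻¹) * p.1 := by group
      _ = (q.1 : Γ)⁻¹ * ((q.1 : Γ) * s * (q.1 : Γ)⁻¹) * p.1 := by rw [h2]
      _ = s * ((q.1 : Γ)⁻¹ * p.1) := by group
  have hle : ∀ g : G, (Finset.univ.filter (fun p : G × C => f p = g)).card ≤ Fintype.card C := by
    intro g
    rcases (Finset.univ.filter (fun p : G × C => f p = g)).eq_empty_or_nonempty with h0 | ⟨q, hq⟩
    · rw [h0]; exact Nat.zero_le _
    · have hq' : f q = g := (Finset.mem_filter.mp hq).2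
      have h1 : (Finset.univ.image (Subtype.val : C → Γ)).card = Fintype.card C :=
        Finset.card_image_of_injective _ Subtype.val_injective
      rw [← h1]
      refine Finset.card_le_card_of_injOn (fun p => (q.1 : Γ)⁻¹ * p.1) ?_ ?_
      · intro p hp
        have hp' : f p = g := (Finset.mem_filter.mp hp).2
        exact Finset.mem_image.mpr ⟨⟨_, key p q (hp'.trans hq'.symm)⟩, Finset.mem_univ _, rfl⟩
      · intro p hp p' hp' hh
        have hp1 : f p = g := (Finset.mem_filter.mp hp).2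
        have hp2 : f p' = g := (Finset.mem_filter.mp hp').2
        have h2 : (p.1 : Γ) = p'.1 := mul_left_cancel hh
        have h3 : (p.1 : Γ) * ((p.2 : Γ) * s) * (p.1 : Γ)⁻¹
            = (p'.1 : Γ) * ((p'.2 : Γ) * s) * (p'.1 : Γ)⁻¹ := by
          rw [← hf, ← hf, hp1, hp2]
        rw [← h2] at h3
        have h4 : (p.2 : Γ) = p'.2 := mul_right_cancel (mul_left_cancel (mul_right_cancel h3))
        exact Prod.ext (Subtype.ext h2) (Subtype.ext h4)
  have hsum : ∑ g : G, (Finset.univ.filter (fun p : G × C => f p = g)).card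
      = Fintype.card G * Fintype.card C := by
    rw [← Finset.card_eq_sum_card_fiberwise (fun _ _ => Finset.mem_univ _), Finset.card_univ,
      Fintype.card_prod]
  have heq : ∀ g : G, (Finset.univ.filter (fun p : G × C => f p = g)).card = Fintype.card C := by
    intro g
    by_contra hne
    have hlt : (Finset.univ.filter (fun p : G × C => f p = g)).card < Fintype.card C :=
      lt_of_le_of_ne (hle g) hne
    have h1 : ∑ g : G, (Finset.univ.filter (fun p : G × C => f p = g)).card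
        < ∑ _g : G, Fintype.card C :=
      Finset.sum_lt_sum (fun g _ => hle g) ⟨g, Finset.mem_univ _, hlt⟩
    rw [hsum, Finset.sum_const, Finset.card_univ, smul_eq_mul] at h1
    exact lt_irrefl _ h1
  have e1 : ∑ p : G × C, Φ ((f p : Γ) * s) = (Nat.card G : ℂ) * ∑ c : C, Φ ((c : Γ) * s) := by
    rw [Fintype.sum_prod_type]
    simp only [hf, hΦ _ _]
    rw [Finset.sum_const, Finset.card_univ, nsmul_eq_mul, Nat.card_eq_fintype_card]
  have e2 : ∑ p : G × C, Φ ((f p : Γ) * s) = (Nat.card C : ℂ) * ∑ g : G, Φ ((g : Γ) * s) := by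
    rw [← Finset.sum_fiberwise (s := Finset.univ) (g := f), Finset.mul_sum]
    refine Finset.sum_congr rfl fun g _ => ?_
    rw [Finset.sum_congr rfl (fun p hp => by rw [(Finset.mem_filter.mp hp).2]),
      Finset.sum_const, heq g, nsmul_eq_mul, Nat.card_eq_fintype_card]
  rw [← e1, ← e2]

end cosetsum

section cyc

variable {Γ : Type*} [Group Γ] [Fintype Γ] {G S C : Subgroup Γ} {s : Γ}

/-- the standing hypotheses: `Γ = G S`, `G` normal, `S = ⟨s⟩` of order prime to `|G|`, `C = C_G(S)`. -/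
structure CY (G S C : Subgroup Γ) (s : Γ) : Prop where
  hnorm : Nrm G S
  hcop : (Nat.card G).Coprime (Nat.card S)
  htop : G ⊔ S = ⊤
  hs : Subgroup.zpowers s = S
  hC : C = G ⊓ Subgroup.centralizer (S : Set Γ)

namespace CY

omit [Fintype Γ] in
theorem normal (h : CY G S C s) : G.Normal := by
  have h1 : S ≤ Subgroup.normalizer (G : Set Γ) := by
    intro x hx
    rw [Subgroup.mem_normalizer_iff]
    intro g
    refine ⟨fun hg => h.hnorm x hx g hg, fun hg => ?_⟩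
    have h2 := h.hnorm x⁻¹ (S.inv_mem hx) _ hg
    simpa [mul_assoc] using h2
  have h2 : Subgroup.normalizer (G : Set Γ) = ⊤ :=
    top_le_iff.mp (h.htop ▸ sup_le Subgroup.le_normalizer h1)
  exact Subgroup.normalizer_eq_top_iff.mp h2

theorem index_eq (h : CY G S C s) : G.index = Nat.card S := by
  haveI := h.normal
  exact (isComplement'_of_sup G S h.htop h.hcop).index_eq_card

omit [Fintype Γ] in
theorem s_mem (h : CY G S C s) : s ∈ S := h.hs ▸ Subgroup.mem_zpowers s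

omit [Fintype Γ] in
theorem le (h : CY G S C s) : C ≤ G := h.hC ▸ inf_le_left

omit [Fintype Γ] in
theorem comm (h : CY G S C s) {c x : Γ} (hc : c ∈ C) (hx : x ∈ S) : c * x = x * c := by
  rw [h.hC] at hc
  exact (Subgroup.mem_centralizer_iff.mp (Subgroup.mem_inf.mp hc).2 x hx).symm

omit [Fintype Γ] in
theorem mem_C (h : CY G S C s) (x : Γ) : x ∈ C ↔ x ∈ G ∧ x * s = s * x := by
  constructor
  · intro hx
    exact ⟨h.le hx, h.comm hx h.s_mem⟩
  · rintro ⟨hx, hxs⟩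
    rw [h.hC]
    refine Subgroup.mem_inf.mpr ⟨hx, Subgroup.mem_centralizer_iff.mpr fun y hy => ?_⟩
    have hy' : y ∈ Subgroup.zpowers s := by rw [h.hs]; exact hy
    obtain ⟨k, rfl⟩ := Subgroup.mem_zpowers_iff.mp hy'
    exact ((show Commute x s from hxs).zpow_right k).symm

theorem orderOf_s (h : CY G S C s) : orderOf s = Nat.card S := by
  rw [← h.hs, Nat.card_zpowers]

theorem pow_eq_of_modEq_G (h : CY G S C s) {c : Γ} (hc : c ∈ G) {m k : ℕ}
    (hm : m ≡ k [MOD Nat.card G]) : c ^ m = c ^ k := by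
  have h2 : (⟨c, hc⟩ : G) ^ m = (⟨c, hc⟩ : G) ^ k :=
    pow_eq_pow_iff_modEq.mpr (hm.of_dvd (orderOf_dvd_natCard _))
  exact congrArg Subtype.val h2

theorem pow_eq_of_modEq_S (h : CY G S C s) {m k : ℕ}
    (hm : m ≡ k [MOD Nat.card S]) : s ^ m = s ^ k :=
  pow_eq_pow_iff_modEq.mpr (h.orderOf_s ▸ hm)

theorem exists_m0 (h : CY G S C s) : ∃ m : ℕ, ∀ c ∈ C, (c * s) ^ m = s := by
  obtain ⟨m, hm1, hm2⟩ := Nat.chineseRemainder h.hcop 0 1
  refine ⟨m, fun c hc => ?_⟩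
  rw [(show Commute c s from h.comm hc h.s_mem).mul_pow, h.pow_eq_of_modEq_G (h.le hc) hm1,
    h.pow_eq_of_modEq_S hm2, pow_zero, pow_one, one_mul]

theorem exists_pow_of_gen (h : CY G S C s) {s' : Γ} (hs' : Subgroup.zpowers s' = S) :
    ∃ k : ℕ, k.Coprime (Nat.card S) ∧ s' = s ^ k := by
  have h1 : s' ∈ Subgroup.zpowers s := by rw [h.hs, ← hs']; exact Subgroup.mem_zpowers s'
  obtain ⟨k, rfl⟩ := (mem_powers_iff_mem_zpowers).mpr h1
  refine ⟨k, ?_, rfl⟩
  have h2 : orderOf (s ^ k) = Nat.card S := by rw [← hs', Nat.card_zpowers]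
  rw [orderOf_pow, h.orderOf_s] at h2
  have h3 : 0 < Nat.card S := Nat.card_pos
  rcases (Nat.div_eq_self).mp h2 with h4 | h4
  · omega
  · rw [Nat.Coprime, Nat.gcd_comm]; exact h4

/-- values of the canonical extension on `C s ^ k`. -/
theorem val_pow (h : CY G S C s) (χ : IrrCharacter G) (χh : IrrCharacter Γ)
    (hext : ∀ g : G, (χh : Γ → ℂ) g = (χ : G → ℂ) g)
    (hdet : (detOrder (χh : Γ → ℂ)).Coprime (Nat.card S)) {k : ℕ} (hk : k.Coprime (Nat.card S))
    {c : Γ} (hc : c ∈ C) : (χh : Γ → ℂ) (c * s ^ k) = (χh : Γ → ℂ) (c * s) := by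
  haveI := h.normal
  obtain ⟨m, hm1, hm2⟩ := Nat.chineseRemainder h.hcop 1 k
  have hmS : m.Coprime (Nat.card S) := by
    have h1 : Nat.gcd m (Nat.card S) = Nat.gcd k (Nat.card S) := Nat.ModEq.gcd_eq hm2
    rw [Nat.Coprime, h1]; exact hk
  have h1 := canon_pow G χ χh hext (h.index_eq ▸ h.hcop) (h.index_eq ▸ hdet) m hm1
    (h.index_eq ▸ hmS) (c * s)
  rw [(show Commute c s from h.comm hc h.s_mem).mul_pow, h.pow_eq_of_modEq_G (h.le hc) hm1,
    h.pow_eq_of_modEq_S hm2, pow_one] at h1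
  exact h1

theorem val_gen (h : CY G S C s) (χ : IrrCharacter G) (χh : IrrCharacter Γ)
    (hext : ∀ g : G, (χh : Γ → ℂ) g = (χ : G → ℂ) g)
    (hdet : (detOrder (χh : Γ → ℂ)).Coprime (Nat.card S)) {s' : Γ}
    (hs' : Subgroup.zpowers s' = S)
    {c : Γ} (hc : c ∈ C) : (χh : Γ → ℂ) (c * s') = (χh : Γ → ℂ) (c * s) := by
  obtain ⟨k, hk, rfl⟩ := h.exists_pow_of_gen hs'
  exact h.val_pow χ χh hext hdet hk hc

theorem inner_eq (h : CY G S C s) [Fintype G] [Fintype C] {Φ₁ Φ₂ : Γ → ℂ}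
    (h₁ : IsClassFunction Γ Φ₁) (h₂ : IsClassFunction Γ Φ₂) :
    classInner (fun c : C => Φ₁ ((c : Γ) * s)) (fun c : C => Φ₂ ((c : Γ) * s))
      = (Nat.card G : ℂ)⁻¹ * ∑ g : G, Φ₁ ((g : Γ) * s) * conj (Φ₂ ((g : Γ) * s)) := by
  haveI := h.normal
  obtain ⟨m, hm⟩ := h.exists_m0
  have h3 := coset_sum G C s h.mem_C m hm (fun x => Φ₁ x * conj (Φ₂ x))
    (fun g x => by simp only [h₁ g x, h₂ g x])
  have hG0 : (Nat.card G : ℂ) ≠ 0 := by exact_mod_cast Nat.card_pos.ne'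
  have hC0 : (Nat.card C : ℂ) ≠ 0 := by exact_mod_cast Nat.card_pos.ne'
  rw [classInner]
  field_simp
  linear_combination -h3

theorem orth (h : CY G S C s) [Fintype G] [Fintype C] (χh χh' : IrrCharacter Γ)
    (hirr : IsIrrCharacter G (fun g : G => (χh' : Γ → ℂ) g)) :
    (classInner (fun g : G => (χh : Γ → ℂ) g) (fun g : G => (χh' : Γ → ℂ) g) = 0 →
      classInner (fun c : C => (χh : Γ → ℂ) ((c : Γ) * s))
        (fun c : C => (χh' : Γ → ℂ) ((c : Γ) * s)) = 0) ∧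
    (χh = χh' → classInner (fun c : C => (χh : Γ → ℂ) ((c : Γ) * s))
        (fun c : C => (χh' : Γ → ℂ) ((c : Γ) * s)) = 1) := by
  haveI := h.normal
  have h1 := Cfsg.Agent.S0868.result G (χh' : Γ → ℂ) χh'.2 hirr (χh : Γ → ℂ) χh.2 _ rfl
  rw [h.inner_eq (isClassFunction_of_irr χh.2) (isClassFunction_of_irr χh'.2)]
  constructor
  · intro h0
    exact congrFun (h1.2.1 h0) s
  · intro h0
    exact congrFun (h1.2.2 (congrArg Subtype.val h0)) s

/-- the `β`-part of a character of `Γ` on `C × S` is a character of `S` (or zero). -/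
theorem exists_coef (h : CY G S C s) [Fintype C] [Fintype S] {ψ : Γ → ℂ} (hψ : IsCharacter Γ ψ)
    (β : IrrCharacter C) :
    ∃ a : IrrCharacter S → ℕ, ∀ x : S,
      classInner (fun c : C => ψ ((c : Γ) * x)) (β : C → ℂ)
        = ∑ l : IrrCharacter S, (a l : ℂ) * (l : S → ℂ) x := by
  classical
  have hcomm : ∀ (c : C) (x : S), Commute (C.subtype c) (S.subtype x) := fun c x =>
    h.comm c.2 x.2
  let μ : C × S →* Γ := MonoidHom.noncommCoprod C.subtype S.subtype hcomm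
  have hμ : ∀ p : C × S, μ p = (p.1 : Γ) * p.2 := fun p => rfl
  let B : S → ℂ := fun x => classInner (fun c : C => ψ ((c : Γ) * x)) (β : C → ℂ)
  have hS : ∀ x y : S, x * y = y * x := by
    rintro ⟨x, hx⟩ ⟨y, hy⟩
    have hx' : x ∈ Subgroup.zpowers s := by rw [h.hs]; exact hx
    have hy' : y ∈ Subgroup.zpowers s := by rw [h.hs]; exact hy
    obtain ⟨i, rfl⟩ := Subgroup.mem_zpowers_iff.mp hx'
    obtain ⟨j, rfl⟩ := Subgroup.mem_zpowers_iff.mp hy'
    exact Subtype.ext ((Commute.refl s).zpow_zpow i j)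
  have hBcl : IsClassFunction S B := by
    intro g x
    rw [hS x g, mul_inv_cancel_right]
  have hB := classFunction_eq_sum hBcl
  have ha : ∀ l : IrrCharacter S, ∃ a : ℕ, classInner B (l : S → ℂ) = a := by
    intro l
    have h1 : IsCharacter (C × S) (fun p => ψ (μ p)) := isCharacter_comp hψ μ
    have h2 : IsCharacter (C × S) ((fun p : C × S => (β : C → ℂ) p.1) * fun p : C × S => (l : S → ℂ) p.2) :=
      isCharacter_mul (isCharacter_comp (isCharacter_of_irr β.2) (MonoidHom.fst C S))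
        (isCharacter_comp (isCharacter_of_irr l.2) (MonoidHom.snd C S))
    obtain ⟨a, ha⟩ := classInner_char_nat h1 h2
    refine ⟨a, ?_⟩
    rw [← ha]
    simp only [classInner, B, Nat.card_prod, Fintype.sum_prod_type_right, hμ, Pi.mul_apply, map_mul,
      Nat.cast_mul, mul_inv, Finset.mul_sum, Finset.sum_mul]
    refine Finset.sum_congr rfl fun x _ => Finset.sum_congr rfl fun c _ => ?_
    ring
  choose a ha using ha
  refine ⟨a, fun x => ?_⟩
  have h1 := congrFun hB x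
  simp only [Finset.sum_apply, Pi.smul_apply, smul_eq_mul, ha] at h1
  exact h1

theorem exists_int (h : CY G S C s) [Fintype C] (χ : IrrCharacter G) (χh : IrrCharacter Γ)
    (hext : ∀ g : G, (χh : Γ → ℂ) g = (χ : G → ℂ) g)
    (hdet : (detOrder (χh : Γ → ℂ)).Coprime (Nat.card S)) (β : IrrCharacter C) :
    ∃ n : ℤ, classInner (fun c : C => (χh : Γ → ℂ) ((c : Γ) * s)) (β : C → ℂ) = n := by
  classical
  letI := Fintype.ofFinite S
  obtain ⟨a, ha⟩ := h.exists_coef (isCharacter_of_irr χh.2) β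
  let s₀ : S := ⟨s, h.s_mem⟩
  have hint : IsIntegral ℤ (classInner (fun c : C => (χh : Γ → ℂ) ((c : Γ) * s)) (β : C → ℂ)) := by
    rw [show classInner (fun c : C => (χh : Γ → ℂ) ((c : Γ) * s)) (β : C → ℂ) = _ from ha s₀]
    exact IsIntegral.sum _ fun l _ => (isIntegral_natCast (R := ℤ) (B := ℂ) (a l)).mul (isIntegral_irr l s₀)
  have hmem : classInner (fun c : C => (χh : Γ → ℂ) ((c : Γ) * s)) (β : C → ℂ) ∈ QBar := by
    rw [mem_algebraicClosure_iff']
    exact hint.tower_top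
  obtain ⟨q, hq⟩ := exists_rat_of_fixed ⟨_, hmem⟩ (fun φ => by
    obtain ⟨m, hm, hφ⟩ := exists_pow_of_algHom (Nat.card S) Nat.card_pos φ
    choose y hy1 hy2 using fun l : IrrCharacter S =>
      Cfsg.Agent.Lib.Helper10.irr_compat φ m hφ l.2 s₀
    have e1 : (⟨_, hmem⟩ : QBar) = ∑ l : IrrCharacter S, (a l : QBar) * y l := by
      apply Subtype.ext
      show classInner (fun c : C => (χh : Γ → ℂ) ((c : Γ) * s)) (β : C → ℂ) = _
      rw [show classInner (fun c : C => (χh : Γ → ℂ) ((c : Γ) * s)) (β : C → ℂ) = _ from ha s₀]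
      push_cast
      simp only [hy1]
    rw [e1, map_sum]
    simp only [map_mul, map_natCast, hy2]
    rw [← e1, ← ha (s₀ ^ m)]
    show _ = classInner (fun c : C => (χh : Γ → ℂ) ((c : Γ) * s)) (β : C → ℂ)
    have e2 : (fun c : C => (χh : Γ → ℂ) ((c : Γ) * ((s₀ ^ m : S) : Γ)))
        = fun c : C => (χh : Γ → ℂ) ((c : Γ) * s) := by
      funext c
      exact h.val_pow χ χh hext hdet hm c.2
    rw [e2])
  exact exists_int_of_isIntegral_of_rat hint hq

omit [Fintype Γ] in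
theorem isClassFunction_shift (h : CY G S C s) {ψ : Γ → ℂ} (hψ : IsClassFunction Γ ψ) :
    IsClassFunction C (fun c : C => ψ ((c : Γ) * s)) := by
  intro c x
  show ψ (((x * c * x⁻¹ : C) : Γ) * s) = ψ ((c : Γ) * s)
  rw [← hψ ((c : Γ) * s) x]
  congr 1
  have h1 : (x : Γ)⁻¹ * s = s * (x : Γ)⁻¹ := h.comm (C.inv_mem x.2) h.s_mem
  push_cast
  rw [mul_assoc, h1]
  group

/-- the values of the canonical extension on `C s` are, up to sign, an irreducible character. -/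
theorem exists_beta (h : CY G S C s) [Fintype G] [Fintype C] (χ : IrrCharacter G) (χh : IrrCharacter Γ)
    (hext : ∀ g : G, (χh : Γ → ℂ) g = (χ : G → ℂ) g)
    (hdet : (detOrder (χh : Γ → ℂ)).Coprime (Nat.card S)) :
    ∃ (β : IrrCharacter C) (ε : ℤ), (ε = 1 ∨ ε = -1) ∧
      ∀ c : C, (χh : Γ → ℂ) ((c : Γ) * s) = (ε : ℂ) * (β : C → ℂ) c := by
  classical
  have hirr : IsIrrCharacter G (fun g : G => (χh : Γ → ℂ) g) := by
    rw [show (fun g : G => (χh : Γ → ℂ) g) = (χ : G → ℂ) from funext hext]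
    exact χ.2
  have hnorm := (h.orth χh χh hirr).2 rfl
  choose n hn using h.exists_int χ χh hext hdet
  have hgen : IsGeneralizedCharacter C (fun c : C => (χh : Γ → ℂ) ((c : Γ) * s)) := by
    rw [isGeneralizedCharacter_iff]
    refine ⟨n, ?_⟩
    have h1 := classFunction_eq_sum (h.isClassFunction_shift (isClassFunction_of_irr χh.2))
    simp only [hn] at h1
    exact h1
  rcases Cfsg.Agent.Lib.Helper10.isSignedIrr_of_norm_one hgen hnorm with h1 | h1
  · exact ⟨⟨_, h1⟩, 1, Or.inl rfl, fun c => by simp⟩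
  · exact ⟨⟨_, h1⟩, -1, Or.inr rfl, fun c => by simp⟩

theorem inner_signed [Fintype C] (β : IrrCharacter C) {ε ε' : ℤ} (hε : ε = 1 ∨ ε = -1)
    (hε' : ε' = 1 ∨ ε' = -1) :
    classInner (fun c : C => (ε : ℂ) * (β : C → ℂ) c) (fun c : C => (ε' : ℂ) * (β : C → ℂ) c) ≠ 0 := by
  have h1 : (fun c : C => (ε : ℂ) * (β : C → ℂ) c) = (ε : ℂ) • (β : C → ℂ) := rfl
  have h2 : (fun c : C => (ε' : ℂ) * (β : C → ℂ) c) = (ε' : ℂ) • (β : C → ℂ) := rfl
  rw [h1, h2, classInner_smul_left, classInner_smul_right, classInner_irr_self β.2]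
  rcases hε with rfl | rfl <;> rcases hε' with rfl | rfl <;> simp

theorem constituent (h : CY G S C s) [Fintype C] (χh : IrrCharacter Γ) (β : IrrCharacter C) (ε : ℤ)
    (hε : ε = 1 ∨ ε = -1)
    (hval : ∀ c : C, (χh : Γ → ℂ) ((c : Γ) * s) = (ε : ℂ) * (β : C → ℂ) c) :
    classInner (fun c : C => (χh : Γ → ℂ) c) (β : C → ℂ) ≠ 0 := by
  classical
  letI := Fintype.ofFinite S
  obtain ⟨a, ha⟩ := h.exists_coef (isCharacter_of_irr χh.2) β
  intro h0
  choose d hd0 hd1 using fun l : IrrCharacter S => irr_apply_one_nat l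
  have h1 := ha 1
  simp only [OneMemClass.coe_one, mul_one, h0, hd1] at h1
  have h2 : ∑ l : IrrCharacter S, a l * d l = 0 := by exact_mod_cast h1.symm
  have h3 : ∀ l, a l = 0 := by
    intro l
    have h4 := (Finset.sum_eq_zero_iff.mp h2) l (Finset.mem_univ _)
    rcases Nat.mul_eq_zero.mp h4 with h5 | h5
    · exact h5
    · exact absurd h5 (hd0 l).ne'
  have h4 := ha ⟨s, h.s_mem⟩
  simp only [h3, Nat.cast_zero, zero_mul, Finset.sum_const_zero, hval] at h4
  have h5 := inner_signed β hε (Or.inl rfl : (1 : ℤ) = 1 ∨ (1 : ℤ) = -1)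
  simp only [Int.cast_one, one_mul] at h5
  exact h5 h4

theorem inj (h : CY G S C s) [Fintype G] [Fintype C] {χ χ' : IrrCharacter G} {χh χh' : IrrCharacter Γ}
    (hext : ∀ g : G, (χh : Γ → ℂ) g = (χ : G → ℂ) g)
    (hext' : ∀ g : G, (χh' : Γ → ℂ) g = (χ' : G → ℂ) g) (β : IrrCharacter C) {ε ε' : ℤ}
    (hε : ε = 1 ∨ ε = -1) (hε' : ε' = 1 ∨ ε' = -1)
    (hval : ∀ c : C, (χh : Γ → ℂ) ((c : Γ) * s) = (ε : ℂ) * (β : C → ℂ) c)
    (hval' : ∀ c : C, (χh' : Γ → ℂ) ((c : Γ) * s) = (ε' : ℂ) * (β : C → ℂ) c) : χ = χ' := by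
  by_contra hne
  have e1 : (fun g : G => (χh : Γ → ℂ) g) = (χ : G → ℂ) := funext hext
  have e2 : (fun g : G => (χh' : Γ → ℂ) g) = (χ' : G → ℂ) := funext hext'
  have h1 := (h.orth χh χh' (e2 ▸ χ'.2)).1 (by
    rw [e1, e2]
    exact classInner_irr_ne χ.2 χ'.2 (fun hh => hne (Subtype.ext hh)))
  simp only [hval, hval'] at h1
  exact inner_signed β hε hε' h1

theorem signed_unique {β β' : IrrCharacter C} {ε ε' : ℤ} (hε : ε = 1 ∨ ε = -1)
    (hε' : ε' = 1 ∨ ε' = -1)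
    (hh : ∀ c : C, (ε : ℂ) * (β : C → ℂ) c = (ε' : ℂ) * (β' : C → ℂ) c) : β = β' ∧ ε = ε' := by
  obtain ⟨d, hd0, hd1⟩ := irr_apply_one_nat β
  obtain ⟨d', hd0', hd1'⟩ := irr_apply_one_nat β'
  have h1 := hh 1
  rw [hd1, hd1'] at h1
  have h2 : ε * (d : ℤ) = ε' * (d' : ℤ) := by exact_mod_cast h1
  have h3 : ε = ε' := by
    rcases hε with rfl | rfl <;> rcases hε' with rfl | rfl
    · rfl
    · exfalso; omega
    · exfalso; omega
    · rfl
  subst h3
  refine ⟨Subtype.ext (funext fun c => ?_), rfl⟩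
  have h4 : (ε : ℂ) ≠ 0 := by rcases hε with rfl | rfl <;> simp
  exact mul_left_cancel₀ h4 (hh c)

theorem exists_canon (h : CY G S C s) (χ : IrrCharacter G) (hinv : SInv G S (χ : G → ℂ)) :
    ∃ χh : IrrCharacter Γ, (∀ g : G, (χh : Γ → ℂ) g = (χ : G → ℂ) g) ∧
      (detOrder (χh : Γ → ℂ)).Coprime (Nat.card S) := by
  haveI hG := h.normal
  have hc := isComplement'_of_sup G S h.htop h.hcop
  have hTinv : ∀ (t : Γ) (n : G),
      (χ : G → ℂ) ⟨t * n * t⁻¹, hG.conj_mem n n.2 t⟩ = (χ : G → ℂ) n := by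
    intro t n
    obtain ⟨⟨a, k⟩, hak⟩ := hc.2 t
    have hak' : (a : Γ) * k = t := hak
    have h1 : (χ : G → ℂ) (k * n * k⁻¹) = (χ : G → ℂ) n := isClassFunction_of_irr χ.2 n k
    rw [← h1]
    refine hinv a a.2 _ _ ?_
    show t * n * t⁻¹ = a * ((k : Γ) * n * (k : Γ)⁻¹) * (a : Γ)⁻¹
    rw [← hak']
    group
  obtain ⟨d, hd0, hd1, hd2⟩ := L.irr_degree_dvd χ
  have hdo := detOrder_dvd_card (isCharacter_of_irr χ.2)
  have hcp : Nat.Coprime G.index (detOrder (χ : G → ℂ) * d) := by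
    rw [h.index_eq]
    exact Nat.Coprime.mul_right (Nat.Coprime.coprime_dvd_right hdo h.hcop.symm)
      (Nat.Coprime.coprime_dvd_right hd2 h.hcop.symm)
  obtain ⟨χ₀, ⟨h1, h2, h3⟩, -⟩ := Cfsg.Agent.S0867.result G (χ : G → ℂ) χ.2 hTinv d hd1 hcp
  refine ⟨⟨χ₀, h1⟩, h2, ?_⟩
  show (detOrder χ₀).Coprime _
  rw [h3]
  exact Nat.Coprime.coprime_dvd_left hdo h.hcop

theorem surj (h : CY G S C s) [Fintype G] [Fintype C] (β : IrrCharacter C) :
    ∃ (χ : IrrCharacter G) (χh : IrrCharacter Γ) (ε : ℤ), SInv G S (χ : G → ℂ) ∧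
      (∀ g : G, (χh : Γ → ℂ) g = (χ : G → ℂ) g) ∧
      (detOrder (χh : Γ → ℂ)).Coprime (Nat.card S) ∧ (ε = 1 ∨ ε = -1) ∧
      ∀ c : C, (χh : Γ → ℂ) ((c : Γ) * s) = (ε : ℂ) * (β : C → ℂ) c := by
  classical
  choose ext hext hdet using fun χ : {χ : IrrCharacter G // SInv G S (χ : G → ℂ)} =>
    h.exists_canon χ.1 χ.2
  choose F ε hε hval using fun χ : {χ : IrrCharacter G // SInv G S (χ : G → ℂ)} =>
    h.exists_beta χ.1 (ext χ) (hext χ) (hdet χ)
  have hinj : Function.Injective F := by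
    intro χ χ' hh
    apply Subtype.ext
    refine h.inj (hext χ) (hext χ') (F χ) (hε χ) (hε χ') (hval χ) ?_
    rw [hh]
    exact hval χ'
  have hsolv : Group.IsSolvable S := by
    apply Group.isSolvable_of_comm
    rintro ⟨x, hx⟩ ⟨y, hy⟩
    have hx' : x ∈ Subgroup.zpowers s := by rw [h.hs]; exact hx
    have hy' : y ∈ Subgroup.zpowers s := by rw [h.hs]; exact hy
    obtain ⟨i, rfl⟩ := Subgroup.mem_zpowers_iff.mp hx'
    obtain ⟨j, rfl⟩ := Subgroup.mem_zpowers_iff.mp hy'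
    exact Subtype.ext ((Commute.refl s).zpow_zpow i j)
  have hcard : Nat.card (IrrCharacter C) ≤ Nat.card {χ : IrrCharacter G // SInv G S (χ : G → ℂ)} := by
    rw [card_sInv_eq h.hnorm h.hcop hsolv, h.hC]
  obtain ⟨χ, rfl⟩ := (hinj.bijective_of_nat_card_le hcard).2 β
  exact ⟨χ.1, ext χ, ε χ, χ.2, hext χ, hdet χ, hε χ, hval χ⟩

end CY

end cyc

end Cfsg.Agent.Lib.Helper2
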