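import Mathlib
import Cfsg.Agent.BlockLib.Omega
import Cfsg.Agent.CharLib.Integral
import Cfsg.Agent.S0901

/-!
# Central characters on the `N`-fixed points of the group algebra, for characters restricting
irreducibly to the normal subgroup `N`
-/

set_option autoImplicit false

namespace Cfsg.Agent.Lib.Helper2.GrCent

open Cfsg Cfsg.Agent.CharLib Cfsg.Agent.BlockLib Module
open scoped ComplexConjugate

universe u

variable {G : Type u} [Group G] [Fintype G]

/-- invariance under conjugation by `N` -/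
def NInv (N : Subgroup G) (f : G → ℂ) : Prop := ∀ n ∈ N, ∀ x, f (n * x * n⁻¹) = f x

/-- integer values -/
def IntVal (f : G → ℂ) : Prop := ∀ x, ∃ k : ℤ, f x = k

/-- the augmentation -/
noncomputable def aug (f : G → ℂ) : ℂ := ∑ x, f x

theorem opSum_comm_of_nInv {V : Type*} [AddCommGroup V] [Module ℂ V] (ρ : Representation ℂ G V)
    {N : Subgroup G} {f : G → ℂ} (hf : NInv N f) {h : G} (hh : h ∈ N) :
    opSum ρ f ∘ₗ ρ h = ρ h ∘ₗ opSum ρ f := by
  ext v
  simp only [LinearMap.comp_apply, opSum_apply, map_sum, map_smul]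
  refine Fintype.sum_equiv (MulAut.conj h⁻¹).toEquiv _ _ ?_
  intro g
  simp only [MulEquiv.toEquiv_eq_coe, MulEquiv.coe_toEquiv, MulAut.conj_apply, inv_inv]
  have h1 : f (h⁻¹ * g * h) = f g := by
    have := hf h⁻¹ (N.inv_mem hh) g
    simpa using this
  rw [h1]
  congr 1
  rw [← Module.End.mul_apply, ← Module.End.mul_apply, ← map_mul, ← map_mul]
  congr 2
  group

/-- Schur's lemma for a representation whose restriction to `N` has irreducible character -/
theorem schur_res {V : Type*} [AddCommGroup V] [Module ℂ V] [FiniteDimensional ℂ V]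
    (ρ : Representation ℂ G V) (N : Subgroup G)
    (hres : IsIrrCharacter N (fun n : N => ρ.character n)) (T : Module.End ℂ V)
    (hT : ∀ h ∈ N, T ∘ₗ ρ h = ρ h ∘ₗ T) : ∃ c : ℂ, T = c • LinearMap.id := by
  classical
  haveI : Fintype N := Fintype.ofFinite N
  let σ : Representation ℂ N V := ρ.comp N.subtype
  have hσ : σ.character = fun n : N => ρ.character n := rfl
  have h1 : (finrank ℂ (Representation.IntertwiningMap σ σ) : ℂ) = 1 := by
    rw [← classInner_char_eq_finrank σ σ, hσ]
    exact classInner_irr_self hres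
  have h2 : finrank ℂ (Representation.IntertwiningMap σ σ) = 1 := by exact_mod_cast h1
  obtain ⟨v, hv0, hv⟩ := finrank_eq_one_iff'.mp h2
  let T' : Representation.IntertwiningMap σ σ := ⟨T, fun n => hT n n.2⟩
  let I' : Representation.IntertwiningMap σ σ := ⟨LinearMap.id, fun n => rfl⟩
  obtain ⟨a, ha⟩ := hv T'
  obtain ⟨b, hb⟩ := hv I'
  have hT' : T = a • v.toLinearMap := by
    have := congrArg Representation.IntertwiningMap.toLinearMap ha
    simpa [T'] using this.symm
  have hI' : (LinearMap.id : V →ₗ[ℂ] V) = b • v.toLinearMap := by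
    have := congrArg Representation.IntertwiningMap.toLinearMap hb
    simpa [I'] using this.symm
  by_cases hb0 : b = 0
  · refine ⟨0, ?_⟩
    rw [hb0, zero_smul] at hI'
    ext w
    have h3 : w = 0 := by
      have := LinearMap.congr_fun hI' w
      simpa using this
    rw [h3]; simp
  · refine ⟨a / b, ?_⟩
    rw [hT', hI', smul_smul, div_mul_cancel₀ a hb0]

theorem opSum_res {n : ℕ} (ρ : Representation ℂ G (Fin n → ℂ)) [ρ.IsIrreducible] (N : Subgroup G)
    (hres : IsIrrCharacter N (fun n : N => ρ.character n)) {f : G → ℂ} (hf : NInv N f) :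
    opSum ρ f = (omega ρ.character f) • (1 : Module.End ℂ (Fin n → ℂ)) := by
  obtain ⟨c, hc⟩ := schur_res ρ N hres (opSum ρ f) (fun h hh => opSum_comm_of_nInv ρ hf hh)
  have h1 : LinearMap.trace ℂ (Fin n → ℂ) (opSum ρ f) = c * finrank ℂ (Fin n → ℂ) := by
    rw [hc, map_smul, LinearMap.trace_id, smul_eq_mul]
  have h2 : (finrank ℂ (Fin n → ℂ) : ℂ) ≠ 0 := by exact_mod_cast (finrank_pos_of_irr ρ).ne'
  rw [trace_opSum] at h1
  rw [omega, Representation.char_one, h1, mul_div_cancel_right₀ _ h2, hc]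
  rfl

theorem omega_conv_res {ψ : G → ℂ} (hψ : IsIrrCharacter G ψ) (N : Subgroup G)
    (hres : IsIrrCharacter N (fun n : N => ψ n)) {f g : G → ℂ} (hf : NInv N f) (hg : NInv N g)
    (hfg : NInv N (conv f g)) :
    omega ψ (conv f g) = omega ψ f * omega ψ g := by
  obtain ⟨n, ρ, hρ, rfl⟩ := hψ
  have h1 := opSum_res ρ N hres hfg
  rw [opSum_conv, opSum_res ρ N hres hf, opSum_res ρ N hres hg] at h1
  have hpos := finrank_pos_of_irr ρ
  have : Nontrivial (Fin n → ℂ) := Module.nontrivial_of_finrank_pos (R := ℂ) hpos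
  have h2 : (omega ρ.character f * omega ρ.character g) • (1 : Module.End ℂ (Fin n → ℂ))
      = omega ρ.character (conv f g) • (1 : Module.End ℂ (Fin n → ℂ)) := by
    rw [← h1, smul_mul_smul_comm, mul_one]
  have h3 := congrArg (fun T => LinearMap.trace ℂ (Fin n → ℂ) T) h2
  simp only [map_smul, LinearMap.trace_one, smul_eq_mul] at h3
  have h4 : (finrank ℂ (Fin n → ℂ) : ℂ) ≠ 0 := by exact_mod_cast hpos.ne'
  exact (mul_right_cancel₀ h4 h3).symm

theorem isIntegral_omega_res {ψ : G → ℂ} (hψ : IsIrrCharacter G ψ) (N : Subgroup G)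
    (hres : IsIrrCharacter N (fun n : N => ψ n)) {f : G → ℂ} (hf : NInv N f) (hfi : IntVal f) :
    IsIntegral ℤ (omega ψ f) := by
  classical
  obtain ⟨n, ρ, hρ, rfl⟩ := hψ
  choose k hk using hfi
  let c : MonoidAlgebra ℤ G := ∑ x : G, k x • MonoidAlgebra.of ℤ G x
  have hc : IsIntegral ℤ c := IsIntegral.of_finite ℤ c
  let φ : MonoidAlgebra ℤ G →ₐ[ℤ] End ℂ (Fin n → ℂ) := MonoidAlgebra.lift ℤ (End ℂ (Fin n → ℂ)) G ρ
  have hφ : φ c = opSum ρ f := by
    simp only [c, φ, map_sum, opSum]
    refine Finset.sum_congr rfl fun x _ => ?_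
    rw [map_zsmul, hk x, Int.cast_smul_eq_zsmul ℂ (k x) (ρ x)]
    congr 1
    simp [MonoidAlgebra.lift_of]
  have h := hc.map φ
  rw [hφ, opSum_res ρ N hres hf, ← Algebra.algebraMap_eq_smul_one] at h
  have hpos := finrank_pos_of_irr ρ
  haveI : Nontrivial (Fin n → ℂ) := Module.nontrivial_of_finrank_pos (R := ℂ) hpos
  exact (isIntegral_algebraMap_iff (FaithfulSMul.algebraMap_injective ℂ (End ℂ (Fin n → ℂ)))).mp h

end Cfsg.Agent.Lib.Helper2.GrCent
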