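import Mathlib
import Cfsg.Agent.Lib.Helper2.GrCent

/-!
# Graded pieces of the `N`-fixed points of the group algebra
-/

set_option autoImplicit false

namespace Cfsg.Agent.Lib.Helper2.GrCent

open Cfsg Cfsg.Agent.CharLib Cfsg.Agent.BlockLib Module
open scoped ComplexConjugate

universe u

variable {G : Type u} [Group G] [Fintype G]

/-- `N`-invariant, integer valued, supported on the coset `N a` -/
structure Good (N : Subgroup G) (a : G) (f : G → ℂ) : Prop where
  inv : NInv N f
  int : IntVal f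
  supp : ∀ x, f x ≠ 0 → x * a⁻¹ ∈ N

theorem nInv_conv {N : Subgroup G} {f g : G → ℂ} (hf : NInv N f) (hg : NInv N g) :
    NInv N (conv f g) := by
  intro c hc x
  rw [conv_apply, conv_apply]
  refine (Fintype.sum_equiv (MulAut.conj c).toEquiv _ _ fun h => ?_).symm
  simp only [MulEquiv.toEquiv_eq_coe, MulEquiv.coe_toEquiv, MulAut.conj_apply]
  rw [hf c hc]
  congr 1
  have : (c * h * c⁻¹)⁻¹ * (c * x * c⁻¹) = c * (h⁻¹ * x) * c⁻¹ := by group
  rw [this, hg c hc]

theorem intVal_conv {f g : G → ℂ} (hf : IntVal f) (hg : IntVal g) : IntVal (conv f g) := by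
  intro x
  choose k hk using hf
  choose l hl using hg
  refine ⟨∑ h, k h * l (h⁻¹ * x), ?_⟩
  rw [conv_apply]
  push_cast
  exact Finset.sum_congr rfl fun h _ => by rw [hk, hl]

theorem aug_conv (f g : G → ℂ) : aug (conv f g) = aug f * aug g := by
  unfold aug
  simp only [conv_apply]
  rw [Finset.sum_comm, Finset.sum_mul]
  refine Finset.sum_congr rfl fun h _ => ?_
  rw [← Finset.mul_sum]
  congr 1
  exact Fintype.sum_equiv (Equiv.mulLeft h⁻¹) _ _ fun x => rfl

theorem Good.conv {N : Subgroup G} [hN : N.Normal] {a b : G} {f g : G → ℂ} (hf : Good N a f)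
    (hg : Good N b g) : Good N (a * b) (conv f g) := by
  refine ⟨nInv_conv hf.inv hg.inv, intVal_conv hf.int hg.int, fun x hx => ?_⟩
  rw [conv_apply] at hx
  obtain ⟨h, -, hh⟩ := Finset.exists_ne_zero_of_sum_ne_zero hx
  have h1 := hf.supp h (left_ne_zero_of_mul hh)
  have h2 := hg.supp _ (right_ne_zero_of_mul hh)
  have h3 := hN.conj_mem _ h2 h
  have h4 := N.mul_mem h3 h1
  have e : h * (h⁻¹ * x * b⁻¹) * h⁻¹ * (h * a⁻¹) = x * (a * b)⁻¹ := by group
  rwa [e] at h4

theorem Good.of_coset {N : Subgroup G} {a b : G} {f : G → ℂ} (hf : Good N a f)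
    (hab : a * b⁻¹ ∈ N) : Good N b f := by
  refine ⟨hf.inv, hf.int, fun x hx => ?_⟩
  have h1 := N.mul_mem (hf.supp x hx) hab
  have e : x * a⁻¹ * (a * b⁻¹) = x * b⁻¹ := by group
  rwa [e] at h1

theorem sum_eq_sum_subgroup (H : Subgroup G) [Fintype H] (F : G → ℂ) (h : ∀ x, x ∉ H → F x = 0) :
    ∑ x : G, F x = ∑ x : H, F x := by
  classical
  have h2 : ∑ x : G, F x = ∑ x ∈ Finset.univ.filter (fun x : G => x ∈ H), F x := by
    symm
    apply Finset.sum_subset (Finset.filter_subset _ _)
    intro x _ hx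
    exact h x (by simpa using hx)
  rw [h2, Finset.sum_subtype (Finset.univ.filter (fun x : G => x ∈ H)) (p := fun x => x ∈ H)
    (fun x => by simp)]

theorem aug_intVal {f : G → ℂ} (hf : IntVal f) : ∃ k : ℤ, aug f = k := by
  choose k hk using hf
  exact ⟨∑ x, k x, by unfold aug; push_cast; exact Finset.sum_congr rfl fun x _ => hk x⟩

variable {M : Ideal AlgInt}

theorem good_one_congr [M.IsPrime] {ψ : G → ℂ} (N : Subgroup G) [Fintype N]
    (hres : IsIrrCharacter N (fun n : N => ψ n))
    (hpb : (⟨fun n : N => ψ n, hres⟩ : IrrCharacter N) ∈ principalBlock M N) {f : G → ℂ}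
    (hf : Good N 1 f) : MemLocalIdeal M (omega ψ f - aug f) := by
  have hne : M ≠ ⊤ := Ideal.IsPrime.ne_top ‹_›
  have hoff : ∀ x, x ∉ N → f x = 0 := by
    intro x hx
    by_contra h0
    exact hx (by simpa using hf.supp x h0)
  have h1 : omega ψ f = omega (fun n : N => ψ n) (fun n : N => f n) := by
    unfold omega
    rw [sum_eq_sum_subgroup N (fun x => f x * ψ x) (fun x hx => by rw [hoff x hx, zero_mul])]
    rfl
  have h2 : aug f = omega (fun _ : N => (1 : ℂ)) (fun n : N => f n) := by
    unfold omega aug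
    rw [sum_eq_sum_subgroup N f hoff]
    simp
  rw [h1, h2]
  have h3 := memLocalIdeal_omega_sub (M := M) (χ := fun _ : N => (1 : ℂ))
    (ψ := fun n : N => ψ n) (f := fun n : N => f n) (fun _ _ => rfl)
    (isClassFunction_of_irr hres) hpb (fun n m => hf.inv m m.2 n)
    (fun n => by
      obtain ⟨k, hk⟩ := hf.int n
      rw [hk]; exact memLocalRing_intCast hne k)
  have h4 := memLocalIdeal_neg h3
  rwa [neg_sub] at h4

open Classical in
/-- the counting function of a map into `G` -/
noncomputable def vfun {T : Type*} [Fintype T] (κ : T → G) (x : G) : ℂ :=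
  ∑ t : T, if κ t = x then 1 else 0

theorem aug_vfun {T : Type*} [Fintype T] (κ : T → G) : aug (vfun κ) = Fintype.card T := by
  classical
  unfold aug vfun
  rw [Finset.sum_comm]
  simp

theorem good_vfun {T : Type*} [Fintype T] (κ : T → G) (N : Subgroup G) (c : G)
    (hequiv : ∀ m ∈ N, ∃ e : T ≃ T, ∀ t, κ (e t) = m * κ t * m⁻¹)
    (hsupp : ∀ t, κ t * c⁻¹ ∈ N) : Good N c (vfun κ) := by
  classical
  refine ⟨fun m hm x => ?_, fun x => ?_, fun x hx => ?_⟩
  · obtain ⟨e, he⟩ := hequiv m hm
    unfold vfun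
    refine (Fintype.sum_equiv e _ _ fun t => ?_).symm
    rw [he t]
    have : (m * κ t * m⁻¹ = m * x * m⁻¹) ↔ κ t = x := by
      constructor
      · intro h
        have := mul_right_cancel h
        exact mul_left_cancel this
      · rintro rfl; rfl
    simp only [this]
  · refine ⟨∑ t : T, if κ t = x then 1 else 0, ?_⟩
    unfold vfun
    push_cast
    rfl
  · unfold vfun at hx
    obtain ⟨t, -, ht⟩ := Finset.exists_ne_zero_of_sum_ne_zero hx
    have : κ t = x := by
      by_contra h
      exact ht (if_neg h)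
    rw [← this]
    exact hsupp t

end Cfsg.Agent.Lib.Helper2.GrCent
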