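import Mathlib
import Cfsg.Agent.Lib.Helper2.GrCent2

/-!
# The linear twist attached to an extension of a principal block character
-/

set_option autoImplicit false

namespace Cfsg.Agent.Lib.Helper2.GrCent

open Cfsg Cfsg.Agent.CharLib Cfsg.Agent.BlockLib Module
open scoped ComplexConjugate

universe u

variable {G : Type u} [Group G] [Fintype G]

theorem exists_test {p : ℕ} (N : Subgroup G) [hN : N.Normal] (P : Sylow p ↥N) (c : G)
    (hc : c ∈ Subgroup.centralizer (((P : Subgroup ↥N).map N.subtype : Subgroup G) : Set G)) :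
    ∃ v : G → ℂ, Good N c v ∧ aug v = ((P : Subgroup ↥N).index : ℂ) := by
  classical
  haveI : Fintype (↥N ⧸ (P : Subgroup ↥N)) := Fintype.ofFinite _
  have hcomm : ∀ q ∈ (P : Subgroup ↥N), (q : G) * c = c * (q : G) := fun q hq =>
    Subgroup.mem_centralizer_iff.mp hc q ⟨q, hq, rfl⟩
  let κ : ↥N ⧸ (P : Subgroup ↥N) → G :=
    Quotient.lift (fun n : N => (n : G) * c * (n : G)⁻¹) (by
      intro a b hab
      have h1 : a⁻¹ * b ∈ (P : Subgroup ↥N) := QuotientGroup.leftRel_apply.mp hab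
      have h2 := hcomm _ h1
      have h3 : (b : G) = (a : G) * ((a⁻¹ * b : N) : G) := by simp
      show (a : G) * c * (a : G)⁻¹ = (b : G) * c * (b : G)⁻¹
      rw [h3, mul_assoc (a : G) _ c, h2]
      group)
  have hκ : ∀ n : N, κ (QuotientGroup.mk n) = (n : G) * c * (n : G)⁻¹ := fun n => rfl
  refine ⟨vfun κ, good_vfun κ N c ?_ ?_, ?_⟩
  · intro m hm
    refine ⟨MulAction.toPerm (⟨m, hm⟩ : N), fun t => ?_⟩
    induction t using QuotientGroup.induction_on with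
    | H n =>
      have : MulAction.toPerm (⟨m, hm⟩ : N) (QuotientGroup.mk n : ↥N ⧸ (P : Subgroup ↥N)) =
          QuotientGroup.mk (⟨m, hm⟩ * n) := rfl
      rw [this, hκ, hκ]
      push_cast
      group
  · intro t
    induction t using QuotientGroup.induction_on with
    | H n =>
      rw [hκ]
      have h1 := N.mul_mem n.2 (hN.conj_mem _ (N.inv_mem n.2) c)
      have e : (n : G) * (c * (n : G)⁻¹ * c⁻¹) = (n : G) * c * (n : G)⁻¹ * c⁻¹ := by group
      rwa [e] at h1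
  · rw [aug_vfun, Subgroup.index_eq_card, Nat.card_eq_fintype_card]

/-- a root of unity of order prime to `p` -/
def IsPRoot (p : ℕ) (z : ℂ) : Prop := ∃ m : ℕ, ¬ p ∣ m ∧ z ^ m = 1

theorem IsPRoot.one (p : ℕ) [Fact p.Prime] : IsPRoot p 1 :=
  ⟨1, fun h => (Fact.out : p.Prime).one_lt.ne' (Nat.dvd_one.mp h), by simp⟩

theorem IsPRoot.mul {p : ℕ} [Fact p.Prime] {z w : ℂ} (hz : IsPRoot p z) (hw : IsPRoot p w) :
    IsPRoot p (z * w) := by
  obtain ⟨m, hm, hz⟩ := hz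
  obtain ⟨k, hk, hw⟩ := hw
  refine ⟨m * k, fun h => ?_, ?_⟩
  · rcases (Nat.Prime.dvd_mul Fact.out).mp h with h | h
    · exact hm h
    · exact hk h
  · rw [mul_pow, pow_mul, hz, one_pow, mul_comm m k, pow_mul, hw, one_pow, one_mul]

theorem IsPRoot.inv {p : ℕ} {z : ℂ} (hz : IsPRoot p z) : IsPRoot p z⁻¹ := by
  obtain ⟨m, hm, hz⟩ := hz
  exact ⟨m, hm, by rw [inv_pow, hz, inv_one]⟩

theorem IsPRoot.pos {p : ℕ} {z : ℂ} (hz : IsPRoot p z) : ∃ m : ℕ, 0 < m ∧ z ^ m = 1 := by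
  obtain ⟨m, hm, hz⟩ := hz
  exact ⟨m, Nat.pos_of_ne_zero (fun h => hm (h ▸ dvd_zero p)), hz⟩

theorem IsPRoot.isIntegral {p : ℕ} {z : ℂ} (hz : IsPRoot p z) : IsIntegral ℤ z := by
  obtain ⟨m, hm, hz⟩ := hz.pos
  exact isIntegral_of_pow_eq_one hm hz

theorem IsPRoot.ne_zero {p : ℕ} {z : ℂ} (hz : IsPRoot p z) : z ≠ 0 := by
  obtain ⟨m, hm, hz⟩ := hz.pos
  rintro rfl
  rw [zero_pow hm.ne'] at hz
  exact zero_ne_one hz

variable {M : Ideal AlgInt} {p : ℕ} [Fact p.Prime]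

theorem IsPRoot.not_mem (hM : IsPModular p M) {z : ℂ} (hz : IsPRoot p z) :
    ¬ MemLocalIdeal M z := by
  haveI := isPrime_of_isPModular hM
  have hne := ne_top_of_isPModular hM
  intro h
  have h1 := memLocalIdeal_mul_left (memLocalRing_of_isIntegral hne hz.inv.isIntegral) h
  rw [inv_mul_cancel₀ hz.ne_zero] at h1
  exact not_memLocalIdeal_one h1

theorem pRoot_unique (hM : IsPModular p M) {z w : ℂ} (hz : IsPRoot p z) (hw : IsPRoot p w)
    (h : MemLocalIdeal M (z - w)) : z = w := by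
  haveI := isPrime_of_isPModular hM
  have r5 : ((⟨z, hz.isIntegral⟩ : AlgInt) - ⟨w, hw.isIntegral⟩ : AlgInt) ∈ M := by
    rw [← memLocalIdeal_coe_iff]
    exact h
  exact congrArg Subtype.val
    ((Cfsg.Agent.S0901.result p M hM).1 ⟨z, hz.isIntegral⟩ ⟨w, hw.isIntegral⟩ hz hw r5)

theorem exists_pRoot (hM : IsPModular p M) {z : ℂ} (hz : MemLocalRing M z)
    (hz' : ¬ MemLocalIdeal M z) : ∃ ζ, IsPRoot p ζ ∧ MemLocalIdeal M (z - ζ) := by
  haveI := isPrime_of_isPModular hM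
  have hne := ne_top_of_isPModular hM
  obtain ⟨a, b, hb, rfl⟩ := hz
  have ha : a ∉ M := fun h => hz' ⟨a, b, h, hb, rfl⟩
  obtain ⟨ε, hε, hε'⟩ := (Cfsg.Agent.S0901.result p M hM).2 a ha
  obtain ⟨δ, hδ, hδ'⟩ := (Cfsg.Agent.S0901.result p M hM).2 b hb
  have hε1 : IsPRoot p (ε : ℂ) := hε
  have hδ1 : IsPRoot p (δ : ℂ) := hδ
  refine ⟨(ε : ℂ) * (δ : ℂ)⁻¹, hε1.mul hδ1.inv, ?_⟩
  have hb0 : (b : ℂ) ≠ 0 := coe_ne_zero_of_not_mem hb
  have hbR : MemLocalRing M (b : ℂ) := memLocalRing_of_algInt hne b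
  have hbI : ¬ MemLocalIdeal M (b : ℂ) := fun h => hb (memLocalIdeal_coe_iff.mp h)
  have h1 : MemLocalIdeal M ((a : ℂ) - (ε : ℂ)) := by
    have := memLocalIdeal_of_mem hne hε'
    simpa using this
  have h2 : MemLocalIdeal M ((b : ℂ) - (δ : ℂ)) := by
    have := memLocalIdeal_of_mem hne hδ'
    simpa using this
  have h3 := memLocalIdeal_div h1 hbR hbI
  have h4 := memLocalIdeal_div (memLocalIdeal_mul_left
    (memLocalRing_of_isIntegral hne (hε1.mul hδ1.inv).isIntegral) h2) hbR hbI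
  have h5 := memLocalIdeal_sub h3 h4
  have e : ((a : ℂ) - (ε : ℂ)) / (b : ℂ) -
      (ε : ℂ) * (δ : ℂ)⁻¹ * ((b : ℂ) - (δ : ℂ)) / (b : ℂ) =
      (a : ℂ) / (b : ℂ) - (ε : ℂ) * (δ : ℂ)⁻¹ := by
    have := hδ1.ne_zero
    field_simp
    ring
  rwa [e] at h5

end Cfsg.Agent.Lib.Helper2.GrCent
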