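import Mathlib
import Cfsg.Agent.Lib.Helper2.GrCent3
import Cfsg.Agent.H25.RealExt

/-!
# The linear twist attached to an extension of a principal block character, II
-/

set_option autoImplicit false

namespace Cfsg.Agent.Lib.Helper2.GrCent

open Cfsg Cfsg.Agent.CharLib Cfsg.Agent.BlockLib Module
open scoped ComplexConjugate

universe u

variable {G : Type u} [Group G] [Fintype G] {M : Ideal AlgInt} {p : ℕ} [Fact p.Prime]

/-- on the coset `N g`, the central character of `ψ` is `z` times the augmentation -/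
def Rel (M : Ideal AlgInt) (N : Subgroup G) (ψ : G → ℂ) (g : G) (z : ℂ) : Prop :=
  ∀ f, Good N g f → MemLocalIdeal M (omega ψ f - z * aug f)

/-- the standing hypotheses -/
structure Setup (p : ℕ) (M : Ideal AlgInt) (N : Subgroup G) (ψ : G → ℂ) : Prop where
  hM : IsPModular p M
  hψ : IsIrrCharacter G ψ
  hres : IsIrrCharacter N (fun n : N => ψ n)
  hpb : (⟨fun n : N => ψ n, hres⟩ : IrrCharacter N) ∈ principalBlock M N
  /-- test functions -/
  test : ∃ s : ℕ, ¬ p ∣ s ∧ ∀ g : G, ∃ v : G → ℂ, Good N g v ∧ aug v = s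

variable {N : Subgroup G} [hN : N.Normal] {ψ : G → ℂ}

theorem Setup.ring (S : Setup p M N ψ) {g : G} {f : G → ℂ} (hf : Good N g f) :
    MemLocalRing M (omega ψ f) :=
  memLocalRing_of_isIntegral (ne_top_of_isPModular S.hM)
    (isIntegral_omega_res S.hψ N S.hres hf.inv hf.int)

theorem aug_ring (hne : M ≠ ⊤) {g : G} {f : G → ℂ} (hf : Good N g f) : MemLocalRing M (aug f) := by
  obtain ⟨k, hk⟩ := aug_intVal hf.int
  rw [hk]; exact memLocalRing_intCast hne k

theorem Setup.conv (S : Setup p M N ψ) {a b : G} {f g : G → ℂ} (hf : Good N a f)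
    (hg : Good N b g) : omega ψ (conv f g) = omega ψ f * omega ψ g :=
  omega_conv_res S.hψ N S.hres hf.inv hg.inv (hf.conv hg).inv

theorem Setup.one (S : Setup p M N ψ) {f : G → ℂ} (hf : Good N 1 f) :
    MemLocalIdeal M (omega ψ f - aug f) := by
  haveI := isPrime_of_isPModular S.hM
  haveI : Fintype N := Fintype.ofFinite N
  exact good_one_congr N S.hres S.hpb hf

theorem Rel.of_coset {g h : G} {z : ℂ} (hr : Rel M N ψ g z) (hgh : h * g⁻¹ ∈ N) :
    Rel M N ψ h z := fun f hf => hr f (hf.of_coset hgh)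

theorem Setup.rel_exists (S : Setup p M N ψ) (g : G) :
    ∃ t, MemLocalRing M t ∧ ¬ MemLocalIdeal M t ∧ Rel M N ψ g t := by
  haveI := isPrime_of_isPModular S.hM
  have hne := ne_top_of_isPModular S.hM
  obtain ⟨s, hs, htest⟩ := S.test
  obtain ⟨v, hv, hvs⟩ := htest g
  obtain ⟨v', hv', hvs'⟩ := htest g⁻¹
  have hsI : ¬ MemLocalIdeal M (s : ℂ) := fun h => hs ((memLocalIdeal_natCast_iff S.hM s).mp h)
  have hsR : MemLocalRing M (s : ℂ) := memLocalRing_natCast hne s
  have key : ∀ f, Good N g f → MemLocalIdeal M (omega ψ f * omega ψ v' - aug f * s) := by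
    intro f hf
    have h1 : Good N 1 (BlockLib.conv f v') := by
      have := hf.conv hv'
      rwa [mul_inv_cancel] at this
    have h2 := S.one h1
    rwa [S.conv hf hv', aug_conv, hvs'] at h2
  have ha'R := S.ring hv'
  have ha'I : ¬ MemLocalIdeal M (omega ψ v') := by
    intro h
    have h1 := key v hv
    have h2 := memLocalIdeal_sub (memLocalIdeal_mul_left (S.ring hv) h) h1
    rw [sub_sub_cancel, hvs] at h2
    rcases memLocalIdeal_or_of_mul hsR hsR h2 with h3 | h3 <;> exact hsI h3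
  have ha0 : omega ψ v' ≠ 0 := ne_zero_of_not_memLocalIdeal hne ha'I
  refine ⟨s / omega ψ v', memLocalRing_div hsR ha'R ha'I, ?_, ?_⟩
  · intro h
    have h1 := memLocalIdeal_mul_right h ha'R
    rw [div_mul_cancel₀ _ ha0] at h1
    exact hsI h1
  · intro f hf
    have h1 := memLocalIdeal_div (key f hf) ha'R ha'I
    have e : (omega ψ f * omega ψ v' - aug f * s) / omega ψ v' =
        omega ψ f - s / omega ψ v' * aug f := by
      field_simp
    rwa [e] at h1

theorem Setup.rel_unique (S : Setup p M N ψ) {g : G} {t t' : ℂ} (h : Rel M N ψ g t)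
    (h' : Rel M N ψ g t') : MemLocalIdeal M (t - t') := by
  haveI := isPrime_of_isPModular S.hM
  obtain ⟨s, hs, htest⟩ := S.test
  obtain ⟨v, hv, hvs⟩ := htest g
  have h1 := memLocalIdeal_sub (h' v hv) (h v hv)
  have h2 := memLocalIdeal_mul_left (memLocalRing_natCast_inv S.hM hs) h1
  have hs0 : (s : ℂ) ≠ 0 := by
    intro h0
    have : s = 0 := by exact_mod_cast h0
    exact hs (this ▸ dvd_zero p)
  have e : (s : ℂ)⁻¹ * (omega ψ v - t' * aug v - (omega ψ v - t * aug v)) = t - t' := by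
    rw [hvs]; field_simp; ring
  rwa [e] at h2

theorem Setup.rel_congr (S : Setup p M N ψ) {g : G} {t t' : ℂ} (h : Rel M N ψ g t)
    (h' : MemLocalIdeal M (t - t')) : Rel M N ψ g t' := by
  haveI := isPrime_of_isPModular S.hM
  have hne := ne_top_of_isPModular S.hM
  intro f hf
  have h1 := memLocalIdeal_add (h f hf) (memLocalIdeal_mul_right h' (aug_ring hne hf))
  have e : omega ψ f - t * aug f + (t - t') * aug f = omega ψ f - t' * aug f := by ring
  rwa [e] at h1

theorem Setup.rel_mul (S : Setup p M N ψ) {g h : G} {t t' : ℂ} (ht : MemLocalRing M t)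
    (hr : Rel M N ψ g t) (hr' : Rel M N ψ h t') : Rel M N ψ (g * h) (t * t') := by
  haveI := isPrime_of_isPModular S.hM
  have hne := ne_top_of_isPModular S.hM
  obtain ⟨s, hs, htest⟩ := S.test
  obtain ⟨v, hv, hvs⟩ := htest g
  obtain ⟨w, hw, hws⟩ := htest h
  obtain ⟨t'', -, -, hr''⟩ := S.rel_exists (g * h)
  apply S.rel_congr hr''
  have hsR : MemLocalRing M (s : ℂ) := memLocalRing_natCast hne s
  have h1 := hr'' _ (hv.conv hw)
  rw [S.conv hv hw, aug_conv, hvs, hws] at h1
  have h2 := hr v hv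
  have h3 := hr' w hw
  rw [hvs] at h2
  rw [hws] at h3
  have h4 := memLocalIdeal_add (memLocalIdeal_mul_right h2 (S.ring hw))
    (memLocalIdeal_mul_left (memLocalRing_mul ht hsR) h3)
  have h5 := memLocalIdeal_sub h4 h1
  have hinv := memLocalRing_natCast_inv S.hM hs
  have h6 := memLocalIdeal_mul_left (memLocalRing_mul hinv hinv) h5
  have hs0 : (s : ℂ) ≠ 0 := by
    intro h0
    have : s = 0 := by exact_mod_cast h0
    exact hs (this ▸ dvd_zero p)
  have e : (s : ℂ)⁻¹ * (s : ℂ)⁻¹ * ((omega ψ v - t * s) * omega ψ w + t * s * (omega ψ w - t' * s) -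
      (omega ψ v * omega ψ w - t'' * (s * s))) = t'' - t * t' := by
    field_simp
    ring
  rwa [e] at h6

theorem Setup.rel_of_mem (S : Setup p M N ψ) {n : G} (hn : n ∈ N) : Rel M N ψ n 1 := by
  intro f hf
  rw [one_mul]
  exact S.one (hf.of_coset (by simpa using hn))

theorem Setup.exists_root (S : Setup p M N ψ) (g : G) : ∃ ζ, IsPRoot p ζ ∧ Rel M N ψ g ζ := by
  obtain ⟨t, ht, ht', hr⟩ := S.rel_exists g
  obtain ⟨ζ, hζ, hζ'⟩ := exists_pRoot S.hM ht ht'
  exact ⟨ζ, hζ, S.rel_congr hr hζ'⟩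

/-- the linear character -/
theorem Setup.exists_hom (S : Setup p M N ψ) : ∃ l : G →* ℂˣ, (∀ n ∈ N, l n = 1) ∧
    (∀ g, IsPRoot p (l g : ℂ)) ∧ ∀ g, Rel M N ψ g (l g : ℂ) := by
  have hne := ne_top_of_isPModular S.hM
  choose μ hμ1 hμ2 using S.exists_root
  have hmul : ∀ g h, μ (g * h) = μ g * μ h := by
    intro g h
    apply pRoot_unique S.hM (hμ1 _) ((hμ1 g).mul (hμ1 h))
    exact S.rel_unique (hμ2 _)
      (S.rel_mul (memLocalRing_of_isIntegral hne (hμ1 g).isIntegral) (hμ2 g) (hμ2 h))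
  have hone : ∀ n ∈ N, μ n = 1 := by
    intro n hn
    apply pRoot_unique S.hM (hμ1 _) (IsPRoot.one p)
    exact S.rel_unique (hμ2 _) (S.rel_of_mem hn)
  let l : G →* ℂˣ :=
    { toFun := fun g => Units.mk0 (μ g) (hμ1 g).ne_zero
      map_one' := Units.ext (hone 1 N.one_mem)
      map_mul' := fun g h => Units.ext (hmul g h) }
  exact ⟨l, fun n hn => Units.ext (hone n hn), fun g => hμ1 g, fun g => hμ2 g⟩

end Cfsg.Agent.Lib.Helper2.GrCent
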