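import Mathlib
import Cfsg.Agent.Lib.Helper2.GlauOver
import Cfsg.Agent.Lib.Helper2.OddIdx
import Cfsg.Agent.Lib.Helper10.InvOver2
import Cfsg.Agent.Lib.Helper10.CliffCorr
import Cfsg.Agent.H6.Gallagher
import Cfsg.Agent.H25.Codeg2

/-!
# Relative induction, Clifford correspondence and Gallagher correspondence for subgroups of an
ambient group
-/

set_option autoImplicit false

namespace Cfsg.Agent.Lib.Helper2

open Cfsg Cfsg.Agent.CharLib Cfsg.Agent.CharLib.H2 Cfsg.Agent.Lib.Helper10 Finset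
open scoped ComplexConjugate

universe u

variable {Γ : Type u} [Group Γ]

section ind

variable {A B : Subgroup Γ}

/-- induction from `A` to `B` for subgroups `A ≤ B` of the ambient group -/
noncomputable def indTo [Fintype B] (hAB : A ≤ B) (τ : A → ℂ) : B → ℂ :=
  indFun (A.subgroupOf B) (resSub A B τ)

theorem isCharacter_indTo [Fintype B] (hAB : A ≤ B) {τ : A → ℂ} (hτ : IsCharacter A τ) :
    IsCharacter B (indTo hAB τ) :=
  isCharacter_indFun _ (isCharacter_comp hτ (Subgroup.subgroupOfEquivOfLe hAB).toMonoidHom)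

theorem frob [Fintype A] [Fintype B] (hAB : A ≤ B) (τ : A → ℂ) {χ : B → ℂ}
    (hχ : IsClassFunction B χ) :
    classInner (indTo hAB τ) χ = classInner τ (resTo hAB χ) := by
  haveI : Fintype (A.subgroupOf B) := Fintype.ofFinite _
  rw [indTo, frobenius_reciprocity (A.subgroupOf B) _ hχ]
  exact H6.classInner_comp_mulEquiv (Subgroup.subgroupOfEquivOfLe hAB) τ (resTo hAB χ)

theorem frob' [Fintype A] [Fintype B] (hAB : A ≤ B) (τ : A → ℂ) {χ : B → ℂ}
    (hχ : IsClassFunction B χ) :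
    classInner χ (indTo hAB τ) = classInner (resTo hAB χ) τ := by
  rw [← classInner_conj_symm, frob hAB τ hχ, classInner_conj_symm]

theorem indTo_conj [Fintype B] {S : Subgroup Γ} (hA : Nrm A S) (hB : Nrm B S) (hAB : A ≤ B) (s : S)
    (τ : A → ℂ) (b : B) :
    indTo hAB (fun a => τ ((cjEquiv hA s).symm a)) b = indTo hAB τ ((cjEquiv hB s).symm b) := by
  simp only [indTo, indFun_apply]
  congr 1
  rw [← Equiv.sum_comp (cjEquiv hB s).symm.toEquiv
    (fun y : B => extendByZero (A.subgroupOf B) (resSub A B τ) (y⁻¹ * (cjEquiv hB s).symm b * y))]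
  refine Finset.sum_congr rfl fun y _ => ?_
  simp only [MulEquiv.toEquiv_eq_coe, MulEquiv.coe_toEquiv]
  rw [← map_inv, ← map_mul, ← map_mul]
  set z : B := y⁻¹ * b * y with hz
  by_cases hmem : z ∈ A.subgroupOf B
  · have hmem' : (cjEquiv hB s).symm z ∈ A.subgroupOf B := by
      rw [Subgroup.mem_subgroupOf, cjEquiv_symm_coe]
      have := hA (s : Γ)⁻¹ (S.inv_mem s.2) z (Subgroup.mem_subgroupOf.mp hmem)
      simpa using this
    rw [extendByZero_of_mem _ _ hmem, extendByZero_of_mem _ _ hmem']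
    rfl
  · have hmem' : (cjEquiv hB s).symm z ∉ A.subgroupOf B := by
      intro h
      apply hmem
      rw [Subgroup.mem_subgroupOf] at h ⊢
      rw [cjEquiv_symm_coe] at h
      have := hA (s : Γ) s.2 _ h
      simpa [mul_assoc] using this
    rw [extendByZero_of_not_mem _ _ hmem, extendByZero_of_not_mem _ _ hmem']

end ind

section cliff

variable {Q T K : Subgroup Γ}

/-- the relative Clifford correspondence -/
theorem rel_cliff [Fintype K] [Fintype T] [Fintype Q] (hQT : Q ≤ T) (hTK : T ≤ K) (hn : Nrm Q K)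
    {φ : Q → ℂ} (hφ : IsIrrCharacter Q φ)
    (hT : ∀ k ∈ K, k ∈ T ↔ ∀ q q' : Q, (q' : Γ) = k * q * k⁻¹ → φ q' = φ q)
    {τ τ' : T → ℂ} (hτ : IsIrrCharacter T τ) (hτ' : IsIrrCharacter T τ')
    (hc : classInner (resTo hQT τ) φ ≠ 0) (hc' : classInner (resTo hQT τ') φ ≠ 0) :
    IsIrrCharacter K (indTo hTK τ) ∧
      (τ ≠ τ' → classInner (indTo hTK τ) (indTo hTK τ') = 0) := by
  classical
  have hQK : Q ≤ K := hQT.trans hTK
  have hN : (Q.subgroupOf K).Normal := by
    refine ⟨fun n hn' g => ?_⟩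
    exact Subgroup.mem_subgroupOf.mpr (hn g g.2 n (Subgroup.mem_subgroupOf.mp hn'))
  haveI : Fintype (T.subgroupOf K) := Fintype.ofFinite _
  have hHT : Q.subgroupOf K ≤ T.subgroupOf K := fun x hx =>
    Subgroup.mem_subgroupOf.mpr (hQT (Subgroup.mem_subgroupOf.mp hx))
  haveI : Fintype ((Q.subgroupOf K).subgroupOf (T.subgroupOf K)) := Fintype.ofFinite _
  let e : ((Q.subgroupOf K).subgroupOf (T.subgroupOf K)) ≃* Q :=
    (Subgroup.subgroupOfEquivOfLe hHT).trans (Subgroup.subgroupOfEquivOfLe hQK)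
  have hconv : ∀ {σ : T → ℂ}, IsIrrCharacter T σ → classInner (resTo hQT σ) φ ≠ 0 →
      classInner (indFun ((Q.subgroupOf K).subgroupOf (T.subgroupOf K))
        (resSub (Q.subgroupOf K) (T.subgroupOf K) (resSub Q K φ))) (resSub T K σ) ≠ 0 := by
    intro σ hσ hne
    rw [frobenius_reciprocity _ _ (isClassFunction_of_irr (isIrrCharacter_resSub hTK hσ))]
    have h1 := H6.classInner_comp_mulEquiv e φ (resTo hQT σ)
    have h2 : classInner (resSub (Q.subgroupOf K) (T.subgroupOf K) (resSub Q K φ))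
        (fun h : ((Q.subgroupOf K).subgroupOf (T.subgroupOf K)) => resSub T K σ h) =
        classInner φ (resTo hQT σ) := h1
    rw [h2, ← classInner_conj_symm]
    exact (map_ne_zero _).mpr hne
  have hT' : ∀ g : K, g ∈ T.subgroupOf K ↔ H2.conjFun hN (resSub Q K φ) g = resSub Q K φ := by
    intro g
    rw [Subgroup.mem_subgroupOf, hT g g.2]
    constructor
    · intro h
      funext x
      exact h ⟨((x : K) : Γ), Subgroup.mem_subgroupOf.mp x.2⟩ _ rfl
    · intro h q q' hq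
      have h1 := congrFun h ⟨⟨q, hQK q.2⟩, Subgroup.mem_subgroupOf.mpr q.2⟩
      rw [← show φ q = resSub Q K φ ⟨⟨q, hQK q.2⟩, Subgroup.mem_subgroupOf.mpr q.2⟩ from rfl] at h1
      rw [← h1]
      refine congrArg φ (Subtype.ext ?_)
      rw [hq]
      rfl
  have key := clifford_corr (Q.subgroupOf K) (T.subgroupOf K) hN (resSub Q K φ)
    (isIrrCharacter_resSub hQK hφ) hT' hHT (resSub T K τ) (resSub T K τ')
    (isIrrCharacter_resSub hTK hτ) (isIrrCharacter_resSub hTK hτ') (hconv hτ hc) (hconv hτ' hc')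
  refine ⟨key.1, fun hne => key.2 ?_⟩
  intro h
  apply hne
  funext t
  exact congrFun h ⟨⟨t, hTK t.2⟩, Subgroup.mem_subgroupOf.mpr t.2⟩

end cliff

section gall

variable {Q T : Subgroup Γ}

/-- `β` is constant on `Q` -/
def QK (Q T : Subgroup Γ) (β : T → ℂ) : Prop := ∀ t : T, (t : Γ) ∈ Q → β t = β 1

/-- the relative Gallagher correspondence -/
theorem rel_gall [Fintype T] [Fintype Q] (hQT : Q ≤ T) (hn : Nrm Q T) {φh : T → ℂ}
    (hφh : IsIrrCharacter T φh) (hres : IsIrrCharacter Q (resTo hQT φh)) :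
    Set.BijOn (fun β : T → ℂ => β * φh) {β | IsIrrCharacter T β ∧ QK Q T β}
      {ψ | IsIrrCharacter T ψ ∧ classInner (resTo hQT ψ) (resTo hQT φh) ≠ 0} := by
  classical
  haveI hN : (Q.subgroupOf T).Normal := by
    refine ⟨fun n hn' g => ?_⟩
    exact Subgroup.mem_subgroupOf.mpr (hn g g.2 n (Subgroup.mem_subgroupOf.mp hn'))
  haveI : Fintype (Q.subgroupOf T) := Fintype.ofFinite _
  have hχN : IsIrrCharacter (Q.subgroupOf T) (fun n : Q.subgroupOf T => φh n) :=
    isIrrCharacter_resSub hQT hres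
  have key := H6.gallagher (Q.subgroupOf T) hφh hχN
  have hs1 : {β : T → ℂ | IsIrrCharacter T β ∧
      classInner (indFun (Q.subgroupOf T) (fun _ => (1 : ℂ))) β ≠ 0} =
      {β | IsIrrCharacter T β ∧ QK Q T β} := by
    ext β
    simp only [Set.mem_setOf_eq]
    refine and_congr_right fun hβ => ?_
    constructor
    · intro hne t ht
      exact const_of_over_one (Q.subgroupOf T) hβ hne ⟨t, Subgroup.mem_subgroupOf.mpr ht⟩
    · intro hq
      rw [frobenius_reciprocity _ _ (isClassFunction_of_irr hβ), classInner]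
      have h1 : ∀ n : Q.subgroupOf T, (1 : ℂ) * conj (β n) = conj (β 1) := by
        intro n
        rw [one_mul, hq n (Subgroup.mem_subgroupOf.mp n.2)]
      rw [Finset.sum_congr rfl (fun n _ => h1 n), Finset.sum_const, Finset.card_univ,
        ← Nat.card_eq_fintype_card, nsmul_eq_mul, ← mul_assoc,
        inv_mul_cancel₀ (by exact_mod_cast Nat.card_pos.ne'), one_mul]
      obtain ⟨n, hn0, hn1⟩ := irr_apply_one_nat ⟨β, hβ⟩
      change β 1 = n at hn1
      rw [hn1, Complex.conj_natCast]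
      exact_mod_cast hn0.ne'
  have hs2 : {ψ : T → ℂ | IsIrrCharacter T ψ ∧
      classInner (indFun (Q.subgroupOf T) (fun n : Q.subgroupOf T => φh n)) ψ ≠ 0} =
      {ψ | IsIrrCharacter T ψ ∧ classInner (resTo hQT ψ) (resTo hQT φh) ≠ 0} := by
    ext ψ
    simp only [Set.mem_setOf_eq]
    refine and_congr_right fun hψ => ?_
    rw [frobenius_reciprocity _ _ (isClassFunction_of_irr hψ)]
    have h1 := H6.classInner_comp_mulEquiv (Subgroup.subgroupOfEquivOfLe hQT) (resTo hQT φh)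
      (resTo hQT ψ)
    have h2 : classInner (fun n : Q.subgroupOf T => φh n) (fun n : Q.subgroupOf T => ψ n) =
        classInner (resTo hQT φh) (resTo hQT ψ) := h1
    rw [h2, ← classInner_conj_symm (resTo hQT ψ)]
    exact (map_ne_zero _)
  rw [hs1, hs2] at key
  exact key

/-- an irreducible character constant on the kernel of a surjection factors through it -/
theorem exists_of_ker {A B : Type u} [Group A] [Finite A] [Group B] (f : A →* B)
    (hf : Function.Surjective f) (β : IrrCharacter A)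
    (hβ : ∀ a : A, f a = 1 → (β : A → ℂ) a = (β : A → ℂ) 1) :
    ∃ γ : IrrCharacter B, ∀ a, (γ : B → ℂ) (f a) = (β : A → ℂ) a := by
  obtain ⟨χ', hχ'⟩ := Cfsg.Agent.H25.exists_quotient_irr β f.ker (fun x hx => hβ x hx)
  let e := QuotientGroup.quotientKerEquivOfSurjective f hf
  refine ⟨⟨fun b => (χ' : A ⧸ f.ker → ℂ) (e.symm b),
    isIrrCharacter_comp_of_surjective χ'.2 e.symm.toMonoidHom e.symm.surjective⟩, fun a => ?_⟩
  change (χ' : A ⧸ f.ker → ℂ) (e.symm (f a)) = _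
  have : e.symm (f a) = QuotientGroup.mk a := (MulEquiv.symm_apply_eq e).mpr rfl
  rw [this, hχ']

end gall

/-- the data of a Clifford–Gallagher parametrisation of the characters of `K` over `φ` -/
structure CG (K T Q : Subgroup Γ) {B : Type u} [Group B] (φ : IrrCharacter Q) (φh : IrrCharacter T)
    (f : T →* B) : Prop where
  hQT : Q ≤ T
  hTK : T ≤ K
  hn : Nrm Q K
  hT : ∀ k ∈ K, k ∈ T ↔ ∀ q q' : Q, (q' : Γ) = k * q * k⁻¹ → (φ : Q → ℂ) q' = (φ : Q → ℂ) q
  hext : ∀ q : Q, (φh : T → ℂ) ⟨q, hQT q.2⟩ = (φ : Q → ℂ) q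
  hf : Function.Surjective f
  hker : ∀ t : T, f t = 1 ↔ (t : Γ) ∈ Q

namespace CG

variable {K T Q : Subgroup Γ} {B : Type u} [Group B] {φ : IrrCharacter Q} {φh : IrrCharacter T}
  {f : T →* B} [Fintype K] [Fintype T] [Fintype Q]

theorem res_eq (h : CG K T Q φ φh f) : resTo h.hQT (φh : T → ℂ) = (φ : Q → ℂ) := funext h.hext

theorem gall (h : CG K T Q φ φh f) :
    Set.BijOn (fun β : T → ℂ => β * (φh : T → ℂ)) {β | IsIrrCharacter T β ∧ QK Q T β}
      {ψ | IsIrrCharacter T ψ ∧ classInner (resTo h.hQT ψ) (φ : Q → ℂ) ≠ 0} := by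
  have := rel_gall h.hQT (fun t ht => h.hn t (h.hTK ht)) φh.2 (by rw [h.res_eq]; exact φ.2)
  rwa [h.res_eq] at this

theorem infl_mem (h : CG K T Q φ φh f) (γ : IrrCharacter B) :
    (fun t => (γ : B → ℂ) (f t)) ∈ {β : T → ℂ | IsIrrCharacter T β ∧ QK Q T β} := by
  refine ⟨isIrrCharacter_comp_of_surjective γ.2 f h.hf, fun t ht => ?_⟩
  change (γ : B → ℂ) (f t) = (γ : B → ℂ) (f 1)
  rw [(h.hker t).mpr ht, map_one]

/-- the character of `T` attached to a character of the quotient -/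
noncomputable def mid (h : CG K T Q φ φh f) (γ : IrrCharacter B) : IrrCharacter T :=
  ⟨fun t => (γ : B → ℂ) (f t) * (φh : T → ℂ) t, (h.gall.mapsTo (h.infl_mem γ)).1⟩

theorem mid_apply (h : CG K T Q φ φh f) (γ : IrrCharacter B) (t : T) :
    (h.mid γ : T → ℂ) t = (γ : B → ℂ) (f t) * (φh : T → ℂ) t := rfl

theorem mid_over (h : CG K T Q φ φh f) (γ : IrrCharacter B) :
    classInner (resTo h.hQT (h.mid γ : T → ℂ)) (φ : Q → ℂ) ≠ 0 :=
  (h.gall.mapsTo (h.infl_mem γ)).2

theorem mid_inj (h : CG K T Q φ φh f) {γ γ' : IrrCharacter B} (he : h.mid γ = h.mid γ') :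
    γ = γ' := by
  have h1 := h.gall.injOn (h.infl_mem γ) (h.infl_mem γ') (congrArg Subtype.val he)
  apply Subtype.ext
  funext b
  obtain ⟨t, rfl⟩ := h.hf b
  exact congrFun h1 t

theorem mid_surj (h : CG K T Q φ φh f) (ψ : IrrCharacter T)
    (hψ : classInner (resTo h.hQT (ψ : T → ℂ)) (φ : Q → ℂ) ≠ 0) : ∃ γ, h.mid γ = ψ := by
  obtain ⟨β, ⟨hβ1, hβ2⟩, hβ3⟩ := h.gall.surjOn (show (ψ : T → ℂ) ∈ _ from ⟨ψ.2, hψ⟩)
  obtain ⟨γ, hγ⟩ := exists_of_ker f h.hf ⟨β, hβ1⟩ (fun a ha => hβ2 a ((h.hker a).mp ha))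
  refine ⟨γ, Subtype.ext ?_⟩
  rw [← hβ3]
  funext t
  rw [mid_apply, hγ]
  rfl

theorem cliff (h : CG K T Q φ φh f) {τ τ' : IrrCharacter T}
    (hc : classInner (resTo h.hQT (τ : T → ℂ)) (φ : Q → ℂ) ≠ 0)
    (hc' : classInner (resTo h.hQT (τ' : T → ℂ)) (φ : Q → ℂ) ≠ 0) :
    IsIrrCharacter K (indTo h.hTK (τ : T → ℂ)) ∧
      (τ ≠ τ' → classInner (indTo h.hTK (τ : T → ℂ)) (indTo h.hTK (τ' : T → ℂ)) = 0) := by
  have := rel_cliff h.hQT h.hTK h.hn φ.2 h.hT τ.2 τ'.2 hc hc'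
  exact ⟨this.1, fun hne => this.2 (fun he => hne (Subtype.ext he))⟩

/-- the character of `K` attached to a character of the quotient -/
noncomputable def Phi (h : CG K T Q φ φh f) (γ : IrrCharacter B) : IrrCharacter K :=
  ⟨indTo h.hTK (h.mid γ : T → ℂ), (h.cliff (h.mid_over γ) (h.mid_over γ)).1⟩

theorem Phi_coe (h : CG K T Q φ φh f) (γ : IrrCharacter B) :
    (h.Phi γ : K → ℂ) = indTo h.hTK (h.mid γ : T → ℂ) := rfl

theorem Phi_res_mid (h : CG K T Q φ φh f) (γ : IrrCharacter B) :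
    classInner (resTo h.hTK (h.Phi γ : K → ℂ)) (h.mid γ : T → ℂ) = 1 := by
  rw [← frob' h.hTK _ (isClassFunction_of_irr (h.Phi γ).2), ← Phi_coe,
    classInner_irr_self (h.Phi γ).2]

theorem Phi_over (h : CG K T Q φ φh f) (γ : IrrCharacter B) :
    classInner (resTo (h.hQT.trans h.hTK) (h.Phi γ : K → ℂ)) (φ : Q → ℂ) ≠ 0 :=
  over_trans h.hQT h.hTK (h.Phi γ) (h.mid γ) φ (by rw [h.Phi_res_mid]; exact one_ne_zero)
    (h.mid_over γ)

theorem Phi_inj (h : CG K T Q φ φh f) {γ γ' : IrrCharacter B} (he : h.Phi γ = h.Phi γ') :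
    γ = γ' := by
  by_contra hne
  have h1 := (h.cliff (h.mid_over γ) (h.mid_over γ')).2 (fun h2 => hne (h.mid_inj h2))
  rw [← Phi_coe, ← Phi_coe, he, classInner_irr_self (h.Phi γ').2] at h1
  exact one_ne_zero h1

theorem Phi_surj (h : CG K T Q φ φh f) (χ : IrrCharacter K)
    (hχ : classInner (resTo (h.hQT.trans h.hTK) (χ : K → ℂ)) (φ : Q → ℂ) ≠ 0) :
    ∃ γ, h.Phi γ = χ := by
  rw [classInner_resTo_trans h.hQT h.hTK χ φ] at hχ
  obtain ⟨τ, -, hτ⟩ := Finset.exists_ne_zero_of_sum_ne_zero hχ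
  have h1 := left_ne_zero_of_mul hτ
  have h2 := right_ne_zero_of_mul hτ
  obtain ⟨γ, rfl⟩ := h.mid_surj τ h2
  refine ⟨γ, ?_⟩
  by_contra hne
  apply h1
  rw [← frob' h.hTK _ (isClassFunction_of_irr χ.2), ← Phi_coe]
  exact classInner_irr_ne χ.2 (h.Phi γ).2 (fun he => hne (Subtype.ext he.symm))

/-- the multiplicity formula -/
theorem mult {C D : Subgroup Γ} {B₂ : Type u} [Group B₂] [Fintype B₂] {φhD : IrrCharacter D}
    {f₂ : D →* B₂} [Fintype C] [Fintype D]
    (h₁ : CG K T Q φ φh f) (h₂ : CG C D Q φ φhD f₂) (hCK : C ≤ K) (hDT : D ≤ T)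
    (hφD : ∀ d : D, (φhD : D → ℂ) d = (φh : T → ℂ) ⟨d, hDT d.2⟩)
    (ι : B₂ →* B) (hι : ∀ d : D, f ⟨d, hDT d.2⟩ = ι (f₂ d))
    (γ : IrrCharacter B) (β : IrrCharacter B₂) :
    classInner (resTo hCK (h₁.Phi γ : K → ℂ)) (h₂.Phi β : C → ℂ) =
      classInner (fun b => (γ : B → ℂ) (ι b)) (β : B₂ → ℂ) := by
  classical
  rw [h₂.Phi_coe, frob' h₂.hTK _ (isClassFunction_resTo hCK (isClassFunction_of_irr (h₁.Phi γ).2))]
  have e1 : resTo h₂.hTK (resTo hCK (h₁.Phi γ : K → ℂ)) =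
      resTo (hDT.trans h₁.hTK) (h₁.Phi γ : K → ℂ) := rfl
  rw [e1, classInner_resTo_trans hDT h₁.hTK (h₁.Phi γ) (h₂.mid β),
    Finset.sum_eq_single (h₁.mid γ), h₁.Phi_res_mid, one_mul]
  · -- the restriction of `mid γ`
    obtain ⟨m, hm, hm'⟩ := exists_mult (isCharacter_comp (isCharacter_of_irr γ.2) ι)
    have e2 : resTo hDT (h₁.mid γ : T → ℂ) =
        ∑ β₁ : IrrCharacter B₂, (m β₁ : ℂ) • (h₂.mid β₁ : D → ℂ) := by
      funext d
      rw [resTo_apply, mid_apply, hι, ← hφD]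
      have := congrFun hm (f₂ d)
      rw [this]
      simp only [Finset.sum_apply, Pi.smul_apply, smul_eq_mul, mid_apply, Finset.sum_mul, mul_assoc]
    rw [e2, classInner_sum_left, Finset.sum_eq_single β, classInner_smul_left,
      classInner_irr_self (h₂.mid β).2, mul_one, hm']
    · intro β₁ _ hne
      rw [classInner_smul_left, classInner_irr_ne (h₂.mid β₁).2 (h₂.mid β).2
        (fun he => hne (h₂.mid_inj (Subtype.ext he))), mul_zero]
    · intro h; exact absurd (Finset.mem_univ _) h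
  · intro τ' _ hne
    by_contra hprod
    have h1 := left_ne_zero_of_mul hprod
    have h2 := right_ne_zero_of_mul hprod
    have hov : classInner (resTo h₁.hQT (τ' : T → ℂ)) (φ : Q → ℂ) ≠ 0 :=
      over_trans h₂.hQT hDT τ' (h₂.mid β) φ h2 (h₂.mid_over β)
    have h3 := (h₁.cliff (h₁.mid_over γ) hov).2 (fun he => hne he.symm)
    rw [← Phi_coe, frob' h₁.hTK _ (isClassFunction_of_irr (h₁.Phi γ).2)] at h3
    exact h1 h3
  · intro h; exact absurd (Finset.mem_univ _) h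

/-- equivariance -/
theorem Phi_conj (h : CG K T Q φ φh f) {S : Subgroup Γ} (hK : Nrm K S) (hT : Nrm T S)
    (hφh : SInv T S (φh : T → ℂ)) (s : S) {γ γ' : IrrCharacter B}
    (hγ : ∀ t : T, (γ' : B → ℂ) (f t) = (γ : B → ℂ) (f ((cjEquiv hT s).symm t))) :
    h.Phi γ' = irrConj hK s (h.Phi γ) := by
  apply Subtype.ext
  funext k
  rw [irrConj_apply, Phi_coe, Phi_coe, ← indTo_conj hT hK h.hTK s]
  congr 1
  funext t
  rw [mid_apply, mid_apply, hγ, hφh.apply_cjEquiv_symm hT s t]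

end CG

end Cfsg.Agent.Lib.Helper2
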