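import Mathlib
import Cfsg.Agent.Lib.Helper2.RelGlau1
import Cfsg.Agent.S4444

/-!
# The quotient `N(Q)/Q` and the Glauberman correspondence for `T/Q`
-/

set_option autoImplicit false

namespace Cfsg.Agent.Lib.Helper2

open Cfsg Cfsg.Agent.CharLib Finset
open scoped ComplexConjugate

universe u

variable {Γ : Type u} [Group Γ] (Q : Subgroup Γ)

/-- the quotient `N(Q)/Q` -/
abbrev QG : Type u :=
  ↥(Subgroup.normalizer (Q : Set Γ)) ⧸ (Q.subgroupOf (Subgroup.normalizer (Q : Set Γ)))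

variable {Q}

theorem le_NQ {A : Subgroup Γ} (h : Nrm Q A) : A ≤ Subgroup.normalizer (Q : Set Γ) := by
  intro a ha
  rw [Subgroup.mem_normalizer_iff]
  intro q
  refine ⟨fun hq => h a ha q hq, fun hq => ?_⟩
  have := h a⁻¹ (A.inv_mem ha) _ hq
  simpa [mul_assoc] using this

/-- the image in `N(Q)/Q` -/
def qe (g : Γ) (hg : g ∈ Subgroup.normalizer (Q : Set Γ)) : QG Q := QuotientGroup.mk ⟨g, hg⟩

theorem qe_mul {g g' : Γ} (hg : g ∈ Subgroup.normalizer (Q : Set Γ))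
    (hg' : g' ∈ Subgroup.normalizer (Q : Set Γ)) :
    qe g hg * qe g' hg' = qe (g * g') (Subgroup.mul_mem _ hg hg') := rfl

theorem qe_inv {g : Γ} (hg : g ∈ Subgroup.normalizer (Q : Set Γ)) :
    (qe g hg)⁻¹ = qe g⁻¹ (Subgroup.inv_mem _ hg) := rfl

theorem qe_eq_one_iff {g : Γ} (hg : g ∈ Subgroup.normalizer (Q : Set Γ)) :
    qe g hg = 1 ↔ g ∈ Q := by
  rw [qe, QuotientGroup.eq_one_iff, Subgroup.mem_subgroupOf]

theorem qe_congr {g g' : Γ} (hg : g ∈ Subgroup.normalizer (Q : Set Γ)) (h : g = g') :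
    qe g hg = qe g' (h ▸ hg) := by subst h; rfl

/-- the homomorphism from a subgroup normalising `Q` -/
def qh {A : Subgroup Γ} (h : Nrm Q A) : A →* QG Q :=
  (QuotientGroup.mk' _).comp (Subgroup.inclusion (le_NQ h))

theorem qh_apply {A : Subgroup Γ} (h : Nrm Q A) (a : A) : qh h a = qe (a : Γ) (le_NQ h a.2) := rfl

theorem qh_eq_one_iff {A : Subgroup Γ} (h : Nrm Q A) (a : A) : qh h a = 1 ↔ (a : Γ) ∈ Q := by
  rw [qh_apply, qe_eq_one_iff]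

theorem card_range_qh {A : Subgroup Γ} (h : Nrm Q A) : Nat.card (qh h).range = Q.relIndex A := by
  rw [← Subgroup.index_ker, Subgroup.relIndex]
  congr 1
  ext a
  rw [MonoidHom.mem_ker, qh_eq_one_iff, Subgroup.mem_subgroupOf]

/-- the standing hypotheses -/
structure RQ (T D Q P : Subgroup Γ) (p : ℕ) : Prop where
  hQT : Q ≤ T
  hnT : Nrm Q T
  hnP : Nrm Q P
  hTP : Nrm T P
  hP : IsPGroup p P
  hidx : ¬ p ∣ Q.relIndex T
  hD : ∀ t, t ∈ D ↔ t ∈ T ∧ ∀ x ∈ P, x * t * x⁻¹ * t⁻¹ ∈ Q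

namespace RQ

variable {T D P : Subgroup Γ} {p : ℕ}

/-- the image of `T` -/
def T' (h : RQ T D Q P p) : Subgroup (QG Q) := (qh h.hnT).range

/-- the image of `P` -/
def S' (h : RQ T D Q P p) : Subgroup (QG Q) := (qh h.hnP).range

/-- the fixed points -/
def C' (h : RQ T D Q P p) : Subgroup (QG Q) := h.T' ⊓ Subgroup.centralizer (h.S' : Set (QG Q))

theorem hDT (h : RQ T D Q P p) : D ≤ T := fun d hd => ((h.hD d).mp hd).1

theorem hC'T' (h : RQ T D Q P p) : h.C' ≤ h.T' := inf_le_left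

theorem mem_cent_iff (h : RQ T D Q P p) (t : T) :
    qh h.hnT t ∈ Subgroup.centralizer (h.S' : Set (QG Q)) ↔ (t : Γ) ∈ D := by
  rw [h.hD, Subgroup.mem_centralizer_iff]
  constructor
  · intro hc
    refine ⟨t.2, fun x hx => ?_⟩
    have h1 := hc (qh h.hnP ⟨x, hx⟩) ⟨⟨x, hx⟩, rfl⟩
    rw [qh_apply, qh_apply, qe_mul, qe_mul] at h1
    have h2 : qe (x * t) (Subgroup.mul_mem _ (le_NQ h.hnP hx) (le_NQ h.hnT t.2)) *
        (qe ((t : Γ) * x) (Subgroup.mul_mem _ (le_NQ h.hnT t.2) (le_NQ h.hnP hx)))⁻¹ = 1 := by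
      rw [h1]; exact mul_inv_cancel _
    rw [qe_inv, qe_mul, qe_eq_one_iff] at h2
    have h3 : x * t * ((t : Γ) * x)⁻¹ = x * t * x⁻¹ * (t : Γ)⁻¹ := by group
    rwa [h3] at h2
  · rintro ⟨-, hc⟩ s ⟨x, rfl⟩
    have h2 := hc x x.2
    rw [qh_apply, qh_apply, qe_mul, qe_mul]
    have h3 : qe ((x : Γ) * t) (Subgroup.mul_mem _ (le_NQ h.hnP x.2) (le_NQ h.hnT t.2)) *
        (qe ((t : Γ) * x) (Subgroup.mul_mem _ (le_NQ h.hnT t.2) (le_NQ h.hnP x.2)))⁻¹ = 1 := by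
      rw [qe_inv, qe_mul, qe_eq_one_iff]
      have h3 : (x : Γ) * t * ((t : Γ) * x)⁻¹ = x * t * (x : Γ)⁻¹ * (t : Γ)⁻¹ := by group
      rwa [h3]
    exact mul_inv_eq_one.mp h3

/-- the surjection `T → T'` -/
def fT (h : RQ T D Q P p) : T →* h.T' := (qh h.hnT).rangeRestrict

theorem fT_coe (h : RQ T D Q P p) (t : T) : ((h.fT t : h.T') : QG Q) = qh h.hnT t := rfl

theorem fT_surj (h : RQ T D Q P p) : Function.Surjective h.fT :=
  MonoidHom.rangeRestrict_surjective _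

theorem fT_ker (h : RQ T D Q P p) (t : T) : h.fT t = 1 ↔ (t : Γ) ∈ Q := by
  rw [← qh_eq_one_iff h.hnT t, ← h.fT_coe t, Subtype.ext_iff]
  rfl

/-- the surjection `D → C'` -/
def fD (h : RQ T D Q P p) : D →* h.C' :=
  MonoidHom.codRestrict ((qh h.hnT).comp (Subgroup.inclusion h.hDT)) h.C' (fun d =>
    Subgroup.mem_inf.mpr ⟨⟨_, rfl⟩, (h.mem_cent_iff (Subgroup.inclusion h.hDT d)).mpr d.2⟩)

theorem fD_coe (h : RQ T D Q P p) (d : D) :
    ((h.fD d : h.C') : QG Q) = qh h.hnT ⟨d, h.hDT d.2⟩ := rfl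

theorem fD_surj (h : RQ T D Q P p) : Function.Surjective h.fD := by
  rintro ⟨c, hc⟩
  obtain ⟨⟨t, rfl⟩, hc2⟩ := Subgroup.mem_inf.mp hc
  exact ⟨⟨t, (h.mem_cent_iff t).mp hc2⟩, Subtype.ext rfl⟩

theorem fD_ker (h : RQ T D Q P p) (d : D) : h.fD d = 1 ↔ (d : Γ) ∈ Q := by
  rw [Subtype.ext_iff, fD_coe]
  exact qh_eq_one_iff h.hnT ⟨d, h.hDT d.2⟩

theorem compat (h : RQ T D Q P p) (d : D) :
    h.fT ⟨d, h.hDT d.2⟩ = Subgroup.inclusion h.hC'T' (h.fD d) := Subtype.ext rfl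

theorem nrm' (h : RQ T D Q P p) : Nrm h.T' h.S' := by
  rintro _ ⟨x, rfl⟩ _ ⟨t, rfl⟩
  refine ⟨⟨(x : Γ) * t * (x : Γ)⁻¹, h.hTP x x.2 t t.2⟩, ?_⟩
  rw [qh_apply, qh_apply, qh_apply, qe_inv, qe_mul, qe_mul]

theorem isPGroup_S' (h : RQ T D Q P p) : IsPGroup p h.S' :=
  h.hP.of_surjective (qh h.hnP).rangeRestrict (MonoidHom.rangeRestrict_surjective _)

theorem card_T' (h : RQ T D Q P p) : Nat.card h.T' = Q.relIndex T := card_range_qh h.hnT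

/-- the element of `S'` attached to an element of `P` -/
def sP (h : RQ T D Q P p) (x : P) : h.S' := ⟨qh h.hnP x, ⟨x, rfl⟩⟩

theorem fT_conj (h : RQ T D Q P p) (x : P) (t : T) :
    h.fT ((cjEquiv h.hTP x).symm t) = (cjEquiv h.nrm' (h.sP x)).symm (h.fT t) := by
  apply Subtype.ext
  rw [fT_coe, cjEquiv_symm_coe, fT_coe, qh_apply, qh_apply]
  change _ = (qh h.hnP x)⁻¹ * _ * qh h.hnP x
  rw [qh_apply, qe_inv, qe_mul, qe_mul]
  rfl

theorem sInv_iff (h : RQ T D Q P p) (γ : IrrCharacter h.T') :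
    SInv h.T' h.S' (γ : h.T' → ℂ) ↔ SInv T P (fun t => (γ : h.T' → ℂ) (h.fT t)) := by
  constructor
  · intro hγ x hx t t' ht
    refine hγ (qh h.hnP ⟨x, hx⟩) ⟨_, rfl⟩ _ _ ?_
    rw [fT_coe, fT_coe, qh_apply, qh_apply, qh_apply, qe_inv, qe_mul, qe_mul]
    exact qe_congr _ ht
  · rintro hγ _ ⟨x, rfl⟩ g g' hg
    obtain ⟨t, rfl⟩ := h.fT_surj g
    have h1 := hγ x x.2 t ⟨(x : Γ) * t * (x : Γ)⁻¹, h.hTP x x.2 t t.2⟩ rfl
    beta_reduce at h1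
    rw [← h1]
    refine congrArg (γ : h.T' → ℂ) (Subtype.ext ?_)
    rw [hg, fT_coe, fT_coe, qh_apply, qh_apply, qh_apply, qe_inv, qe_mul, qe_mul]

theorem coprime' (h : RQ T D Q P p) [Fact p.Prime] [Finite Γ] :
    (Nat.card h.T').Coprime (Nat.card h.S') := by
  obtain ⟨k, hk⟩ := IsPGroup.iff_card.mp h.isPGroup_S'
  rw [hk, h.card_T']
  exact Nat.Coprime.pow_right k
    ((Nat.Prime.coprime_iff_not_dvd (Fact.out : p.Prime)).mpr h.hidx).symm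

end RQ

/-- a `p`-group stabilising a coset of `T` in `K` fixes a coset of `Q` in it -/
theorem exists_fixed_coset [Finite Γ] {T K P : Subgroup Γ} {p : ℕ} [Fact p.Prime] (hnK : Nrm Q K)
    (hnP : Nrm Q P) (hTK : T ≤ K) (hP : IsPGroup p P) (hidx : ¬ p ∣ Q.relIndex T) (W : Set Γ)
    (hWK : ∀ y ∈ W, y ∈ K) (y₀ : Γ) (hy₀ : y₀ ∈ W) (hW : ∀ y ∈ K, y ∈ W ↔ y * y₀⁻¹ ∈ T)
    (hst : ∀ y ∈ W, ∀ x ∈ P, x * y * x⁻¹ ∈ W) : ∃ y ∈ W, ∀ x ∈ P, x * y * x⁻¹ * y⁻¹ ∈ Q := by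
  classical
  have hnT : Nrm Q T := fun t ht => hnK t (hTK ht)
  let Z : Type u := {z : QG Q // ∃ y, ∃ hy : y ∈ W, z = qe y (le_NQ hnK (hWK y hy))}
  letI : MulAction P Z :=
    { smul := fun x z => ⟨qh hnP x * z.1 * (qh hnP x)⁻¹, by
        obtain ⟨y, hy, hz⟩ := z.2
        refine ⟨x * y * (x : Γ)⁻¹, hst y hy x x.2, ?_⟩
        rw [hz, qh_apply, qe_inv, qe_mul, qe_mul]⟩
      one_smul := fun z => Subtype.ext (by
        show qh hnP 1 * z.1 * (qh hnP 1)⁻¹ = z.1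
        simp)
      mul_smul := fun a b z => Subtype.ext (by
        show qh hnP (a * b) * z.1 * (qh hnP (a * b))⁻¹ =
          qh hnP a * (qh hnP b * z.1 * (qh hnP b)⁻¹) * (qh hnP a)⁻¹
        rw [map_mul]
        group) }
  have hy₀N := le_NQ hnK (hWK y₀ hy₀)
  have hcard : Nat.card Z = Q.relIndex T := by
    rw [← card_range_qh hnT]
    symm
    refine Nat.card_congr (Equiv.ofBijective (fun t' : (qh hnT).range =>
      (⟨(t' : QG Q) * qe y₀ hy₀N, by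
        obtain ⟨t, ht⟩ := t'.2
        have hK : (t : Γ) * y₀ ∈ K := K.mul_mem (hTK t.2) (hWK y₀ hy₀)
        refine ⟨t * y₀, (hW _ hK).mpr (by simpa using t.2), ?_⟩
        rw [← ht, qh_apply, qe_mul]⟩ : Z)) ⟨?_, ?_⟩)
    · intro a b hab
      have h1 := congrArg Subtype.val hab
      exact Subtype.ext (mul_right_cancel h1)
    · rintro ⟨z, y, hy, rfl⟩
      have hT : y * y₀⁻¹ ∈ T := (hW y (hWK y hy)).mp hy
      refine ⟨⟨qh hnT ⟨y * y₀⁻¹, hT⟩, ⟨_, rfl⟩⟩, Subtype.ext ?_⟩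
      show qh hnT ⟨y * y₀⁻¹, hT⟩ * qe y₀ hy₀N = _
      rw [qh_apply, qe_mul]
      exact qe_congr _ (by simp)
  obtain ⟨⟨z, y, hy, rfl⟩, hfix⟩ :=
    hP.nonempty_fixed_point_of_prime_not_dvd_card Z (by rw [hcard]; exact hidx)
  refine ⟨y, hy, fun x hx => ?_⟩
  have h1 := congrArg Subtype.val (hfix ⟨x, hx⟩)
  have h2 : qh hnP ⟨x, hx⟩ * qe y (le_NQ hnK (hWK y hy)) * (qh hnP ⟨x, hx⟩)⁻¹ =
      qe y (le_NQ hnK (hWK y hy)) := h1
  have h3 := mul_inv_eq_one.mpr h2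
  rw [qh_apply, qe_inv, qe_inv, qe_mul, qe_mul, qe_mul, qe_eq_one_iff] at h3
  exact h3

end Cfsg.Agent.Lib.Helper2
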