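import Mathlib
import Cfsg.Agent.Lib.Helper2.RelGlau2
import Cfsg.Agent.Lib.Helper2.GlauCyc
import Cfsg.Agent.Lib.Helper10.InvCons
import Cfsg.Agent.S4447

/-!
# The Glauberman correspondence above a normal Sylow subgroup
-/

set_option autoImplicit false

namespace Cfsg.Agent.Lib.Helper2

open Cfsg Cfsg.Agent.CharLib Cfsg.Agent.CharLib.H2 Cfsg.Agent.Lib.Helper10 Finset
open scoped ComplexConjugate

universe u

variable {Γ : Type u} [Group Γ]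

/-- the stabiliser in `K` of a function on `Q` -/
def stabIn (K Q : Subgroup Γ) (hn : Nrm Q K) (φ : Q → ℂ) : Subgroup Γ where
  carrier := {k | k ∈ K ∧ ∀ q q' : Q, (q' : Γ) = k * q * k⁻¹ → φ q' = φ q}
  one_mem' := ⟨K.one_mem, fun q q' h => by
    have : q' = q := Subtype.ext (by simpa using h)
    rw [this]⟩
  mul_mem' := by
    rintro a b ⟨ha, ha'⟩ ⟨hb, hb'⟩
    refine ⟨K.mul_mem ha hb, fun q q' h => ?_⟩
    rw [ha' ⟨b * q * b⁻¹, hn b hb q q.2⟩ q' (by rw [h]; simp [mul_assoc]), hb' q _ rfl]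
  inv_mem' := by
    rintro a ⟨ha, ha'⟩
    refine ⟨K.inv_mem ha, fun q q' h => ?_⟩
    exact (ha' q' q (by rw [h]; simp [mul_assoc])).symm

theorem mem_stabIn {K Q : Subgroup Γ} (hn : Nrm Q K) (φ : Q → ℂ) (k : Γ) :
    k ∈ stabIn K Q hn φ ↔ k ∈ K ∧ ∀ q q' : Q, (q' : Γ) = k * q * k⁻¹ → φ q' = φ q := Iff.rfl

theorem stabIn_le {K Q : Subgroup Γ} (hn : Nrm Q K) (φ : Q → ℂ) : stabIn K Q hn φ ≤ K :=
  fun _ hk => hk.1

theorem le_stabIn {K Q : Subgroup Γ} (hn : Nrm Q K) (hQK : Q ≤ K) {φ : Q → ℂ}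
    (hφ : IsClassFunction Q φ) : Q ≤ stabIn K Q hn φ := by
  intro x hx
  refine ⟨hQK hx, fun q q' h => ?_⟩
  have : q' = ⟨x, hx⟩ * q * ⟨x, hx⟩⁻¹ := Subtype.ext h
  rw [this]
  exact hφ q ⟨x, hx⟩

theorem nrm_stabIn {K Q P : Subgroup Γ} (hn : Nrm Q K) (hKP : Nrm K P) (hQP : Nrm Q P) {φ : Q → ℂ}
    (hφ : SInv Q P φ) : Nrm (stabIn K Q hn φ) P := by
  rintro x hx t ⟨ht, ht'⟩
  refine ⟨hKP x hx t ht, fun q q' h => ?_⟩
  -- `q' = x t x⁻¹ q x t⁻¹ x⁻¹`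
  have hx' : x⁻¹ ∈ P := P.inv_mem hx
  let q₁ : Q := ⟨x⁻¹ * q * x, by simpa using hQP x⁻¹ hx' q q.2⟩
  let q₂ : Q := ⟨t * q₁ * t⁻¹, hn t ht q₁ q₁.2⟩
  have e1 : φ q₁ = φ q := hφ x⁻¹ hx' q q₁ (by simp [q₁])
  have e2 : φ q₂ = φ q₁ := ht' q₁ q₂ rfl
  have e3 : φ q' = φ q₂ := hφ x hx q₂ q' (by rw [h]; simp [q₂, q₁, mul_assoc])
  rw [e3, e2, e1]

/-- a character with irreducible restriction is irreducible -/
theorem isIrr_of_res_irr {D Q : Subgroup Γ} [Fintype D] [Fintype Q] (hQD : Q ≤ D) {χ : D → ℂ}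
    (hχ : IsCharacter D χ) (hres : IsIrrCharacter Q (resTo hQD χ)) : IsIrrCharacter D χ := by
  classical
  obtain ⟨m, hm, hm2⟩ := exists_mult hχ
  have hne : ∃ ψ : IrrCharacter D, m ψ ≠ 0 := by
    by_contra hcon
    push_neg at hcon
    have h0 : χ = 0 := by
      rw [hm]
      exact Finset.sum_eq_zero fun ψ _ => by rw [hcon ψ]; simp
    obtain ⟨n, hn0, hn1⟩ := irr_apply_one_nat ⟨_, hres⟩
    change resTo hQD χ 1 = n at hn1
    rw [h0] at hn1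
    have : (n : ℂ) = 0 := hn1.symm
    exact hn0.ne' (by exact_mod_cast this)
  obtain ⟨ψ, hψ⟩ := hne
  have hin : classInner χ (ψ : D → ℂ) ≠ 0 := by rw [hm2]; exact_mod_cast hψ
  have hb := isCharacter_sub_irr hχ ψ.2 hin
  have ha' : IsCharacter Q (resTo hQD (ψ : D → ℂ)) := isCharacter_resTo hQD (isCharacter_of_irr ψ.2)
  have hb' : IsCharacter Q (resTo hQD (χ - (ψ : D → ℂ))) := isCharacter_resTo hQD hb
  obtain ⟨A, hA⟩ := classInner_char_nat ha' ha'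
  obtain ⟨Bn, hB⟩ := classInner_char_nat hb' hb'
  obtain ⟨X, hX⟩ := classInner_char_nat ha' hb'
  have hX' : classInner (resTo hQD (χ - (ψ : D → ℂ))) (resTo hQD (ψ : D → ℂ)) = X := by
    rw [← classInner_conj_symm, hX, Complex.conj_natCast]
  have hsum : resTo hQD χ = resTo hQD (ψ : D → ℂ) + resTo hQD (χ - (ψ : D → ℂ)) := by
    funext q
    simp [resTo_apply]
  have h1 := classInner_irr_self hres
  rw [hsum, classInner_add_left, classInner_add_right, classInner_add_right, hA, hB, hX, hX'] at h1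
  have h2 : A + X + (X + Bn) = 1 := by exact_mod_cast h1
  have hA0 : A ≠ 0 := by
    intro h0
    rw [h0] at hA
    have h3 := classInner_self_eq_zero (by simpa using hA)
    obtain ⟨n, hn0, hn1⟩ := irr_apply_one_nat ψ
    have h4 := congrFun h3 1
    change (ψ : D → ℂ) 1 = 0 at h4
    rw [hn1] at h4
    exact hn0.ne' (by exact_mod_cast h4)
  have hB0 : Bn = 0 := by omega
  rw [hB0] at hB
  have h3 := classInner_self_eq_zero (by simpa using hB)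
  have h4 : (χ - (ψ : D → ℂ)) 1 = 0 := congrFun h3 1
  obtain ⟨m', hm', -⟩ := exists_mult hb
  have h5 : ∀ ψ' : IrrCharacter D, m' ψ' = 0 := by
    have h6 := h4
    rw [hm'] at h6
    simp only [Finset.sum_apply, Pi.smul_apply, smul_eq_mul] at h6
    choose d hd0 hd1 using fun ψ' : IrrCharacter D => irr_apply_one_nat ψ'
    have h7 : ∑ ψ' : IrrCharacter D, m' ψ' * d ψ' = 0 := by
      have : ((∑ ψ' : IrrCharacter D, m' ψ' * d ψ' : ℕ) : ℂ) = 0 := by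
        rw [← h6]
        push_cast
        exact Finset.sum_congr rfl fun ψ' _ => by rw [hd1]
      exact_mod_cast this
    intro ψ'
    have h8 := (Finset.sum_eq_zero_iff.mp h7) ψ' (Finset.mem_univ _)
    rcases Nat.mul_eq_zero.mp h8 with h9 | h9
    · exact h9
    · exact absurd h9 (hd0 ψ').ne'
  have h6 : χ - (ψ : D → ℂ) = 0 := by
    rw [hm']
    exact Finset.sum_eq_zero fun ψ' _ => by rw [h5 ψ']; simp
  rw [sub_eq_zero.mp h6]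
  exact ψ.2

/-- the canonical extension, invariant under the operators -/
theorem exists_canon_ext [Finite Γ] {T Q P : Subgroup Γ} {p : ℕ} [Fact p.Prime] (hQT : Q ≤ T)
    (hnT : Nrm Q T) (hTP : Nrm T P) (hnP : Nrm Q P) (hQp : IsPGroup p Q)
    (hidx : ¬ p ∣ Q.relIndex T) (φ : IrrCharacter Q)
    (hinv : ∀ t ∈ T, ∀ q q' : Q, (q' : Γ) = t * q * t⁻¹ → (φ : Q → ℂ) q' = (φ : Q → ℂ) q)
    (hφP : SInv Q P (φ : Q → ℂ)) :
    ∃ φh : IrrCharacter T, (∀ q : Q, (φh : T → ℂ) ⟨q, hQT q.2⟩ = (φ : Q → ℂ) q) ∧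
      SInv T P (φh : T → ℂ) := by
  classical
  haveI hN : (Q.subgroupOf T).Normal := by
    refine ⟨fun n hn' g => ?_⟩
    exact Subgroup.mem_subgroupOf.mpr (hnT g g.2 n (Subgroup.mem_subgroupOf.mp hn'))
  have hϑ := isIrrCharacter_resSub hQT φ.2
  obtain ⟨d, hd0, hd1, hd2⟩ := L.irr_degree_dvd φ
  obtain ⟨a, ha⟩ := IsPGroup.iff_card.mp hQp
  have hcp : Nat.Coprime (Q.subgroupOf T).index (p ^ a) :=
    Nat.Coprime.pow_right a ((Nat.Prime.coprime_iff_not_dvd (Fact.out : p.Prime)).mpr hidx).symm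
  have hcardN : Nat.card (Q.subgroupOf T) = p ^ a := by
    rw [← ha]
    exact Nat.card_congr (Subgroup.subgroupOfEquivOfLe hQT).toEquiv
  have hcop : Nat.Coprime (Q.subgroupOf T).index (detOrder (resSub Q T (φ : Q → ℂ)) * d) := by
    apply Nat.Coprime.mul_right
    · exact hcp.coprime_dvd_right (hcardN ▸ detOrder_dvd_card (isCharacter_of_irr hϑ))
    · exact hcp.coprime_dvd_right (ha ▸ hd2)
  obtain ⟨χ, ⟨hχ1, hχ2, hχ3⟩, huniq⟩ := Cfsg.Agent.S0867.result (Q.subgroupOf T)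
    (resSub Q T (φ : Q → ℂ)) hϑ
    (fun g n => hinv g g.2 ⟨((n : T) : Γ), Subgroup.mem_subgroupOf.mp n.2⟩ _ rfl) d hd1 hcop
  have hdet : Nat.Coprime (Q.subgroupOf T).index (detOrder χ) := by
    rw [hχ3]
    exact hcp.coprime_dvd_right (hcardN ▸ detOrder_dvd_card (isCharacter_of_irr hϑ))
  refine ⟨⟨χ, hχ1⟩, fun q => hχ2 ⟨⟨q, hQT q.2⟩, Subgroup.mem_subgroupOf.mpr q.2⟩, ?_⟩
  rw [sInv_iff_irrConj hTP]
  intro s
  apply Subtype.ext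
  refine huniq _ (irrConj hTP s ⟨χ, hχ1⟩).2 ?_ ?_
  · intro n
    rw [irrConj_apply]
    have hmem : (s : Γ)⁻¹ * ((n : T) : Γ) * s ∈ Q := by
      simpa using hnP (s : Γ)⁻¹ (P.inv_mem s.2) _ (Subgroup.mem_subgroupOf.mp n.2)
    have h1 := hχ2 ⟨(cjEquiv hTP s).symm (n : T), Subgroup.mem_subgroupOf.mpr hmem⟩
    change χ ((cjEquiv hTP s).symm (n : T)) = _ at h1
    change χ ((cjEquiv hTP s).symm (n : T)) = _
    rw [h1]
    exact hφP (s : Γ)⁻¹ (P.inv_mem s.2) ⟨((n : T) : Γ), Subgroup.mem_subgroupOf.mp n.2⟩ _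
      (by simp [cjEquiv_symm_coe])
  · have h1 : ((irrConj hTP s ⟨χ, hχ1⟩ : IrrCharacter T) : T → ℂ) =
        fun t => χ ((cjEquiv hTP s).symm.toMonoidHom t) := rfl
    rw [h1]
    unfold detOrder
    rw [Cfsg.Agent.S0863.detChar_comp (isCharacter_of_irr hχ1)]
    refine hdet.coprime_dvd_right (orderOf_dvd_of_pow_eq_one ?_)
    funext t
    have h2 := congrFun (pow_orderOf_eq_one (detChar χ)) ((cjEquiv hTP s).symm.toMonoidHom t)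
    simpa [detOrder] using h2

namespace RQ

variable {T D Q P : Subgroup Γ} {p : ℕ}

theorem hQD (h : RQ T D Q P p) : Q ≤ D := by
  intro q hq
  rw [h.hD]
  exact ⟨h.hQT hq, fun x hx => Q.mul_mem (h.hnP x hx q hq) (Q.inv_mem hq)⟩

theorem nrmD (h : RQ T D Q P p) : Nrm D P := by
  intro x hx d hd
  obtain ⟨hd1, hd2⟩ := (h.hD d).mp hd
  rw [h.hD]
  refine ⟨h.hTP x hx d hd1, fun y hy => ?_⟩
  have h1 := hd2 (x⁻¹ * y * x) (P.mul_mem (P.mul_mem (P.inv_mem hx) hy) hx)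
  have h2 := h.hnP x hx _ h1
  have h3 : x * (x⁻¹ * y * x * d * (x⁻¹ * y * x)⁻¹ * d⁻¹) * x⁻¹ =
      y * (x * d * x⁻¹) * y⁻¹ * (x * d * x⁻¹)⁻¹ := by group
  rwa [h3] at h2

theorem fD_conj (h : RQ T D Q P p) (x : P) (d : D) :
    h.fD ((cjEquiv h.nrmD x).symm d) = h.fD d := by
  apply Subtype.ext
  rw [fD_coe, fD_coe, qh_apply, qh_apply]
  apply mul_inv_eq_one.mp
  rw [qe_inv, qe_mul, qe_eq_one_iff]
  have := ((h.hD d).mp d.2).2 (x : Γ)⁻¹ (P.inv_mem x.2)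
  simpa [cjEquiv_symm_coe] using this

end RQ

/-- the correspondence over a fixed invariant character of `Q` -/
theorem RQ.loc [Finite Γ] {K C Q P : Subgroup Γ} {p : ℕ} [Fact p.Prime] [Fintype K] [Fintype C]
    [Fintype Q] (h : RQ K C Q P p) (hQp : IsPGroup p Q) (φ : IrrCharacter Q)
    (hφ : SInv Q P (φ : Q → ℂ)) :
    (∀ χ : IrrCharacter K, classInner (resTo h.hQT (χ : K → ℂ)) (φ : Q → ℂ) ≠ 0 →
      SInv K P (χ : K → ℂ) →
      ∃ ξ : IrrCharacter C, classInner (resTo h.hQD (ξ : C → ℂ)) (φ : Q → ℂ) ≠ 0 ∧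
        SInv C P (ξ : C → ℂ) ∧
        (∃ m : ℕ, classInner (resTo h.hDT (χ : K → ℂ)) (ξ : C → ℂ) = m ∧
          ((m : ℤ) ≡ 1 [ZMOD p] ∨ (m : ℤ) ≡ -1 [ZMOD p])) ∧
        ∀ ξ' : IrrCharacter C, classInner (resTo h.hQD (ξ' : C → ℂ)) (φ : Q → ℂ) ≠ 0 → ξ' ≠ ξ →
          ∀ m' : ℕ, classInner (resTo h.hDT (χ : K → ℂ)) (ξ' : C → ℂ) = m' → p ∣ m') ∧
    (∀ ξ : IrrCharacter C, classInner (resTo h.hQD (ξ : C → ℂ)) (φ : Q → ℂ) ≠ 0 →
      ∃ χ : IrrCharacter K, SInv K P (χ : K → ℂ) ∧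
        ∃ m : ℕ, classInner (resTo h.hDT (χ : K → ℂ)) (ξ : C → ℂ) = m ∧ ¬ p ∣ m) ∧
    (∀ ξ : IrrCharacter C, classInner (resTo h.hQD (ξ : C → ℂ)) (φ : Q → ℂ) ≠ 0 →
      ∀ χ₁ χ₂ : IrrCharacter K, SInv K P (χ₁ : K → ℂ) → SInv K P (χ₂ : K → ℂ) →
      ∀ m₁ m₂ : ℕ, classInner (resTo h.hDT (χ₁ : K → ℂ)) (ξ : C → ℂ) = m₁ → ¬ p ∣ m₁ →
        classInner (resTo h.hDT (χ₂ : K → ℂ)) (ξ : C → ℂ) = m₂ → ¬ p ∣ m₂ → χ₁ = χ₂) := by
  classical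
  set T := stabIn K Q h.hnT (φ : Q → ℂ) with hTdef
  have hTK : T ≤ K := stabIn_le _ _
  have hQT : Q ≤ T := le_stabIn h.hnT h.hQT (isClassFunction_of_irr φ.2)
  have hnT : Nrm Q T := fun t ht => h.hnT t (hTK ht)
  have hTP : Nrm T P := nrm_stabIn h.hnT h.hTP h.hnP hφ
  have hidxT : ¬ p ∣ Q.relIndex T := fun hd => h.hidx (by
    rw [← Subgroup.relIndex_mul_relIndex Q T K hQT hTK]
    exact hd.mul_right _)
  set D := T ⊓ C with hDdef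
  have hR : RQ T D Q P p := ⟨hQT, hnT, h.hnP, hTP, h.hP, hidxT, fun t => by
    rw [Subgroup.mem_inf, h.hD]
    constructor
    · rintro ⟨h1, -, h3⟩; exact ⟨h1, h3⟩
    · rintro ⟨h1, h3⟩; exact ⟨h1, hTK h1, h3⟩⟩
  haveI : Fintype T := Fintype.ofFinite T
  haveI : Fintype D := Fintype.ofFinite D
  obtain ⟨φh, hφh1, hφh2⟩ := exists_canon_ext hQT hnT hTP h.hnP hQp hidxT φ (fun t ht => ht.2) hφ
  have hDT : D ≤ T := hR.hDT
  have hDC : D ≤ C := inf_le_right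
  let φhD : IrrCharacter D := ⟨resTo hDT (φh : T → ℂ),
    isIrr_of_res_irr hR.hQD (isCharacter_resTo hDT (isCharacter_of_irr φh.2)) (by
      have : resTo hR.hQD (resTo hDT (φh : T → ℂ)) = (φ : Q → ℂ) := funext hφh1
      rw [this]; exact φ.2)⟩
  have h₁ : CG K T Q φ φh hR.fT :=
    ⟨hQT, hTK, h.hnT, fun k hk => ⟨fun ht => ht.2, fun hs => ⟨hk, hs⟩⟩, hφh1, hR.fT_surj, hR.fT_ker⟩
  have h₂ : CG C D Q φ φhD hR.fD :=
    ⟨hR.hQD, hDC, fun c hc => h.hnT c (h.hDT hc), fun k hk =>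
      ⟨fun hd => (Subgroup.mem_inf.mp hd).1.2, fun hs => Subgroup.mem_inf.mpr ⟨⟨h.hDT hk, hs⟩, hk⟩⟩,
      fun q => hφh1 q, hR.fD_surj, hR.fD_ker⟩
  haveI : Fintype (QG Q) := Fintype.ofFinite _
  haveI : Fintype hR.T' := Fintype.ofFinite _
  haveI : Fintype hR.C' := Fintype.ofFinite _
  obtain ⟨g1, g2, g3, g4⟩ := Cfsg.Agent.S4444.result hR.T' hR.S' hR.nrm' hR.coprime' p Fact.out
    hR.isPGroup_S' hR.C' rfl hR.hC'T'
  have M1 : ∀ (γ : IrrCharacter hR.T') (β : IrrCharacter hR.C'),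
      classInner (resTo h.hDT (h₁.Phi γ : K → ℂ)) (h₂.Phi β : C → ℂ) =
        classInner (fun c : hR.C' => (γ : hR.T' → ℂ) ⟨c, hR.hC'T' c.2⟩) (β : hR.C' → ℂ) :=
    fun γ β => h₁.mult h₂ h.hDT hDT (fun _ => rfl) (Subgroup.inclusion hR.hC'T') hR.compat γ β
  have M2 : ∀ γ : IrrCharacter hR.T', SInv K P (h₁.Phi γ : K → ℂ) ↔
      SInv hR.T' hR.S' (γ : hR.T' → ℂ) := by
    intro γ
    rw [sInv_iff_irrConj h.hTP, sInv_iff_irrConj hR.nrm']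
    have key : ∀ s : P, h₁.Phi (irrConj hR.nrm' (hR.sP s) γ) = irrConj h.hTP s (h₁.Phi γ) := by
      intro s
      refine h₁.Phi_conj h.hTP hTP hφh2 s (fun t => ?_)
      rw [irrConj_apply, hR.fT_conj]
    constructor
    · rintro hinv ⟨_, x, rfl⟩
      have := key x
      rw [hinv x] at this
      exact h₁.Phi_inj this
    · intro hinv s
      rw [← key s, hinv]
  have M3 : ∀ β : IrrCharacter hR.C', SInv C P (h₂.Phi β : C → ℂ) := by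
    intro β
    rw [sInv_iff_irrConj h.nrmD]
    intro s
    symm
    refine h₂.Phi_conj h.nrmD hR.nrmD ?_ s (fun d => by rw [hR.fD_conj])
    intro x hx d d' hd
    exact hφh2 x hx ⟨d, hDT d.2⟩ ⟨d', hDT d'.2⟩ hd
  refine ⟨?_, ?_, ?_⟩
  · intro χ hχ1 hχ2
    obtain ⟨γ, rfl⟩ := h₁.Phi_surj χ hχ1
    have hγ := (M2 γ).mp hχ2
    obtain ⟨β, ⟨m, hm, hpm⟩, hβu⟩ := g1 γ hγ
    refine ⟨h₂.Phi β, h₂.Phi_over β, M3 β, ⟨m, by rw [M1]; exact hm, g2 γ hγ β m hm hpm⟩, ?_⟩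
    intro ξ' hξ' hne m' hm'
    obtain ⟨β', rfl⟩ := h₂.Phi_surj ξ' hξ'
    by_contra hpm'
    rw [M1] at hm'
    exact hne (by rw [hβu β' ⟨m', hm', hpm'⟩])
  · intro ξ hξ
    obtain ⟨β, rfl⟩ := h₂.Phi_surj ξ hξ
    obtain ⟨γ, hγ, m, hm, hpm⟩ := g4 β
    exact ⟨h₁.Phi γ, (M2 γ).mpr hγ, m, by rw [M1]; exact hm, hpm⟩
  · intro ξ hξ χ₁ χ₂ hi₁ hi₂ m₁ m₂ hm₁ hp₁ hm₂ hp₂
    have hov : ∀ (χ : IrrCharacter K) (m : ℕ), classInner (resTo h.hDT (χ : K → ℂ)) (ξ : C → ℂ) = m →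
        ¬ p ∣ m → classInner (resTo h.hQT (χ : K → ℂ)) (φ : Q → ℂ) ≠ 0 := by
      intro χ m hm hp
      refine over_trans h.hQD h.hDT χ ξ φ ?_ hξ
      rw [hm]
      intro h0
      have : m = 0 := by exact_mod_cast h0
      exact hp (this ▸ dvd_zero p)
    obtain ⟨γ₁, rfl⟩ := h₁.Phi_surj χ₁ (hov χ₁ m₁ hm₁ hp₁)
    obtain ⟨γ₂, rfl⟩ := h₁.Phi_surj χ₂ (hov χ₂ m₂ hm₂ hp₂)
    obtain ⟨β, rfl⟩ := h₂.Phi_surj ξ hξ
    rw [M1] at hm₁ hm₂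
    rw [g3 γ₁ γ₂ ((M2 γ₁).mp hi₁) ((M2 γ₂).mp hi₂) β m₁ m₂ hm₁ hp₁ hm₂ hp₂]

end Cfsg.Agent.Lib.Helper2
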