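import Mathlib
import Cfsg.Agent.Lib.Helper2.GrCent4
import Cfsg.Agent.Lib.Helper2.RelGlau3

/-!
# Extensions of principal block characters all of whose restrictions are in principal blocks
-/

set_option autoImplicit false

namespace Cfsg.Agent.Lib.Helper2.GrCent

open Cfsg Cfsg.Agent.CharLib Cfsg.Agent.BlockLib Module
open scoped ComplexConjugate

universe u

variable {G : Type u} [Group G] [Fintype G] {M : Ideal AlgInt} {p : ℕ} [Fact p.Prime]

/-- the central character of `χ` on the `N`-fixed points is the augmentation modulo `M` -/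
def Aug (M : Ideal AlgInt) (N : Subgroup G) (χ : G → ℂ) : Prop :=
  ∀ f, NInv N f → IntVal f → MemLocalIdeal M (omega χ f - aug f)

variable {N : Subgroup G} [hN : N.Normal] {ψ : G → ℂ}

theorem aug_sum {ι : Type*} (s : Finset ι) (f : ι → G → ℂ) :
    aug (∑ i ∈ s, f i) = ∑ i ∈ s, aug (f i) := by
  unfold aug
  simp only [Finset.sum_apply]
  exact Finset.sum_comm

theorem omega_twist (l : G →* ℂˣ) (hl : ∀ n ∈ N, l n = 1) {g : G} {f : G → ℂ} (hf : Good N g f) :
    omega (fun x => (l x : ℂ) * ψ x) f = (l g : ℂ) * omega ψ f := by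
  unfold omega
  beta_reduce
  rw [map_one, Units.val_one, one_mul, ← mul_div_assoc, Finset.mul_sum]
  congr 1
  refine Finset.sum_congr rfl fun x _ => ?_
  by_cases h0 : f x = 0
  · rw [h0]; ring
  · have h1 := hl _ (hf.supp x h0)
    rw [map_mul, map_inv, mul_inv_eq_one] at h1
    rw [h1]; ring

/-- reduction of a congruence for all invariant functions to the coset-supported ones -/
theorem aug_of_good [M.IsPrime] {χ : G → ℂ}
    (h : ∀ g f, Good N g f → MemLocalIdeal M (omega χ f - aug f)) : Aug M N χ := by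
  classical
  intro f hf hfi
  haveI : Fintype (G ⧸ N) := Fintype.ofFinite _
  let F : G ⧸ N → G → ℂ := fun q x => if (x : G ⧸ N) = q then f x else 0
  have hF : ∀ q, Good N (Quotient.out q) (F q) := by
    intro q
    refine ⟨fun n hn x => ?_, fun x => ?_, fun x hx => ?_⟩
    · have h1 : ((n * x * n⁻¹ : G) : G ⧸ N) = (x : G ⧸ N) := by
        have hn1 : (n : G ⧸ N) = 1 := (QuotientGroup.eq_one_iff n).mpr hn
        rw [QuotientGroup.mk_mul, QuotientGroup.mk_mul, QuotientGroup.mk_inv, hn1]
        simp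
      simp only [F, h1, hf n hn x]
    · by_cases hx : (x : G ⧸ N) = q
      · simp only [F, if_pos hx]; exact hfi x
      · exact ⟨0, by simp only [F, if_neg hx]; simp⟩
    · have hxq : (x : G ⧸ N) = q := by
        by_contra hne
        exact hx (if_neg hne)
      rw [← QuotientGroup.eq_one_iff, QuotientGroup.mk_mul, QuotientGroup.mk_inv, hxq]
      have : ((Quotient.out q : G) : G ⧸ N) = q := Quotient.out_eq q
      rw [this, mul_inv_cancel]
  have hsum : f = ∑ q : G ⧸ N, F q := by
    funext x
    rw [Finset.sum_apply]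
    simp [F]
  rw [hsum, omega_sum, aug_sum, ← Finset.sum_sub_distrib]
  exact memLocalIdeal_sum _ _ fun q _ => h _ _ (hF q)

theorem Setup.exists_aug (S : Setup p M N ψ) : ∃ l : G →* ℂˣ, (∀ n ∈ N, l n = 1) ∧
    (∀ g, IsPRoot p (l g : ℂ)) ∧ Aug M N (fun g => (l g : ℂ) * ψ g) := by
  haveI := isPrime_of_isPModular S.hM
  have hne := ne_top_of_isPModular S.hM
  obtain ⟨l, hl1, hl2, hl3⟩ := S.exists_hom
  refine ⟨l⁻¹, fun n hn => by rw [MonoidHom.inv_apply, hl1 n hn, inv_one], fun g => ?_, ?_⟩
  · rw [MonoidHom.inv_apply, Units.val_inv_eq_inv_val]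
    exact (hl2 g).inv
  · apply aug_of_good
    intro g f hf
    rw [omega_twist (l⁻¹) (fun n hn => by rw [MonoidHom.inv_apply, hl1 n hn, inv_one]) hf]
    have h1 := memLocalIdeal_mul_left
      (memLocalRing_of_isIntegral hne (hl2 g).inv.isIntegral) (hl3 g f hf)
    have e : (l g : ℂ)⁻¹ * (omega ψ f - (l g : ℂ) * aug f) =
        ((l⁻¹ g : ℂˣ) : ℂ) * omega ψ f - aug f := by
      rw [MonoidHom.inv_apply, Units.val_inv_eq_inv_val]
      have := (hl2 g).ne_zero
      field_simp
    rwa [e] at h1

/-- the restriction to an intermediate subgroup lies in the principal block -/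
theorem Aug.mem_principalBlock {χ : G → ℂ} (hχ : IsIrrCharacter G χ) (hA : Aug M N χ)
    (hres : IsIrrCharacter N (fun n : N => χ n)) (J : Subgroup G) (hNJ : N ≤ J) :
    ∃ ξ : IrrCharacter J, ξ ∈ principalBlock M J ∧ ∀ y : J, (ξ : J → ℂ) y = χ y := by
  classical
  haveI : Fintype J := Fintype.ofFinite J
  haveI : Fintype N := Fintype.ofFinite N
  have hξ : IsIrrCharacter J (fun y : J => χ y) :=
    isIrr_of_res_irr hNJ (isCharacter_restrict (isCharacter_of_irr hχ) J) hres
  refine ⟨⟨fun y : J => χ y, hξ⟩, ?_, fun y => rfl⟩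
  intro y
  let F : G → ℂ := fun x => if h : x ∈ J then classInd y ⟨x, h⟩ else 0
  have hoff : ∀ x, x ∉ J → F x = 0 := fun x hx => dif_neg hx
  have hon : ∀ x : J, F x = classInd y x := fun x => dif_pos x.2
  have h1 : omega χ F = centralChar (fun y : J => χ y) y := by
    rw [← omega_classInd (isClassFunction_of_irr hξ) y]
    unfold omega
    rw [sum_eq_sum_subgroup J (fun x => F x * χ x) (fun x hx => by rw [hoff x hx, zero_mul])]
    simp only [hon]
    rfl
  have h2 : aug F = centralChar (fun _ : J => (1 : ℂ)) y := by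
    rw [← omega_classInd (fun _ _ => rfl) y]
    unfold omega aug
    rw [sum_eq_sum_subgroup J F hoff]
    simp only [hon]
    simp
  have h3 := hA F ?_ ?_
  · rw [h1, h2] at h3
    have h4 := memLocalIdeal_neg h3
    rwa [neg_sub] at h4
  · intro n hn x
    by_cases hx : x ∈ J
    · have hx' : n * x * n⁻¹ ∈ J := J.mul_mem (J.mul_mem (hNJ hn) hx) (J.inv_mem (hNJ hn))
      simp only [F, dif_pos hx, dif_pos hx']
      exact isClassFunction_classInd y ⟨x, hx⟩ ⟨n, hNJ hn⟩
    · have hx' : n * x * n⁻¹ ∉ J := by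
        intro h
        apply hx
        have := J.mul_mem (J.mul_mem (J.inv_mem (hNJ hn)) h) (hNJ hn)
        simpa [mul_assoc] using this
      simp only [F, dif_neg hx, dif_neg hx']
  · intro x
    by_cases hx : x ∈ J
    · simp only [F, dif_pos hx]
      rw [classInd_apply]
      split_ifs
      · exact ⟨1, by simp⟩
      · exact ⟨0, by simp⟩
    · exact ⟨0, by simp only [F, dif_neg hx]; simp⟩

end Cfsg.Agent.Lib.Helper2.GrCent
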