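import Mathlib
import Cfsg.Agent.Lib.Helper2.GrCent5

/-!
# Extensions of principal block characters: the case `G = N C_G(P)`
-/

set_option autoImplicit false

namespace Cfsg.Agent.Lib.Helper2.GrCent

open Cfsg Cfsg.Agent.CharLib Cfsg.Agent.BlockLib Module
open scoped ComplexConjugate

universe u

variable {G : Type u} [Group G] [Fintype G] {M : Ideal AlgInt} {p : ℕ} [Fact p.Prime]

theorem Aug.mem_pb {N : Subgroup G} {χ : G → ℂ} (hχ : IsIrrCharacter G χ) (hA : Aug M N χ) :
    (⟨χ, hχ⟩ : IrrCharacter G) ∈ principalBlock M G := by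
  classical
  intro y
  have h1 : omega χ (classInd y) = centralChar χ y :=
    omega_classInd (isClassFunction_of_irr hχ) y
  have h2 : aug (classInd y) = centralChar (fun _ : G => (1 : ℂ)) y := by
    rw [← omega_classInd (fun _ _ => rfl) y]
    unfold omega aug
    simp
  have h3 := hA (classInd y) (fun n _ x => isClassFunction_classInd y x n) (fun x => by
    rw [classInd_apply]
    split_ifs
    · exact ⟨1, by simp⟩
    · exact ⟨0, by simp⟩)
  rw [h1, h2] at h3
  have h4 := memLocalIdeal_neg h3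
  rwa [neg_sub] at h4

theorem setup_of_cover (hM : IsPModular p M) (N : Subgroup G) [hN : N.Normal] (P : Sylow p ↥N)
    (hcov : N ⊔ Subgroup.centralizer (((P : Subgroup ↥N).map N.subtype : Subgroup G) : Set G) = ⊤)
    (θ : IrrCharacter ↥N) (hθ : θ ∈ principalBlock M ↥N) (ψ : IrrCharacter G)
    (hψ : ∀ x : ↥N, (ψ : G → ℂ) x = (θ : ↥N → ℂ) x) : Setup p M N (ψ : G → ℂ) := by
  have hfun : (fun n : N => (ψ : G → ℂ) n) = (θ : ↥N → ℂ) := funext hψ
  have hres : IsIrrCharacter N (fun n : N => (ψ : G → ℂ) n) := by rw [hfun]; exact θ.2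
  have heq : (⟨fun n : N => (ψ : G → ℂ) n, hres⟩ : IrrCharacter N) = θ := Subtype.ext hfun
  refine ⟨hM, ψ.2, hres, by rw [heq]; exact hθ, (P : Subgroup ↥N).index, P.not_dvd_index, ?_⟩
  intro g
  have hx : g ∈ ((N ⊔ Subgroup.centralizer
      (((P : Subgroup ↥N).map N.subtype : Subgroup G) : Set G) : Subgroup G) : Set G) := by
    rw [hcov]; exact Set.mem_univ g
  rw [Subgroup.normal_mul] at hx
  obtain ⟨n, hn, c, hc, rfl⟩ := Set.mem_mul.mp hx
  obtain ⟨v, hv, hvs⟩ := exists_test N P c hc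
  refine ⟨v, hv.of_coset ?_, hvs⟩
  have e : c * (n * c)⁻¹ = n⁻¹ := by group
  rw [e]
  exact N.inv_mem hn

end Cfsg.Agent.Lib.Helper2.GrCent
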