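import Mathlib
import Cfsg.Prelude.Def_BlockLocal
import Cfsg.Prelude.Def_BlockRank
import Cfsg.Agent.S4996
import Cfsg.Agent.S0964
import Cfsg.Agent.S0966
import Cfsg.Agent.S0970
import Cfsg.Agent.S0927
import Cfsg.Agent.S0907
import Cfsg.Agent.Lib.Helper2.AlpDade
import Cfsg.Agent.Lib.Helper23.DegLib

/-!
# Blocks with abelian defect groups over a stable block of a normal subgroup of `p`-power index
-/

set_option autoImplicit false

namespace Cfsg.Agent.Lib.Helper2

open Cfsg Cfsg.Agent.CharLib Cfsg.Agent.BlockLib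
open scoped ComplexConjugate

variable {G : Type*} [Group G] [Fintype G] {p : ℕ} [Fact p.Prime] {M : Ideal AlgInt}

omit [Fintype G] in
/-- `p`-regular elements lie in a normal subgroup of `p`-power index -/
theorem mem_of_pRegular (N : Subgroup G) [N.Normal] {k : ℕ} (hk : N.index = p ^ k) {y : G}
    (hy : ¬ p ∣ orderOf y) : y ∈ N := by
  have h1 : y ^ (p ^ k) ∈ N := hk ▸ Subgroup.pow_index_mem N y
  have hc : Nat.Coprime (p ^ k) (orderOf y) :=
    Nat.Coprime.pow_left k ((Nat.Prime.coprime_iff_not_dvd Fact.out).mpr hy)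
  obtain ⟨m, hm⟩ := exists_pow_eq_self_of_coprime hc
  rw [← hm]
  exact N.pow_mem h1 m

theorem defectClass_pRegular (hM : IsPModular p M) {B : Set (IrrCharacter G)} (hB : IsPBlock M B)
    {y : G} (hy : IsDefectClass M B y) : ¬ p ∣ orderOf y := by
  intro hd
  have h1 := Cfsg.Agent.S0907.result p M hM B hB 1 y
    (by rw [orderOf_one]; exact (Fact.out : p.Prime).not_dvd_one) hd
  apply hy.2.1
  unfold blockCoeff
  rw [h1, mul_zero]
  exact memLocalIdeal_zero (ne_top_of_isPModular hM)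

theorem mem_blockOf_self (hM : IsPModular p M) (χ : IrrCharacter G) :
    χ ∈ blockOf M (χ : G → ℂ) := fun g => by
  rw [sub_self]; exact memLocalIdeal_zero (ne_top_of_isPModular hM)

/-- the standing hypotheses -/
structure PB (p : ℕ) (M : Ideal AlgInt) (N : Subgroup G) [N.Normal] [Fintype N]
    (b : Set (IrrCharacter N)) (B : Set (IrrCharacter G)) (P : Subgroup G) : Prop where
  hM : IsPModular p M
  hNi : ∃ k : ℕ, N.index = p ^ k
  hb : IsPBlock M b
  hstab : ∀ g : G, StabilizesBlock N b g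
  hB : IsPBlock M B
  hcov : ∃ χ ∈ B, ∃ θ ∈ b, classInner (fun n : N => (χ : G → ℂ) n) (θ : N → ℂ) ≠ 0
  hPD : IsDefectGroup p M B P
  hPab : ∀ x ∈ P, ∀ y ∈ P, x * y = y * x

namespace PB

variable {N : Subgroup G} [hN : N.Normal] [Fintype N] {b : Set (IrrCharacter N)}
  {B : Set (IrrCharacter G)} {P : Subgroup G}

theorem hinv (h : PB p M N b B P) (g : G) (θ : IrrCharacter N) (hθ : θ ∈ b) (θ' : IrrCharacter N)
    (hc : ∀ n : N, (θ' : N → ℂ) n = (θ : N → ℂ) ⟨g * n * g⁻¹, hN.conj_mem n n.2 g⟩) : θ' ∈ b := by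
  obtain ⟨χ', hχ', hconj⟩ := (h.hstab g⁻¹).2 θ hθ
  have : θ' = χ' := by
    apply Subtype.ext
    funext n
    rw [hc n]
    exact (hconj ⟨g * n * g⁻¹, hN.conj_mem n n.2 g⟩ n (by simp [mul_assoc])).symm
  rw [this]
  exact hχ'

theorem uniq (h : PB p M N b B P) (B' : Set (IrrCharacter G)) (hB' : IsPBlock M B')
    (hcov' : ∃ χ ∈ B', ∃ θ ∈ b, classInner (fun n : N => (χ : G → ℂ) n) (θ : N → ℂ) ≠ 0) :
    B' = B := by
  obtain ⟨B₀, -, hu⟩ := Cfsg.Agent.S0966.result p M h.hM N h.hNi b h.hb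
  rw [hu B' ⟨hB', hcov'⟩, hu B ⟨h.hB, h.hcov⟩]

theorem fong (h : PB p M N b B P) :
    ¬ p ∣ (P ⊔ N).index ∧ IsDefectGroup p M b ((P ⊓ N).subgroupOf N) := by
  have := Cfsg.Agent.S0970.result p M h.hM N b h.hb h.hinv B h.hB h.hcov
    (fun B' hB' hc => by rw [h.uniq B' hB' hc]) P h.hPD
  exact ⟨this.1, this.2.1⟩

theorem sup (h : PB p M N b B P) : N ⊔ P = ⊤ := by
  obtain ⟨k, hk⟩ := h.hNi
  have h1 : (P ⊔ N).index ∣ p ^ k := hk ▸ Subgroup.index_dvd_of_le le_sup_right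
  obtain ⟨j, -, hj⟩ := (Nat.dvd_prime_pow Fact.out).mp h1
  have h2 := h.fong.1
  rw [hj] at h2
  have hj0 : j = 0 := by
    by_contra h0
    exact h2 (dvd_pow_self p h0)
  rw [hj0, pow_zero] at hj
  rw [sup_comm]
  exact Subgroup.index_eq_one.mp hj

/-- every member of `B` is nonzero somewhere on every coset of `N` -/
theorem res_irr (h : PB p M N b B P) {χ : IrrCharacter G} (hχ : χ ∈ B) :
    IsIrrCharacter N (fun n : N => (χ : G → ℂ) n) := by
  by_contra hcon
  obtain ⟨x₀, hx₀⟩ := (Cfsg.Agent.S4996.result N χ).mp hcon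
  obtain ⟨n₀, hn₀, x, hx, rfl⟩ := exists_mul_of_sup h.sup x₀
  obtain ⟨y, hy, P', hP'⟩ := h.hPD
  obtain ⟨k, hk⟩ := h.hNi
  have hyN : y ∈ N := mem_of_pRegular N hk (defectClass_pRegular h.hM h.hB hy)
  rw [hP'] at hx
  obtain ⟨x', hx', rfl⟩ := Subgroup.mem_map.mp hx
  have hcomm : ∀ w ∈ (P' : Subgroup (Subgroup.centralizer ({y} : Set G))), x' * w = w * x' := by
    intro w hw
    apply Subtype.ext
    refine h.hPab _ ?_ _ ?_
    · rw [hP']; exact Subgroup.mem_map.mpr ⟨x', hx', rfl⟩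
    · rw [hP']; exact Subgroup.mem_map.mpr ⟨w, hw, rfl⟩
  have h1 := (Cfsg.Agent.S0927.result p M h.hM B h.hB y hy P' x' hx').2 hcomm χ hχ
  apply h1
  have h2 : (χ : G → ℂ) ((x' : G) * y) = 0 := by
    have h3 := hx₀ ⟨(x' : G) * y * (x' : G)⁻¹ * n₀⁻¹,
      N.mul_mem (hN.conj_mem y hyN _) (N.inv_mem hn₀)⟩
    have h4 : (x' : G) * y * (x' : G)⁻¹ * n₀⁻¹ *
        (n₀ * (Subgroup.centralizer ({y} : Set G)).subtype x') = (x' : G) * y := by
      simp [mul_assoc]
    rw [← h4]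
    exact h3
  unfold centralChar
  rw [h2, mul_zero, zero_div]
  exact memLocalIdeal_zero (ne_top_of_isPModular h.hM)

theorem res_mem (h : PB p M N b B P) {χ : IrrCharacter G} (hχ : χ ∈ B) :
    (⟨fun n : N => (χ : G → ℂ) n, h.res_irr hχ⟩ : IrrCharacter N) ∈ b := by
  obtain ⟨χ₀, hχ₀, θ₀, hθ₀, hc⟩ := h.hcov
  obtain ⟨g, θ', hθ', hg⟩ := Cfsg.Agent.S0964.result p M h.hM N B h.hB b h.hb χ₀ hχ₀ θ₀ hθ₀ hc χ hχ
    ⟨fun n : N => (χ : G → ℂ) n, h.res_irr hχ⟩
    (by
      have : classInner (fun n : N => (χ : G → ℂ) n)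
          ((⟨fun n : N => (χ : G → ℂ) n, h.res_irr hχ⟩ : IrrCharacter N) : N → ℂ) = 1 :=
        classInner_irr_self (h.res_irr hχ)
      rw [this]; exact one_ne_zero)
  exact h.hinv g θ' hθ' _ hg

theorem over_mem (h : PB p M N b B P) {θ : IrrCharacter N} (hθ : θ ∈ b) {ψ : IrrCharacter G}
    (hψ : classInner (fun n : N => (ψ : G → ℂ) n) (θ : N → ℂ) ≠ 0) : ψ ∈ B := by
  rw [← h.uniq (blockOf M (ψ : G → ℂ)) ⟨ψ, rfl⟩ ⟨ψ, mem_blockOf_self h.hM ψ, θ, hθ, hψ⟩]
  exact mem_blockOf_self h.hM ψ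

theorem over_res (h : PB p M N b B P) {θ : IrrCharacter N} (hθ : θ ∈ b) {ψ : IrrCharacter G}
    (hψ : classInner (fun n : N => (ψ : G → ℂ) n) (θ : N → ℂ) ≠ 0) (n : N) :
    (ψ : G → ℂ) n = (θ : N → ℂ) n := by
  have hirr := h.res_irr (h.over_mem hθ hψ)
  by_contra hne
  exact hψ (classInner_irr_ne hirr θ.2 (fun e => hne (congrFun e n)))

open Classical in
theorem card_fiber (h : PB p M N b B P) {θ : IrrCharacter N} (hθ : θ ∈ b) :
    Nat.card {χ : IrrCharacter G // χ ∈ B ∧ ∀ n : N, (χ : G → ℂ) n = (θ : N → ℂ) n} = N.index := by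
  have h1 := congrFun (classFunction_eq_sum (H2.isClassFunction_indFun (H := N) (θ : N → ℂ))) 1
  rw [H2.indFun_apply_one] at h1
  simp only [Finset.sum_apply, Pi.smul_apply, smul_eq_mul] at h1
  have h2 : ∀ ψ : IrrCharacter G, classInner (indFun N (θ : N → ℂ)) (ψ : G → ℂ) * (ψ : G → ℂ) 1 =
      if (ψ ∈ B ∧ ∀ n : N, (ψ : G → ℂ) n = (θ : N → ℂ) n) then (θ : N → ℂ) 1 else 0 := by
    intro ψ
    rw [H2.frobenius_reciprocity _ _ (isClassFunction_of_irr ψ.2)]
    split_ifs with hc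
    · have : (fun n : N => (ψ : G → ℂ) n) = (θ : N → ℂ) := funext hc.2
      rw [this, classInner_irr_self θ.2, one_mul]
      exact hc.2 1
    · have : classInner (θ : N → ℂ) (fun n : N => (ψ : G → ℂ) n) = 0 := by
        by_contra hne
        have hne' : classInner (fun n : N => (ψ : G → ℂ) n) (θ : N → ℂ) ≠ 0 := by
          intro h0
          apply hne
          rw [← classInner_conj_symm, h0, map_zero]
        exact hc ⟨h.over_mem hθ hne', h.over_res hθ hne'⟩
      rw [this, zero_mul]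
  rw [Finset.sum_congr rfl (fun ψ _ => h2 ψ), ← Finset.sum_filter, Finset.sum_const,
    nsmul_eq_mul] at h1
  have h3 := mul_right_cancel₀ (irr_apply_one_ne_zero θ) h1
  rw [Nat.card_eq_fintype_card, Fintype.card_subtype]
  exact_mod_cast h3.symm

/-- restriction as a map `B → b` -/
noncomputable def r (h : PB p M N b B P) (χ : B) : b :=
  ⟨⟨fun n : N => ((χ : IrrCharacter G) : G → ℂ) n, h.res_irr χ.2⟩, h.res_mem χ.2⟩

theorem card_eq (h : PB p M N b B P) : Nat.card B = N.index * Nat.card b := by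
  classical
  haveI : Fintype b := Fintype.ofFinite _
  rw [Nat.card_congr (Equiv.sigmaFiberEquiv h.r).symm, Nat.card_sigma]
  have h1 : ∀ θ : b, Nat.card {χ : B // h.r χ = θ} = N.index := by
    intro θ
    rw [← h.card_fiber θ.2]
    refine Nat.card_congr ⟨fun χ => ⟨χ.1.1, χ.1.2, fun n => ?_⟩,
      fun χ => ⟨⟨χ.1, χ.2.1⟩, Subtype.ext (Subtype.ext (funext χ.2.2))⟩, fun χ => rfl, fun χ => rfl⟩
    have := congrArg (fun t : b => ((t : IrrCharacter N) : N → ℂ) n) χ.2
    exact this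
  rw [Finset.sum_congr rfl (fun θ _ => h1 θ), Finset.sum_const, Finset.card_univ,
    Nat.card_eq_fintype_card, smul_eq_mul, mul_comm]

theorem pReg_ext (h : PB p M N b B P) {χ : IrrCharacter G} {θ : IrrCharacter N}
    (hres : ∀ n : N, (χ : G → ℂ) n = (θ : N → ℂ) n) :
    Function.ExtendByZero.linearMap ℂ (Subtype.val : N → G) (pRegularPart p (θ : N → ℂ)) =
      pRegularPart p (χ : G → ℂ) := by
  classical
  obtain ⟨k, hk⟩ := h.hNi
  funext g
  show Function.extend (Subtype.val : N → G) (pRegularPart p (θ : N → ℂ)) 0 g = _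
  by_cases hg : g ∈ N
  · have h1 := Subtype.val_injective.extend_apply (pRegularPart p (θ : N → ℂ)) 0 (⟨g, hg⟩ : N)
    change Function.extend (Subtype.val : N → G) (pRegularPart p (θ : N → ℂ)) 0 g = _ at h1
    rw [h1]
    unfold pRegularPart IsPRegular
    have h2 : orderOf (⟨g, hg⟩ : N) = orderOf g := (Subgroup.orderOf_coe (⟨g, hg⟩ : N)).symm
    rw [h2, ← hres ⟨g, hg⟩]
  · rw [Function.extend_apply' _ _ _ (by rintro ⟨n, rfl⟩; exact hg n.2)]
    unfold pRegularPart IsPRegular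
    rw [if_neg (fun hr => hg (mem_of_pRegular N hk hr))]
    rfl

theorem rank_eq (h : PB p M N b B P) : blockRank p B = blockRank p b := by
  classical
  set E := Function.ExtendByZero.linearMap ℂ (Subtype.val : N → G) with hE
  have hinj : Function.Injective E := by
    intro f f' hff
    funext n
    have h1 := congrFun hff (n : G)
    have e1 := Subtype.val_injective.extend_apply f 0 n
    have e2 := Subtype.val_injective.extend_apply f' 0 n
    change Function.extend (Subtype.val : N → G) f 0 n =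
      Function.extend (Subtype.val : N → G) f' 0 n at h1
    rw [e1, e2] at h1
    exact h1
  have himg : (fun χ : IrrCharacter G => pRegularPart p (χ : G → ℂ)) '' B =
      E '' ((fun θ : IrrCharacter N => pRegularPart p (θ : N → ℂ)) '' b) := by
    ext f
    constructor
    · rintro ⟨χ, hχ, rfl⟩
      exact ⟨_, ⟨_, h.res_mem hχ, rfl⟩, h.pReg_ext (fun _ => rfl)⟩
    · rintro ⟨_, ⟨θ, hθ, rfl⟩, rfl⟩
      obtain ⟨χ, hχ⟩ := Helper23.exists_irr_over N θ.2
      exact ⟨χ, h.over_mem hθ hχ, (h.pReg_ext (h.over_res hθ hχ)).symm⟩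
  unfold blockRank
  rw [himg, Submodule.span_image]
  exact (LinearEquiv.finrank_eq (Submodule.equivMapOfInjective E hinj _)).symm

end PB

end Cfsg.Agent.Lib.Helper2
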