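import Mathlib
import Cfsg.Agent.Lib.Helper2.PRat4
import Cfsg.Agent.Lib.Helper2.AlpDade
import Cfsg.Agent.Lib.Helper10.CliffCorr
import Cfsg.Agent.BlockLib.KG.EquivTr
import Cfsg.Agent.S0888
import Cfsg.Agent.S0867

/-!
# Extending a `p`-rational principal block character of degree prime to `p`
-/

set_option autoImplicit false

namespace Cfsg.Agent.Lib.Helper2.PRat

open Cfsg Cfsg.Agent.CharLib Cfsg.Agent.BlockLib Cfsg.Agent.Lib.Helper10

universe u

variable {G : Type u} [Group G] [Finite G] {M : Ideal AlgInt} {p : ℕ} [Fact p.Prime]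

theorem not_dvd_detOrder_of_pow_fixed (hp2 : p ≠ 2) {θ : G → ℂ} (hθ : IsCharacter G θ)
    (h : ∀ k : ℕ, k.Coprime (Nat.card G) →
      k ≡ 1 [MOD Nat.card G / p ^ (Nat.card G).factorization p] → ∀ x, θ (x ^ k) = θ x) :
    ¬ p ∣ detOrder θ := by
  have hp : p.Prime := Fact.out
  set n := Nat.card G with hn
  set n' := n / p ^ n.factorization p with hn'
  have hpn' : ¬ p ∣ n' := Nat.not_dvd_ordCompl hp Nat.card_pos.ne'
  have hnn : p ^ n.factorization p * n' = n := Nat.ordProj_mul_ordCompl_eq_self n p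
  obtain ⟨j, hj0, hj2, hj⟩ : ∃ j : ℕ, 0 < j ∧ j ≤ 2 ∧ ¬ p ∣ 1 + j * n' := by
    by_cases h1 : p ∣ 1 + 1 * n'
    · refine ⟨2, by norm_num, le_refl _, fun h2 => hpn' ?_⟩
      have := Nat.dvd_sub h2 h1
      have e : 1 + 2 * n' - (1 + 1 * n') = n' := by omega
      rwa [e] at this
    · exact ⟨1, by norm_num, by norm_num, h1⟩
  set k := 1 + j * n' with hk
  have hkn : k.Coprime n := by
    rw [← hnn]
    apply Nat.Coprime.mul_right
    · exact Nat.Coprime.pow_right _ ((Nat.Prime.coprime_iff_not_dvd hp).mpr hj).symm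
    · rw [hk]; simp
  have hk1 : k ≡ 1 [MOD n'] := by
    rw [hk]; unfold Nat.ModEq; simp
  have hfix : (fun x => θ (x ^ k)) = θ := funext (h k hkn hk1)
  have hdp := detChar_pow hθ k hkn
  rw [hfix] at hdp
  obtain ⟨D, hD⟩ := Cfsg.Agent.H6.exists_detHom hθ
  have hdvd : detOrder θ ∣ j * n' := by
    apply orderOf_dvd_of_pow_eq_one
    funext g
    have h1 := congrFun hdp g
    rw [Pi.pow_apply, hk, pow_add, pow_one] at h1
    have h0 : detChar θ g ≠ 0 := by rw [← hD]; exact Units.ne_zero _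
    rw [Pi.pow_apply]
    exact (mul_eq_left₀ h0).mp h1.symm
  intro hcon
  rcases hp.dvd_mul.mp (hcon.trans hdvd) with h1 | h1
  · have := Nat.le_of_dvd hj0 h1
    have := hp.two_le
    omega
  · exact hpn' h1

section tr

variable (N : Subgroup G) [hN : N.Normal] (K : Subgroup G) (hNK : N ≤ K)

include hNK in
theorem resSub_mem_pb {θ : IrrCharacter N} (hθ : θ ∈ principalBlock M N) :
    (⟨resSub N K θ, isIrrCharacter_resSub hNK θ.2⟩ : IrrCharacter (N.subgroupOf K)) ∈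
      principalBlock M (N.subgroupOf K) := by
  have := (sameBlock_equiv (M := M) (Subgroup.subgroupOfEquivOfLe hNK).symm
    (χ := fun _ => 1) (ψ := (θ : N → ℂ))).mpr hθ
  exact this

include hNK in
theorem not_dvd_detOrder_resSub {θ : N → ℂ} (hθ : IsCharacter N θ) (h : ¬ p ∣ detOrder θ) :
    ¬ p ∣ detOrder (resSub N K θ) := by
  intro hcon
  apply h
  refine hcon.trans ?_
  apply orderOf_dvd_of_pow_eq_one
  funext x
  have h1 := congrFun
    (Cfsg.Agent.S0863.detChar_comp hθ (Subgroup.subgroupOfEquivOfLe hNK).toMonoidHom) x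
  have h2 : (fun h => θ ((Subgroup.subgroupOfEquivOfLe hNK).toMonoidHom h)) = resSub N K θ := rfl
  rw [h2] at h1
  rw [Pi.pow_apply, h1]
  have h3 := congrFun (pow_orderOf_eq_one (detChar θ))
    ((Subgroup.subgroupOfEquivOfLe hNK).toMonoidHom x)
  rw [Pi.pow_apply] at h3
  exact h3

include hNK in
theorem exists_sylow_cover (Q : Sylow p ↥N)
    (hKH : K ≤ N ⊔ Subgroup.centralizer (((Q : Subgroup ↥N).map N.subtype : Subgroup G) : Set G)) :
    ∃ P' : Sylow p ↥(N.subgroupOf K), (N.subgroupOf K) ⊔ Subgroup.centralizer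
      (((P' : Subgroup ↥(N.subgroupOf K)).map (N.subgroupOf K).subtype : Subgroup ↥K) : Set ↥K)
        = ⊤ := by
  let e := Subgroup.subgroupOfEquivOfLe hNK
  let P' : Sylow p ↥(N.subgroupOf K) := Q.comapOfInjective e.toMonoidHom e.injective (by
     intro x _; exact ⟨e.symm x, e.apply_symm_apply x⟩)
  refine ⟨P', ?_⟩
  rw [eq_top_iff]
  intro x _
  have hx : (x : G) ∈ ((N ⊔ Subgroup.centralizer
      (((Q : Subgroup ↥N).map N.subtype : Subgroup G) : Set G) : Subgroup G) : Set G) := hKH x.2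
  rw [Subgroup.normal_mul] at hx
  obtain ⟨n, hn, c, hc, hnc⟩ := Set.mem_mul.mp hx
  have hcK : c ∈ K := by
    have : c = n⁻¹ * x := by rw [← hnc]; group
    rw [this]; exact K.mul_mem (K.inv_mem (hNK hn)) x.2
  have hxe : x = (⟨n, hNK hn⟩ : K) * ⟨c, hcK⟩ := Subtype.ext hnc.symm
  rw [hxe]
  refine Subgroup.mul_mem_sup (Subgroup.mem_subgroupOf.mpr hn) ?_
  rw [Subgroup.mem_centralizer_iff]
  intro y hy
  obtain ⟨z, hz, rfl⟩ := Subgroup.mem_map.mp hy
  apply Subtype.ext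
  have hzQ : e z ∈ (Q : Subgroup N) := hz
  exact Subgroup.mem_centralizer_iff.mp hc ((e z : N) : G) (Subgroup.mem_map.mpr ⟨e z, hzQ, rfl⟩)

include hNK in
theorem ext_r (hM : IsPModular p M) (Q : Sylow p ↥N)
    (hKH : K ≤ N ⊔ Subgroup.centralizer (((Q : Subgroup ↥N).map N.subtype : Subgroup G) : Set G))
    (hidx : ¬ p ∣ N.relIndex K) (θ : IrrCharacter N) (hθ : θ ∈ principalBlock M N) :
    ∃ η : K → ℂ, IsIrrCharacter K η ∧ ∀ n : N, η ⟨n, hNK n.2⟩ = (θ : N → ℂ) n := by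
  classical
  have hp : p.Prime := Fact.out
  obtain ⟨P', hP'⟩ := exists_sylow_cover N K hNK Q hKH
  haveI : (N.subgroupOf K).Normal := hN.subgroupOf K
  let P : Sylow p K := IsPGroup.toSylow
    (P := (P' : Subgroup _).map (N.subgroupOf K).subtype) (P'.2.map _) (by
      rw [Subgroup.index_map_subtype]
      exact fun h => (hp.dvd_mul.mp h).elim P'.not_dvd_index hidx)
  obtain ⟨χ, -, hχ⟩ := pb_surj hM (N.subgroupOf K) hidx P hP'
    ⟨resSub N K θ, isIrrCharacter_resSub hNK θ.2⟩ (resSub_mem_pb N K hNK hθ)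
  exact ⟨χ, χ.2, fun n => hχ ⟨⟨n, hNK n.2⟩, Subgroup.mem_subgroupOf.mpr n.2⟩⟩

include hNK in
theorem ext_p {j : ℕ} (hidx : N.relIndex K = p ^ j) {θ : N → ℂ} (hθ : IsIrrCharacter N θ)
    (hinv : ∀ (g : G) (n : N), θ ⟨g * n * g⁻¹, hN.conj_mem (n : G) n.2 g⟩ = θ n)
    {d : ℕ} (hd : θ 1 = d) (hpd : ¬ p ∣ d) (hdet : ¬ p ∣ detOrder θ) :
    ∃ η : K → ℂ, IsIrrCharacter K η ∧ ∀ n : N, η ⟨n, hNK n.2⟩ = θ n := by
  have hp : p.Prime := Fact.out
  haveI hN' : (N.subgroupOf K).Normal := hN.subgroupOf K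
  obtain ⟨χ, ⟨hχ, hχe, -⟩, -⟩ := Cfsg.Agent.S0867.result (N.subgroupOf K) (resSub N K θ)
    (isIrrCharacter_resSub hNK hθ)
    (fun g n => hinv (g : G) ⟨((n : K) : G), Subgroup.mem_subgroupOf.mp n.2⟩) d hd (by
      have e : (N.subgroupOf K).index = p ^ j := hidx
      rw [e]
      apply Nat.Coprime.pow_left
      exact (Nat.Prime.coprime_iff_not_dvd hp).mpr (fun h => (hp.dvd_mul.mp h).elim
        (not_dvd_detOrder_resSub N K hNK (isCharacter_of_irr hθ) hdet) hpd))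
  exact ⟨χ, hχ, fun n => hχe ⟨⟨n, hNK n.2⟩, Subgroup.mem_subgroupOf.mpr n.2⟩⟩

end tr

end Cfsg.Agent.Lib.Helper2.PRat
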