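import Mathlib
import Cfsg.Agent.Lib.Helper2.PRat5
import Cfsg.Agent.Lib.Helper2.PIdxBlock
import Cfsg.Agent.BlockLib.KG.PrinOver
import Cfsg.Agent.S0966

/-!
# Extending a `p`-rational principal block character: existence of an extension, and the
`p`-power index step
-/

set_option autoImplicit false

namespace Cfsg.Agent.Lib.Helper2.PRat

open Cfsg Cfsg.Agent.CharLib Cfsg.Agent.BlockLib Cfsg.Agent.Lib.Helper10

universe u

variable {G : Type u} [Group G] [Finite G] {M : Ideal AlgInt} {p : ℕ} [Fact p.Prime]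

theorem sup_centralizer_normal (N : Subgroup G) [hN : N.Normal] (Q : Sylow p ↥N) :
    (N ⊔ Subgroup.centralizer (((Q : Subgroup ↥N).map N.subtype : Subgroup G) : Set G)).Normal := by
  set Q' : Subgroup G := (Q : Subgroup N).map N.subtype with hQ'
  set C := Subgroup.centralizer (Q' : Set G) with hC'
  have hfr : Subgroup.normalizer (Q' : Set G) ⊔ N = ⊤ := Sylow.normalizer_sup_eq_top Q
  have hC : ∀ x ∈ Subgroup.normalizer (Q' : Set G), ∀ c ∈ C, x * c * x⁻¹ ∈ C := by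
    intro x hx c hc
    rw [hC', Subgroup.mem_centralizer_iff]
    intro q hq
    have hq' : x⁻¹ * q * x ∈ Q' := by
      have := (Subgroup.mem_normalizer_iff.mp ((Subgroup.normalizer (Q' : Set G)).inv_mem hx) q).mp hq
      simpa using this
    have h1 := Subgroup.mem_centralizer_iff.mp hc _ hq'
    calc q * (x * c * x⁻¹) = x * ((x⁻¹ * q * x) * c) * x⁻¹ := by group
      _ = x * (c * (x⁻¹ * q * x)) * x⁻¹ := by rw [h1]
      _ = x * c * x⁻¹ * q := by group
  refine ⟨fun h hh g => ?_⟩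
  have hg : g ∈ ((Subgroup.normalizer (Q' : Set G) ⊔ N : Subgroup G) : Set G) := by
    rw [hfr]; trivial
  rw [Subgroup.mul_normal] at hg
  obtain ⟨x, hx, n, hn, rfl⟩ := Set.mem_mul.mp hg
  have hnH : n ∈ N ⊔ C := (le_sup_left : N ≤ N ⊔ C) hn
  have h1 : n * h * n⁻¹ ∈ N ⊔ C := mul_mem (mul_mem hnH hh) (inv_mem hnH)
  have h2 : (n * h * n⁻¹) ∈ ((N ⊔ C : Subgroup G) : Set G) := h1
  rw [Subgroup.normal_mul] at h2
  obtain ⟨n', hn', c, hc, hnc⟩ := Set.mem_mul.mp h2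
  have e : x * n * h * (x * n)⁻¹ = (x * n' * x⁻¹) * (x * c * x⁻¹) := by
    have : x * n * h * (x * n)⁻¹ = x * (n * h * n⁻¹) * x⁻¹ := by group
    rw [this, ← hnc]; group
  rw [e]
  exact Subgroup.mul_mem_sup (hN.conj_mem n' hn' x) (hC x hx c hc)

theorem exists_ext (hM : IsPModular p M) (N : Subgroup G) [hN : N.Normal] (Q : Sylow p ↥N) {a : ℕ}
    (hidx : (N ⊔ Subgroup.centralizer
      (((Q : Subgroup ↥N).map N.subtype : Subgroup G) : Set G)).index = p ^ a)
    (θ : IrrCharacter N) (hθ : θ ∈ principalBlock M N)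
    (hinv : ∀ (g : G) (n : N), (θ : N → ℂ) ⟨g * n * g⁻¹, hN.conj_mem (n : G) n.2 g⟩ = (θ : N → ℂ) n)
    {d : ℕ} (hd : (θ : N → ℂ) 1 = d) (hpd : ¬ p ∣ d) (hdet : ¬ p ∣ detOrder (θ : N → ℂ)) :
    ∃ χ : G → ℂ, IsIrrCharacter G χ ∧ ∀ n : N, χ n = (θ : N → ℂ) n := by
  classical
  have hp : p.Prime := Fact.out
  refine Cfsg.Agent.S0888.result N θ θ.2 hinv ?_
  intro r hr
  haveI : Fact r.Prime := ⟨hr⟩
  obtain ⟨S⟩ : Nonempty (Sylow r (G ⧸ N)) := inferInstance
  set P : Subgroup G := (S : Subgroup (G ⧸ N)).comap (QuotientGroup.mk' N) with hP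
  have hNP : N ≤ P := by
    intro n hn
    rw [hP, Subgroup.mem_comap]
    have : QuotientGroup.mk' N n = 1 := (QuotientGroup.eq_one_iff n).mpr hn
    rw [this]
    exact (S : Subgroup (G ⧸ N)).one_mem
  have hPi : P.index = (S : Subgroup (G ⧸ N)).index := by
    rw [hP, Subgroup.index_comap_of_surjective _ (QuotientGroup.mk'_surjective N)]
  obtain ⟨j, hj⟩ := IsPGroup.iff_card.mp S.2
  have hrel : N.relIndex P = r ^ j := by
    have h1 := Subgroup.relIndex_mul_index hNP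
    have h2 := Subgroup.card_mul_index (S : Subgroup (G ⧸ N))
    rw [hPi, Subgroup.index_eq_card N, ← h2, hj] at h1
    exact Nat.eq_of_mul_eq_mul_right (Nat.pos_of_ne_zero Subgroup.index_ne_zero_of_finite) h1
  have hcopi : Nat.Coprime P.index r := by
    rw [hPi]
    exact ((Nat.Prime.coprime_iff_not_dvd hr).mpr S.not_dvd_index).symm
  by_cases hrp : r = p
  · subst hrp
    obtain ⟨η, hη, hηe⟩ := ext_p N P hNP hrel θ.2 hinv hd hpd hdet
    exact ⟨P, hNP, η, hcopi, ⟨j, hrel⟩, hη, hηe⟩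
  · set H := N ⊔ Subgroup.centralizer
      (((Q : Subgroup ↥N).map N.subtype : Subgroup G) : Set G) with hH
    haveI hHn : H.Normal := sup_centralizer_normal N Q
    have hPH : P ≤ H := by
      intro x hx
      have h1 : x ^ (r ^ j) ∈ H := by
        apply (le_sup_left : N ≤ H)
        rw [← QuotientGroup.eq_one_iff, QuotientGroup.mk_pow]
        have h2 : (⟨(x : G ⧸ N), hx⟩ : (S : Subgroup (G ⧸ N))) ^ (r ^ j) = 1 := by
          rw [← hj]; exact pow_card_eq_one'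
        exact congrArg Subtype.val h2
      have h3 : ((x : G ⧸ H)) ^ (r ^ j) = 1 := by
        rw [← QuotientGroup.mk_pow]; exact (QuotientGroup.eq_one_iff _).mpr h1
      have h4 : ((x : G ⧸ H)) ^ (p ^ a) = 1 := by
        rw [← hidx, Subgroup.index_eq_card]; exact pow_card_eq_one'
      have h5 : orderOf (x : G ⧸ H) ∣ 1 := by
        have hc : (r ^ j).Coprime (p ^ a) :=
          Nat.Coprime.pow _ _ ((Nat.coprime_primes hr hp).mpr hrp)
        rw [← hc.gcd_eq_one]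
        exact Nat.dvd_gcd (orderOf_dvd_of_pow_eq_one h3) (orderOf_dvd_of_pow_eq_one h4)
      exact (QuotientGroup.eq_one_iff x).mp (orderOf_eq_one_iff.mp (Nat.dvd_one.mp h5))
    obtain ⟨η, hη, hηe⟩ := ext_r N P hNP hM Q hPH (by
      rw [hrel]
      intro h
      exact hrp ((Nat.prime_dvd_prime_iff_eq hp hr).mp (hp.dvd_of_dvd_pow h)).symm) θ hθ
    exact ⟨P, hNP, η, hcopi, ⟨j, hrel⟩, hη, hηe⟩

theorem stage2 (hM : IsPModular p M) (H : Subgroup G) [hH : H.Normal] {a : ℕ}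
    (hidx : H.index = p ^ a) (η : IrrCharacter H) (hpb : η ∈ principalBlock M H)
    (hinv : ∀ (g : G) (n : H), (η : H → ℂ) ⟨g * n * g⁻¹, hH.conj_mem (n : G) n.2 g⟩ = (η : H → ℂ) n)
    {d : ℕ} (hd : (η : H → ℂ) 1 = d) (hpd : ¬ p ∣ d) (hdet : ¬ p ∣ detOrder (η : H → ℂ))
    (K : Set ℕ) (hK : ∀ k ∈ K, k.Coprime (Nat.card G))
    (hpow : ∀ k ∈ K, ∀ h : H, (η : H → ℂ) (h ^ k) = (η : H → ℂ) h) :
    ∃ χ : IrrCharacter G, χ ∈ principalBlock M G ∧ (∀ h : H, (χ : G → ℂ) h = (η : H → ℂ) h) ∧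
      ∀ k ∈ K, ∀ g : G, (χ : G → ℂ) (g ^ k) = (χ : G → ℂ) g := by
  classical
  cases nonempty_fintype G
  have hp : p.Prime := Fact.out
  haveI := isPrime_of_isPModular hM
  have hcop : ∀ m : ℕ, ¬ p ∣ m → Nat.Coprime H.index m := by
    intro m hm
    rw [hidx]
    exact Nat.Coprime.pow_left _ ((Nat.Prime.coprime_iff_not_dvd hp).mpr hm)
  obtain ⟨χ₀, ⟨hχ₀, hχe, hχd⟩, huniq⟩ := Cfsg.Agent.S0867.result H (η : H → ℂ) η.2 hinv d hd
    (hcop _ (fun h => (hp.dvd_mul.mp h).elim hdet hpd))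
  refine ⟨⟨χ₀, hχ₀⟩, ?_, hχe, ?_⟩
  · obtain ⟨B₀, -, hu⟩ := Cfsg.Agent.S0966.result p M hM H ⟨a, hidx⟩ (principalBlock M H)
      isPBlock_principalBlock
    have h1 := hu (principalBlock M G) ⟨isPBlock_principalBlock, PrinOver.covers_principal hM H⟩
    have h2 := hu (blockOf M χ₀) ⟨⟨⟨χ₀, hχ₀⟩, rfl⟩, ⟨χ₀, hχ₀⟩, mem_blockOf_self hM ⟨χ₀, hχ₀⟩, η, hpb, by
      have e : (fun n : H => χ₀ n) = (η : H → ℂ) := funext hχe
      show classInner (fun n : H => χ₀ n) (η : H → ℂ) ≠ 0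
      rw [e, classInner_irr_self η.2]
      exact one_ne_zero⟩
    rw [h1, ← h2]
    exact mem_blockOf_self hM ⟨χ₀, hχ₀⟩
  · intro k hk g
    have hkG := hK k hk
    have e2 := huniq _ (isIrrCharacter_pow hχ₀ k hkG) (fun n => by
      show χ₀ ((n : G) ^ k) = _
      have h1 : (n : G) ^ k = ((n ^ k : H) : G) := by push_cast; rfl
      rw [h1, hχe, hpow k hk]) (by
      apply hcop
      intro hcon
      apply hdet
      rw [← hχd]
      refine hcon.trans ?_
      unfold detOrder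
      rw [detChar_pow (isCharacter_of_irr hχ₀) k hkG]
      exact orderOf_pow_dvd k)
    exact congrFun e2 g

end Cfsg.Agent.Lib.Helper2.PRat
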