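import Mathlib
import Cfsg.Agent.Lib.Helper2.PRat6
import Cfsg.Agent.Lib.Helper2.RelGlau3

/-!
# Extending a `p`-rational principal block character: the step `N ≤ N C_G(Q)`
-/

set_option autoImplicit false

namespace Cfsg.Agent.Lib.Helper2.PRat

open Cfsg Cfsg.Agent.CharLib Cfsg.Agent.BlockLib Cfsg.Agent.Lib.Helper10

universe u

theorem not_dvd_detOrder_comp {p : ℕ} {X Y : Type*} [Group X] [Group Y] [Finite X] [Finite Y]
    {χ : X → ℂ} (hχ : IsCharacter X χ) (f : Y →* X) (h : ¬ p ∣ detOrder χ) :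
    ¬ p ∣ detOrder (fun y => χ (f y)) := by
  intro hcon
  apply h
  refine hcon.trans ?_
  apply orderOf_dvd_of_pow_eq_one
  funext x
  have h1 := congrFun (Cfsg.Agent.S0863.detChar_comp hχ f) x
  rw [Pi.pow_apply, h1]
  have h3 := congrFun (pow_orderOf_eq_one (detChar χ)) (f x)
  rw [Pi.pow_apply] at h3
  exact h3

variable {G : Type u} [Group G] [Finite G] {M : Ideal AlgInt} {p : ℕ} [Fact p.Prime]

theorem stage1 (hM : IsPModular p M) (N : Subgroup G) [hN : N.Normal] (Q : Sylow p ↥N)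
    (H : Subgroup G) [hH : H.Normal]
    (hHdef : H = N ⊔ Subgroup.centralizer (((Q : Subgroup ↥N).map N.subtype : Subgroup G) : Set G))
    (hNH : N ≤ H) (θ : IrrCharacter N) (hθ : θ ∈ principalBlock M N)
    (ψ : G → ℂ) (hψ : IsIrrCharacter G ψ) (hψe : ∀ n : N, ψ n = (θ : N → ℂ) n)
    {d : ℕ} (hd : (θ : N → ℂ) 1 = d) (hpd : ¬ p ∣ d) (hdet : ¬ p ∣ detOrder (θ : N → ℂ))
    (K : Set ℕ) (hK : ∀ k ∈ K, k.Coprime (Nat.card G) ∧
      k ≡ 1 [MOD Nat.card G / p ^ (Nat.card G).factorization p])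
    (hpow : ∀ k ∈ K, ∀ x : N, (θ : N → ℂ) (x ^ k) = (θ : N → ℂ) x) :
    ∃ η : IrrCharacter H, η ∈ principalBlock M H ∧
      (∀ n : N, (η : H → ℂ) ⟨n, hNH n.2⟩ = (θ : N → ℂ) n) ∧ ¬ p ∣ detOrder (η : H → ℂ) ∧
      (∀ (g : G) (h : H), (η : H → ℂ) ⟨g * h * g⁻¹, hH.conj_mem h h.2 g⟩ = (η : H → ℂ) h) ∧
      ∀ k ∈ K, ∀ h : H, (η : H → ℂ) (h ^ k) = (η : H → ℂ) h := by
  classical
  have hp : p.Prime := Fact.out
  cases nonempty_fintype G
  haveI : Fintype H := Fintype.ofFinite _
  haveI : Fintype N := Fintype.ofFinite _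
  haveI hN' : (N.subgroupOf H).Normal := hN.subgroupOf H
  have hψH : IsIrrCharacter H (fun x : H => ψ x) := by
    apply isIrr_of_res_irr hNH (isCharacter_restrict (isCharacter_of_irr hψ) H)
    have e : resTo hNH (fun x : H => ψ x) = (θ : N → ℂ) := funext hψe
    rw [e]; exact θ.2
  obtain ⟨P', hP'⟩ := exists_sylow_cover N H hNH Q (le_of_eq hHdef)
  have S : GrCent.Setup p M (N.subgroupOf H) (fun x : H => ψ x) :=
    GrCent.setup_of_cover hM (N.subgroupOf H) P' hP'
      ⟨resSub N H θ, isIrrCharacter_resSub hNH θ.2⟩ (resSub_mem_pb N H hNH hθ) ⟨_, hψH⟩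
      (fun x => hψe ⟨((x : H) : G), Subgroup.mem_subgroupOf.mp x.2⟩)
  have hd' : (fun x : H => ψ x) 1 = d := by
    show ψ ((1 : H) : G) = d
    rw [← hd]; exact hψe 1
  have hresfun : (fun n : N.subgroupOf H => (fun x : H => ψ x) n) = resSub N H θ :=
    funext (fun x => hψe ⟨((x : H) : G), Subgroup.mem_subgroupOf.mp x.2⟩)
  have hdet' : ¬ p ∣ detOrder (fun n : N.subgroupOf H => (fun x : H => ψ x) n) := by
    rw [hresfun]; exact not_dvd_detOrder_resSub N H hNH (isCharacter_of_irr θ.2) hdet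
  obtain ⟨η, hη, hr, hA, hηd⟩ := S.exists_canon hd' hpd hdet'
  have huniq := fun η' h1 h2 h3 h4 => S.canon_unique hd' hpd hη hr hA hηd (η' := η') h1 h2 h3 h4
  have hη1 : η 1 = d := by
    have := hr 1
    rw [← hd']; exact this
  refine ⟨⟨η, hη⟩, GrCent.Aug.mem_pb hη hA, fun n => ?_, hηd, ?_, ?_⟩
  · exact (hr ⟨⟨n, hNH n.2⟩, Subgroup.mem_subgroupOf.mpr n.2⟩).trans (hψe n)
  · intro g h
    let α : H ≃* H := MulAut.conjNormal g
    have hα : ∀ x : H, ((α x : H) : G) = g * x * g⁻¹ := fun x => MulAut.conjNormal_apply g x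
    have e := huniq (fun x => η (α x))
      (isIrrCharacter_comp_of_surjective hη α.toMonoidHom α.surjective) (by
        intro n
        have hmem : α (n : H) ∈ N.subgroupOf H := by
          rw [Subgroup.mem_subgroupOf, hα]
          exact hN.conj_mem _ (Subgroup.mem_subgroupOf.mp n.2) g
        have h1 : η (α n) = ψ ((α (n : H) : H) : G) := hr ⟨α n, hmem⟩
        show η (α n) = ψ ((n : H) : G)
        rw [h1, hα]
        exact isClassFunction_of_irr hψ _ g) (hA.comp_equiv α (by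
        intro n hn
        rw [Subgroup.mem_subgroupOf]
        have h1 : ((α.symm n : H) : G) = g⁻¹ * n * g := MulAut.conjNormal_symm_apply g n
        rw [h1]
        have h2 := hN.conj_mem _ (Subgroup.mem_subgroupOf.mp hn) g⁻¹
        simpa using h2))
      (not_dvd_detOrder_comp (isCharacter_of_irr hη) α.toMonoidHom hηd)
    have h3 := congrFun e h
    have e2 : α h = ⟨g * h * g⁻¹, hH.conj_mem h h.2 g⟩ := Subtype.ext (hα h)
    rw [← e2]; exact h3
  · intro k hk h
    obtain ⟨hk1, hk2⟩ := hK k hk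
    have hkH : k.Coprime (Nat.card H) :=
      Nat.Coprime.coprime_dvd_right (Subgroup.card_subgroup_dvd_card H) hk1
    have hk2H : k ≡ 1 [MOD Nat.card H / p ^ (Nat.card H).factorization p] :=
      hk2.of_dvd (Nat.ordCompl_dvd_ordCompl_of_dvd (Subgroup.card_subgroup_dvd_card H) p)
    have e := huniq (fun x => η (x ^ k)) (isIrrCharacter_pow hη k hkH) (by
        intro n
        show η ((n : H) ^ k) = ψ ((n : H) : G)
        have h1 : η (((n ^ k : N.subgroupOf H) : H)) = ψ ((((n ^ k : N.subgroupOf H) : H)) : G) :=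
          hr (n ^ k)
        have h2 : (((n ^ k : N.subgroupOf H) : H)) = (n : H) ^ k := by push_cast; rfl
        rw [h2] at h1
        rw [h1]
        have h3 := hpow k hk ⟨((n : H) : G), Subgroup.mem_subgroupOf.mp n.2⟩
        rw [← hψe, ← hψe] at h3
        exact h3) (hA.pow hM (isCharacter_of_irr hη) hη1 hpd k hk2H) (by
        intro hcon
        apply hηd
        refine hcon.trans ?_
        unfold detOrder
        rw [detChar_pow (isCharacter_of_irr hη) k hkH]
        exact orderOf_pow_dvd k)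
    exact congrFun e h

end Cfsg.Agent.Lib.Helper2.PRat
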