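import Mathlib
import Cfsg.Prelude.Def_Involutions
import Cfsg.Agent.Lib.Helper2.Dihedral

set_option autoImplicit false

namespace Cfsg.Agent.Lib.Helper2

variable {G : Type*} [Group G]

theorem even_card_iff_exists_involution [Finite G] (K : Subgroup G) :
    Even (Nat.card K) ↔ ∃ t ∈ K, orderOf t = 2 := by
  have : Fact (Nat.Prime 2) := ⟨Nat.prime_two⟩
  constructor
  · intro h
    obtain ⟨t, ht⟩ := exists_prime_orderOf_dvd_card' (G := K) 2 h.two_dvd
    exact ⟨t.1, t.2, by rw [Subgroup.orderOf_coe, ht]⟩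
  · rintro ⟨t, htK, ht⟩
    rw [even_iff_two_dvd, ← ht, ← Subgroup.orderOf_mk t htK]
    exact orderOf_dvd_natCard _

theorem mem_map_conj_iff (H : Subgroup G) (g x : G) :
    x ∈ H.map (MulAut.conj g).toMonoidHom ↔ g⁻¹ * x * g ∈ H := by
  constructor
  · rintro ⟨y, hy, rfl⟩
    have : g⁻¹ * (MulAut.conj g).toMonoidHom y * g = y := by
      simp [MulAut.conj_apply, mul_assoc]
    rwa [this]
  · intro h
    exact ⟨_, h, by simp [MulAut.conj_apply, mul_assoc]⟩

/-- Elementwise form of strong embedding. -/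
theorem isStronglyEmbedded_iff [Finite G] (H : Subgroup G) (hH : H ≠ ⊤)
    (heven : Even (Nat.card H)) :
    Cfsg.IsStronglyEmbedded H ↔
      ∀ g : G, ∀ t ∈ H, orderOf t = 2 → g⁻¹ * t * g ∈ H → g ∈ H := by
  unfold Cfsg.IsStronglyEmbedded
  constructor
  · rintro ⟨-, -, h⟩ g t htH ht hg
    by_contra hgH
    have h1 := h g hgH
    rw [← Nat.not_even_iff_odd] at h1
    exact h1 ((even_card_iff_exists_involution _).mpr
      ⟨t, ⟨htH, (mem_map_conj_iff H g t).mpr hg⟩, ht⟩)
  · intro h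
    refine ⟨hH, heven, fun g hg => ?_⟩
    rw [← Nat.not_even_iff_odd]
    intro h1
    obtain ⟨t, ⟨htH, htg⟩, ht⟩ := (even_card_iff_exists_involution _).mp h1
    exact hg (h g t htH ht ((mem_map_conj_iff H g t).mp htg))

end Cfsg.Agent.Lib.Helper2
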