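import Mathlib
import Cfsg.Agent.Lib.Helper2.StronglyEmb
import Cfsg.Agent.Lib.Helper2.Isolated

set_option autoImplicit false

namespace Cfsg.Agent.Lib.Helper2

variable {G : Type*} [Group G]

/-- normalizers grow in finite p-groups -/
theorem exists_mem_normalizer_notMem {p : ℕ} [Fact p.Prime] {P D : Subgroup G} [Finite P]
    (hP : IsPGroup p P) (hlt : D < P) :
    ∃ x ∈ P, x ∈ Subgroup.normalizer (D : Set G) ∧ x ∉ D := by
  have : Group.IsNilpotent P := hP.isNilpotent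
  have hnc := Group.normalizerCondition_of_isNilpotent (G := P)
  have h1 : D.subgroupOf P < ⊤ := by
    rw [lt_top_iff_ne_top]
    intro h
    exact (not_le_of_gt hlt) (Subgroup.subgroupOf_eq_top.1 h)
  have h2 := hnc _ h1
  obtain ⟨x, hx, hxD⟩ := SetLike.exists_of_lt h2
  rw [← Subgroup.subgroupOf_normalizer_eq hlt.le] at hx
  exact ⟨x, x.2, hx, hxD⟩

theorem conj_mem_normalizer_map_conj (Y : Subgroup G) (c n : G)
    (hn : n ∈ Subgroup.normalizer (Y : Set G)) :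
    c * n * c⁻¹ ∈ Subgroup.normalizer ((Y.map (MulAut.conj c).toMonoidHom : Subgroup G) : Set G) := by
  rw [Subgroup.mem_normalizer_iff] at hn ⊢
  intro h
  rw [mem_map_conj_iff, mem_map_conj_iff, hn (c⁻¹ * h * c)]
  have : c⁻¹ * (c * n * c⁻¹ * h * (c * n * c⁻¹)⁻¹) * c = n * (c⁻¹ * h * c) * n⁻¹ := by group
  rw [this]

theorem map_conj_ne_bot (Y : Subgroup G) (c : G) (hY : Y ≠ ⊥) :
    Y.map (MulAut.conj c).toMonoidHom ≠ ⊥ := by
  intro h
  apply hY
  rw [Subgroup.map_eq_bot_iff_of_injective] at h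
  · exact h
  · exact (MulAut.conj c).injective

/-- If normalizers of nontrivial subgroups of a Sylow 2-subgroup `P` of `H` lie in `H`, the same
holds for all nontrivial 2-subgroups of `H`. -/
theorem normalizer_le_of_sylow [Finite G] (H : Subgroup G) (P : Sylow 2 ↥H)
    (hN : ∀ X : Subgroup ↥H, X ≤ (P : Subgroup ↥H) → X ≠ ⊥ →
      Subgroup.normalizer ((X.map H.subtype : Subgroup G) : Set G) ≤ H)
    (Y : Subgroup G) (hYH : Y ≤ H) (hY2 : IsPGroup 2 Y) (hY : Y ≠ ⊥) :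
    Subgroup.normalizer (Y : Set G) ≤ H := by
  have : Fact (Nat.Prime 2) := ⟨Nat.prime_two⟩
  have hY' : IsPGroup 2 (Y.subgroupOf H) := hY2.comap_subtype
  obtain ⟨Q, hQ⟩ := hY'.exists_le_sylow
  obtain ⟨h, rfl⟩ := MulAction.exists_smul_eq H P Q
  set Z : Subgroup G := Y.map (MulAut.conj (h : G)⁻¹).toMonoidHom with hZ
  have hZH : Z ≤ H := by
    intro z hz
    rw [hZ, mem_map_conj_iff, inv_inv] at hz
    have h1 := hYH hz
    have h2 := H.mul_mem (H.mul_mem (H.inv_mem h.2) h1) h.2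
    have h3 : (h : G)⁻¹ * ((h : G) * z * (h : G)⁻¹) * h = z := by group
    rwa [h3] at h2
  have hmap : (Z.subgroupOf H).map H.subtype = Z := Subgroup.map_subgroupOf_eq_of_le hZH
  have hle : Z.subgroupOf H ≤ (P : Subgroup ↥H) := by
    intro z hz
    rw [Subgroup.mem_subgroupOf, hZ, mem_map_conj_iff, inv_inv] at hz
    have h1 : h * z * h⁻¹ ∈ Y.subgroupOf H := by
      rw [Subgroup.mem_subgroupOf]; exact hz
    have h2 := hQ h1
    have h2' : h * z * h⁻¹ ∈ h • P := h2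
    rw [mem_sylow_smul_iff] at h2'
    have h3 : h⁻¹ * (h * z * h⁻¹) * h = z := by group
    rwa [h3] at h2'
  have hne : Z.subgroupOf H ≠ ⊥ := by
    intro hb
    have : Z = ⊥ := by rw [← hmap, hb, Subgroup.map_bot]
    exact map_conj_ne_bot Y _ hY this
  have key := hN _ hle hne
  rw [hmap] at key
  intro n hn
  have h1 := key (conj_mem_normalizer_map_conj Y (h : G)⁻¹ n hn)
  have h2 := H.mul_mem (H.mul_mem h.2 h1) (H.inv_mem h.2)
  have h3 : (h : G) * ((h : G)⁻¹ * n * (h : G)⁻¹⁻¹) * (h : G)⁻¹ = n := by group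
  rwa [h3] at h2

/-- A 2-subgroup of `D`, containing `t`, maximal among 2-subgroups of `D`. -/
theorem exists_max_two_subgroup [Finite G] (D : Subgroup G) {t : G} (htD : t ∈ D)
    (ht : orderOf t = 2) : ∃ S : Subgroup G, S ≤ D ∧ t ∈ S ∧ IsPGroup 2 S ∧
      ∀ Y : Subgroup G, IsPGroup 2 Y → S ≤ Y → Y ≤ D → Y = S := by
  have : Fact (Nat.Prime 2) := ⟨Nat.prime_two⟩
  have htp : IsPGroup 2 (Subgroup.zpowers (⟨t, htD⟩ : D)) := by
    apply IsPGroup.of_card (n := 1)
    rw [Nat.card_zpowers, Subgroup.orderOf_mk, ht, pow_one]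
  obtain ⟨S₀, hS₀⟩ := htp.exists_le_sylow
  refine ⟨(S₀ : Subgroup D).map D.subtype, ?_, ?_, S₀.2.map _, ?_⟩
  · exact Subgroup.map_subtype_le _
  · exact ⟨⟨t, htD⟩, hS₀ (Subgroup.mem_zpowers _), rfl⟩
  · intro Y hY hSY hYD
    have h1 : Y.subgroupOf D = S₀ := by
      apply S₀.is_maximal' hY.comap_subtype
      exact Subgroup.map_le_iff_le_comap.mp hSY
    rw [← h1, Subgroup.map_subgroupOf_eq_of_le hYD]

end Cfsg.Agent.Lib.Helper2
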