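import Mathlib
import Cfsg.Agent.Lib.Helper2.Dihedral

/-!
# Groups of 2-rank one: reduction to the Z*-theorem (helper library of helper2)
-/

set_option autoImplicit false

namespace Cfsg.Agent.Lib.Helper2

variable {G : Type*} [Group G]

theorem exists_isKleinFour_of_commuting_involutions {z t : G} (hz : orderOf z = 2)
    (ht : orderOf t = 2) (hc : z * t = t * z) (hne : z ≠ t) : ∃ E : Subgroup G, IsKleinFour E := by
  classical
  have hz2 := sq_eq_one_of_orderOf_two hz
  have ht2 := sq_eq_one_of_orderOf_two ht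
  have hz1 := ne_one_of_orderOf_two hz
  have ht1 := ne_one_of_orderOf_two ht
  have hw2 : (z * t) * (z * t) = 1 := by
    calc z * t * (z * t) = z * (t * z) * t := by group
      _ = z * (z * t) * t := by rw [hc]
      _ = (z * z) * (t * t) := by group
      _ = 1 := by rw [hz2, ht2, one_mul]
  have hwk : ∀ k : ℤ, (z * t) ^ k = 1 ∨ (z * t) ^ k = z * t := by
    intro k
    rcases Int.even_or_odd' k with ⟨i, rfl | rfl⟩
    · left
      rw [zpow_mul, zpow_ofNat, pow_two, hw2, one_zpow]
    · right
      rw [zpow_add, zpow_mul, zpow_ofNat, pow_two, hw2, one_zpow, one_mul, zpow_one]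
  have hset : ((Subgroup.closure ({z, t} : Set G) : Subgroup G) : Set G) = {1, z, t, z * t} := by
    ext d
    rw [SetLike.mem_coe, mem_closure_pair_iff hz2 ht2]
    simp only [Set.mem_insert_iff, Set.mem_singleton_iff]
    constructor
    · rintro ⟨k, rfl | rfl⟩
      · rcases hwk k with h | h <;> rw [h] <;> simp
      · rcases hwk k with h | h <;> rw [h]
        · simp
        · right; right; left
          rw [hc, mul_assoc, hz2, mul_one]
    · rintro (rfl | rfl | rfl | rfl)
      · exact ⟨0, Or.inl (by simp)⟩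
      · exact ⟨0, Or.inr (by simp)⟩
      · refine ⟨1, Or.inr ?_⟩
        rw [zpow_one, hc, mul_assoc, hz2, mul_one]
      · exact ⟨1, Or.inl (by simp)⟩
  have hzt1 : z * t ≠ 1 := by
    intro h
    apply hne
    calc z = z * (t * t) := by rw [ht2, mul_one]
      _ = (z * t) * t := by group
      _ = t := by rw [h, one_mul]
  have hztz : z * t ≠ z := by
    intro h
    exact ht1 (by simpa using h)
  have hztt : z * t ≠ t := by
    intro h
    exact hz1 (by simpa using h)
  refine ⟨Subgroup.closure ({z, t} : Set G), ?_, ?_⟩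
  · have h1 : Nat.card (Subgroup.closure ({z, t} : Set G)) =
        Set.ncard ((Subgroup.closure ({z, t} : Set G) : Subgroup G) : Set G) := rfl
    rw [h1, hset]
    rw [Set.ncard_insert_of_notMem, Set.ncard_insert_of_notMem, Set.ncard_insert_of_notMem,
      Set.ncard_singleton]
    · simp only [Set.mem_singleton_iff]
      exact fun h => hztt h.symm
    · simp only [Set.mem_insert_iff, Set.mem_singleton_iff, not_or]
      exact ⟨hne, fun h => hztz h.symm⟩
    · simp only [Set.mem_insert_iff, Set.mem_singleton_iff, not_or]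
      exact ⟨hz1.symm, ht1.symm, hzt1.symm⟩
  · have hall : ∀ d : Subgroup.closure ({z, t} : Set G), d ^ 2 = 1 := by
      rintro ⟨d, hd⟩
      apply Subtype.ext
      have hd' : d ∈ ((Subgroup.closure ({z, t} : Set G) : Subgroup G) : Set G) := hd
      rw [hset] at hd'
      simp only [Set.mem_insert_iff, Set.mem_singleton_iff] at hd'
      simp only [SubmonoidClass.mk_pow, Subgroup.coe_one]
      rw [pow_two]
      rcases hd' with rfl | rfl | rfl | rfl
      · simp
      · exact hz2
      · exact ht2
      · exact hw2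
    have h1 : Monoid.exponent (Subgroup.closure ({z, t} : Set G)) ∣ 2 :=
      Monoid.exponent_dvd_of_forall_pow_eq_one hall
    rcases (Nat.dvd_prime Nat.prime_two).mp h1 with h2 | h2
    · exfalso
      have h3 := Monoid.exp_eq_one_iff.mp h2
      have h4 : (⟨z, Subgroup.subset_closure (by simp)⟩ : Subgroup.closure ({z, t} : Set G)) = 1 :=
        Subsingleton.elim _ _
      exact hz1 (congrArg Subtype.val h4)
    · exact h2

theorem two_rank_one_of_zstar [Finite G] (heven : Even (Nat.card G))
    (hrank : ∀ E : Subgroup G, ¬ IsKleinFour E)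
    (hZ : ∀ (P : Sylow 2 G) (u : G), orderOf u = 2 → u ∈ P →
      (∀ g : G, g * u * g⁻¹ ∈ P → g * u * g⁻¹ = u) →
      ∃ N : Subgroup G, N.Normal ∧ Odd (Nat.card N) ∧ ∀ g : G, (u * g * u⁻¹ * g⁻¹) ∈ N) :
    ∃ z : G, orderOf z = 2 ∧ ∃ N : Subgroup G, N.Normal ∧ Odd (Nat.card N) ∧
      ∀ g : G, z * g * z⁻¹ * g⁻¹ ∈ N := by
  have : Fact (Nat.Prime 2) := ⟨Nat.prime_two⟩
  obtain ⟨P⟩ : Nonempty (Sylow 2 G) := inferInstance
  have hPne : Nontrivial (P : Subgroup G) := by
    rw [Subgroup.nontrivial_iff_ne_bot]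
    exact P.ne_bot_of_dvd_card heven.two_dvd
  have hcn : Nontrivial (Subgroup.center (P : Subgroup G)) := P.2.center_nontrivial
  have hcp : IsPGroup 2 (Subgroup.center (P : Subgroup G)) := P.2.to_subgroup _
  have h2 : 2 ∣ Nat.card (Subgroup.center (P : Subgroup G)) := by
    obtain ⟨k, hk⟩ := hcp.exists_card_eq
    rcases k with _ | k
    · exfalso
      rw [pow_zero] at hk
      have := (Nat.card_eq_one_iff_unique.mp hk).1
      exact not_subsingleton _ this
    · rw [hk, pow_succ]; exact Dvd.intro_left _ rfl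
  obtain ⟨c, hc⟩ := exists_prime_orderOf_dvd_card' 2 h2
  have hz : orderOf ((c : (P : Subgroup G)) : G) = 2 := by
    rw [Subgroup.orderOf_coe, Subgroup.orderOf_coe, hc]
  refine ⟨((c : (P : Subgroup G)) : G), hz, hZ P _ hz (c : (P : Subgroup G)).2 ?_⟩
  intro g hg
  by_contra hne
  have ho : orderOf (g * ((c : (P : Subgroup G)) : G) * g⁻¹) = 2 := by
    exact (orderOf_injective (MulAut.conj g).toMonoidHom (MulAut.conj g).injective _).trans hz
  have hcomm : ((c : (P : Subgroup G)) : G) * (g * ((c : (P : Subgroup G)) : G) * g⁻¹) =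
      (g * ((c : (P : Subgroup G)) : G) * g⁻¹) * ((c : (P : Subgroup G)) : G) := by
    have := Subgroup.mem_center_iff.mp c.2 ⟨_, hg⟩
    exact (congrArg Subtype.val this).symm
  obtain ⟨E, hE⟩ := exists_isKleinFour_of_commuting_involutions hz ho hcomm (fun h => hne h.symm)
  exact hrank E hE

end Cfsg.Agent.Lib.Helper2
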